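import Mathlib
import Groth.Prelude.Def_PBC
import Groth.Agent.EtFLC.Serre
import Groth.Agent.EtMV.Tate

/-! Finite locally constant sheaves: description by restriction to etale schemes, and inverse images. -/

universe u

open CategoryTheory CategoryTheory.Limits AlgebraicGeometry Opposite

set_option backward.isDefEq.respectTransparency false
set_option backward.isDefEq.respectTransparency.types false

noncomputable section

namespace Groth.Agent.EtCons

/-- Restriction of sections. -/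
local notation "rs" => Groth.Agent.EtFLC.res

variable {X W : Scheme.{u}}

theorem nonempty_restr_iso_of_isTriv (F : EtCoh.Ab X) (U : X.Etale) [Etale U.hom] [EtShriek.JCont U.hom]
    {M : Type} [AddCommGroup M] (σ : M →+ EtCoh.sect F U) (hσ : EtFLC.IsTriv F U σ) :
    Nonempty ((EtShriek.restrAlong U.hom).obj F ≅ EtCoh.const U.left M) := by
  let C := EtShriek.compEtale U.hom
  let g : ∀ T : U.left.Etale, C.obj T ⟶ U := fun T => MorphismProperty.Over.homMk T.hom rfl
  let R := (EtShriek.restrAlong U.hom).obj F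
  let ψ : EtMV.cPre0 U.left M ⟶ R.obj :=
    { app := fun T => AddCommGrpCat.ofHom (((rs F (g T.unop)).comp σ).comp AddEquiv.ulift.toAddMonoidHom)
      naturality := fun T T' k => by
        ext m
        show rs F (g T'.unop) (σ m.down) = rs F (C.map k.unop) (rs F (g T.unop) (σ m.down))
        rw [EtFLC.res_res]
        congr 2
        apply MorphismProperty.Over.Hom.ext
        exact (MorphismProperty.Over.w k.unop).symm }
  haveI : Presheaf.IsLocallyInjective U.left.smallEtaleTopology ψ := by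
    refine ⟨fun {T} a b hab => (EtFLC.mem_iff _).2 fun v => ⟨T.unop, 𝟙 _, v, ?_, rfl⟩⟩
    have : a = b := ULift.ext _ _ (hσ.injective (g T.unop) v hab)
    rw [this]
    show (EtMV.cPre0 U.left M).map _ b = (EtMV.cPre0 U.left M).map _ b
    rfl
  haveI : Presheaf.IsLocallySurjective U.left.smallEtaleTopology ψ := by
    refine ⟨fun {T} s => (EtFLC.mem_iff _).2 fun v => ?_⟩
    obtain ⟨W, h, w, m, hw, hm⟩ := hσ.surj (g T) s v
    let V' := (EtShriek.compEtaleLift U.hom h).1
    let i : C.obj V' ≅ W := (EtShriek.compEtaleLift U.hom h).2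
    let a : V' ⟶ T := MorphismProperty.Over.homMk h.left rfl
    have ha : C.map a = i.hom ≫ h := by
      apply MorphismProperty.Over.Hom.ext
      exact (Category.id_comp _).symm
    have hg : g V' = i.hom ≫ h ≫ g T := by
      apply MorphismProperty.Over.Hom.ext
      show h.left ≫ T.hom = 𝟙 _ ≫ h.left ≫ T.hom
      exact (Category.id_comp _).symm
    refine ⟨V', a, w, ⟨⟨m⟩, ?_⟩, hw⟩
    show rs F (g V') (σ m) = rs F (C.map a) s
    rw [hg, ha, ← EtFLC.res_res F i.hom, ← EtFLC.res_res F i.hom, hm]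
  haveI : IsIso ((presheafToSheaf U.left.smallEtaleTopology AddCommGrpCat.{u + 1}).map ψ) := by
    rw [← GrothendieckTopology.W_iff, GrothendieckTopology.W_iff_isLocallyBijective]
    exact ⟨inferInstance, inferInstance⟩
  exact ⟨(sheafificationIso R) ≪≫
    (asIso ((presheafToSheaf U.left.smallEtaleTopology AddCommGrpCat.{u + 1}).map ψ)).symm⟩

theorem exists_isTriv_of_iso (F : EtCoh.Ab X) (g : W ⟶ X) [Etale g] [EtShriek.JCont g]
    {M : Type} [AddCommGroup M] (e : (EtShriek.restrAlong g).obj F ≅ EtCoh.const W M) :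
    ∃ σ : M →+ EtCoh.sect F ((EtShriek.compEtale g).obj (EtCoh.top W)),
      EtFLC.IsTriv F ((EtShriek.compEtale g).obj (EtCoh.top W)) σ := by
  let C := EtShriek.compEtale g
  let R := (EtShriek.restrAlong g).obj F
  let eT : ∀ T : W.Etale, EtCoh.sect R T →+ EtCoh.sect (EtCoh.const W M) T :=
    fun T => (e.hom.hom.app (op T)).hom
  let eI : ∀ T : W.Etale, EtCoh.sect (EtCoh.const W M) T →+ EtCoh.sect R T :=
    fun T => (e.inv.hom.app (op T)).hom
  have hIT : ∀ (T : W.Etale) x, eI T (eT T x) = x := fun T x => ConcreteCategory.congr_hom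
    (congr_app (congrArg (fun k => k.hom) e.hom_inv_id) (op T)) x
  have hTI : ∀ (T : W.Etale) x, eT T (eI T x) = x := fun T x => ConcreteCategory.congr_hom
    (congr_app (congrArg (fun k => k.hom) e.inv_hom_id) (op T)) x
  have key : ∀ {V : X.Etale} (k : V ⟶ C.obj (EtCoh.top W)), ∃ (T : W.Etale) (i : C.obj T ≅ V) (a : T ⟶ EtCoh.top W),
      i.hom ≫ k = C.map a := by
    intro V k
    refine ⟨(EtShriek.compEtaleLift g k).1, (EtShriek.compEtaleLift g k).2, MorphismProperty.Over.homMk k.left rfl, ?_⟩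
    apply MorphismProperty.Over.Hom.ext
    exact Category.id_comp _
  let σ : M →+ EtCoh.sect F (C.obj (EtCoh.top W)) := (eI (EtCoh.top W)).comp (EtMV.cstHom (EtCoh.top W))
  have hσ : ∀ {T : W.Etale} (a : T ⟶ EtCoh.top W) (m : M), rs F (C.map a) (σ m) = eI T (EtMV.cst T m) := by
    intro T a m
    show rs R a (eI (EtCoh.top W) (EtMV.cst (EtCoh.top W) m)) = _
    refine (EtFLC.app_res e.inv a _).symm.trans ?_
    exact congrArg (eI T) (EtMV.res_cst a m)
  refine ⟨σ, ⟨fun {V} k s v => ?_, fun {V} k m hm v => ?_⟩⟩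
  · obtain ⟨T, i, a, hi⟩ := key k
    let s' : EtCoh.sect R T := rs F i.hom s
    obtain ⟨Z, h, z, m, hz, hm⟩ := EtMV.exists_cst (eT T s') (i.inv.left v)
    have hv : i.hom.left (i.inv.left v) = v := by
      rw [← EtFLC.comp_left_apply, i.inv_hom_id]; rfl
    refine ⟨C.obj Z, C.map h ≫ i.hom, z, m, ?_, ?_⟩
    · rw [EtFLC.comp_left_apply]
      exact (congrArg i.hom.left hz).trans hv
    · rw [Category.assoc, hi, ← Functor.map_comp, hσ, ← EtFLC.res_res]
      show rs R h s' = eI Z (EtMV.cst Z m)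
      rw [← hm, ← hIT Z (rs R h s')]
      exact congrArg (eI Z) (EtFLC.app_res e.hom h s')
  · obtain ⟨T, i, a, hi⟩ := key k
    have h0 : eI T (EtMV.cst T m) = 0 := by
      rw [← hσ a, ← hi, ← EtFLC.res_res, hm, map_zero]
    have h1 : EtMV.cst T m = EtMV.cst T 0 := by
      have := congrArg (eT T) h0
      rw [hTI, map_zero] at this
      rw [this, ← EtMV.cstHom_apply, map_zero]
    exact EtMV.cst_inj (W := T) (i.inv.left v) h1

theorem isFLC_iff_local (F : EtCoh.Ab X) :
    EtCoh.IsFiniteLocallyConstant F ↔ ∀ x : X, ∃ (W : Scheme.{u}) (g : W ⟶ X) (_ : Etale g) (w : W)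
      (M : Type) (_ : AddCommGroup M) (_ : Finite M),
      g w = x ∧ Nonempty ((EtCoh.pull g).obj F ≅ EtCoh.const W M) := by
  rw [EtFLC.isFLC_iff]
  constructor
  · intro h x
    obtain ⟨U, u, M, iM, fM, σ, hu, hσ⟩ := h x
    haveI : Etale U.hom := U.prop
    haveI := EtMV.jcont_etale U.hom
    obtain ⟨e⟩ := nonempty_restr_iso_of_isTriv F U σ hσ
    exact ⟨U.left, U.hom, inferInstance, u, M, iM, fM, hu, ⟨((EtPushStalk.restrPullIso U.hom).app F).symm ≪≫ e⟩⟩
  · intro h x
    obtain ⟨W, g, hg, w, M, iM, fM, hw, ⟨e⟩⟩ := h x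
    haveI := hg
    haveI := EtMV.jcont_etale g
    obtain ⟨σ, hσ⟩ := exists_isTriv_of_iso F g ((EtPushStalk.restrPullIso g).app F ≪≫ e)
    refine ⟨(EtShriek.compEtale g).obj (EtCoh.top W), w, M, iM, fM, σ, ?_, hσ⟩
    show (𝟙 W ≫ g) w = x
    rw [Category.id_comp]
    exact hw

theorem nonempty_pull_pull {A B C : Scheme.{u}} (f : A ⟶ B) (g : B ⟶ C) (h : A ⟶ C) (w : f ≫ g = h) :
    Nonempty ((EtCoh.pull g ⋙ EtCoh.pull f) ≅ EtCoh.pull h) :=
  ⟨(EtCore.pullComp f g).symm ≪≫ EtCore.pullCongr w⟩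

theorem isFLC_of_iso {F G : EtCoh.Ab X} (i : F ≅ G) (h : EtCoh.IsFiniteLocallyConstant F) :
    EtCoh.IsFiniteLocallyConstant G := by
  rw [isFLC_iff_local] at h ⊢
  intro x
  obtain ⟨W, g, hg, w, M, iM, fM, hw, ⟨e⟩⟩ := h x
  exact ⟨W, g, hg, w, M, iM, fM, hw, ⟨(EtCoh.pull g).mapIso i.symm ≪≫ e⟩⟩

theorem isFLC_pull {Y : Scheme.{u}} (f : X ⟶ Y) {F : EtCoh.Ab Y} (h : EtCoh.IsFiniteLocallyConstant F) :
    EtCoh.IsFiniteLocallyConstant ((EtCoh.pull f).obj F) := by
  rw [isFLC_iff_local] at h ⊢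
  intro x
  obtain ⟨W, g, hg, w, M, iM, fM, hw, ⟨e⟩⟩ := h (f x)
  haveI := hg
  obtain ⟨z, hz, -⟩ := Scheme.Pullback.exists_preimage_pullback x w hw.symm
  let g' := pullback.fst f g
  let f' := pullback.snd f g
  obtain ⟨a⟩ := nonempty_pull_pull g' f (g' ≫ f) rfl
  obtain ⟨b⟩ := nonempty_pull_pull f' g (g' ≫ f) pullback.condition.symm
  exact ⟨pullback f g, g', inferInstance, z, M, iM, fM, hz,
    ⟨a.app F ≪≫ (b.app F).symm ≪≫ (EtCoh.pull f').mapIso e ≪≫ EtCore.pullConst f' M⟩⟩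

end Groth.Agent.EtCons
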