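import Mathlib
import Groth.Prelude.Def_PBC
import Groth.Agent.ConsTop.Basic
import Groth.Agent.ConsTop.Maps
import Groth.Agent.EtCons.PullFLC

/-! Constructible etale sheaves: the pointwise criterion. -/

universe u v

open CategoryTheory CategoryTheory.Limits AlgebraicGeometry Opposite Topology TopologicalSpace

set_option backward.isDefEq.respectTransparency false
set_option backward.isDefEq.respectTransparency.types false

noncomputable section

namespace Groth.Agent.EtCons

section Top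

variable {S : Type u} [TopologicalSpace S]

theorem exists_determining {C : Set S} (hC : IsConstructible C) :
    ∃ O : Set (Set S), O.Finite ∧ (∀ s ∈ O, IsOpen s ∧ IsRetrocompact s) ∧
      ∀ x y : S, (∀ s ∈ O, x ∈ s ↔ y ∈ s) → x ∈ C → y ∈ C := by
  induction hC using IsConstructible.empty_union_induction with
  | open_retrocompact U hU hU' =>
    exact ⟨{U}, Set.finite_singleton U, fun s hs => hs ▸ ⟨hU, hU'⟩, fun x y h hx => (h U rfl).1 hx⟩
  | union s _ t _ hs ht =>
    obtain ⟨O, hO, hOp, h⟩ := hs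
    obtain ⟨O', hO', hOp', h'⟩ := ht
    exact ⟨O ∪ O', hO.union hO', fun a ha => ha.elim (hOp a) (hOp' a), fun x y hxy hx => hx.elim
      (fun hx => Or.inl (h x y (fun a ha => hxy a (Or.inl ha)) hx))
      (fun hx => Or.inr (h' x y (fun a ha => hxy a (Or.inr ha)) hx))⟩
  | compl s _ hs =>
    obtain ⟨O, hO, hOp, h⟩ := hs
    exact ⟨O, hO, hOp, fun x y hxy hx hy => hx (h y x (fun a ha => (hxy a ha).symm) hy)⟩

/-- A finite constructible cover refines to a finite partition into constructible locally closed pieces. -/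
theorem exists_partition {ι : Type v} [Finite ι] (C : ι → Set S) (hC : ∀ i, IsConstructible (C i))
    (hcov : ∀ x, ∃ i, x ∈ C i) :
    ∃ (n : ℕ) (A : Fin n → Set S) (c : Fin n → ι), (∀ k, IsConstructible (A k) ∧ IsLocallyClosed (A k) ∧ A k ⊆ C (c k)) ∧
      Pairwise (fun k l => Disjoint (A k) (A l)) ∧ (⋃ k, A k) = Set.univ := by
  classical
  choose O hO hOp hdet using fun i => exists_determining (hC i)
  let 𝒪 : Set (Set S) := ⋃ i, O i
  have h𝒪 : 𝒪.Finite := Set.finite_iUnion hO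
  haveI : Fintype 𝒪 := h𝒪.fintype
  let pat : S → Finset 𝒪 := fun x => Finset.univ.filter (fun s => x ∈ (s : Set S))
  let P := {J : Finset 𝒪 // ∃ x, pat x = J}
  haveI : Fintype P := Fintype.ofFinite P
  let A : Finset 𝒪 → Set S := fun J => (⋂ s ∈ J, (s : Set S)) ∩ (⋃ s ∈ Jᶜ, (s : Set S))ᶜ
  have hmem : ∀ x J, x ∈ A J ↔ pat x = J := by
    intro x J
    constructor
    · rintro ⟨h1, h2⟩
      ext s
      simp only [pat, Finset.mem_filter, Finset.mem_univ, true_and]
      refine ⟨fun hx => by_contra fun hs => h2 (Set.mem_biUnion (Finset.mem_compl.2 hs) hx), fun hs => ?_⟩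
      exact Set.mem_iInter₂.1 h1 s hs
    · rintro rfl
      refine ⟨Set.mem_iInter₂.2 fun s hs => (Finset.mem_filter.1 hs).2, fun h => ?_⟩
      obtain ⟨s, hs, hxs⟩ := Set.mem_iUnion₂.1 h
      exact Finset.mem_compl.1 hs (Finset.mem_filter.2 ⟨Finset.mem_univ _, hxs⟩)
  have hs𝒪 : ∀ s : 𝒪, IsOpen (s : Set S) ∧ IsRetrocompact (s : Set S) := fun s => by
    obtain ⟨i, hi⟩ := Set.mem_iUnion.1 s.2
    exact hOp i _ hi
  have hA : ∀ J, IsConstructible (A J) ∧ IsLocallyClosed (A J) := fun J => by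
    have h1 : IsOpen (⋂ s ∈ J, (s : Set S)) := isOpen_biInter_finset fun s _ => (hs𝒪 s).1
    have h2 : IsOpen (⋃ s ∈ Jᶜ, (s : Set S)) := isOpen_biUnion fun s _ => (hs𝒪 s).1
    refine ⟨?_, ⟨_, _, h1, h2.isClosed_compl, rfl⟩⟩
    exact (IsConstructible.biInter J.finite_toSet fun s _ => (hs𝒪 s).2.isConstructible (hs𝒪 s).1).inter
      (IsConstructible.biUnion Jᶜ.finite_toSet fun s _ => (hs𝒪 s).2.isConstructible (hs𝒪 s).1).compl
  let e : Fin (Fintype.card P) ≃ P := (Fintype.equivFin P).symm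
  choose x hx using fun J : P => J.2
  choose c hc using hcov
  refine ⟨Fintype.card P, fun k => A (e k).1, fun k => c (x (e k)), fun k => ⟨(hA _).1, (hA _).2, fun y hy => ?_⟩, ?_, ?_⟩
  · refine hdet (c (x (e k))) (x (e k)) y (fun s hs => ?_) (hc _)
    have hp : pat (x (e k)) = pat y := (hx (e k)).trans ((hmem y _).1 hy).symm
    have := Finset.ext_iff.1 hp ⟨s, Set.mem_iUnion.2 ⟨_, hs⟩⟩
    simpa [pat] using this
  · intro k l hkl
    rw [Set.disjoint_left]
    intro y hy hy'
    exact hkl (e.injective (Subtype.ext (((hmem y _).1 hy).symm.trans ((hmem y _).1 hy'))))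
  · refine Set.eq_univ_of_forall fun y => Set.mem_iUnion.2 ⟨e.symm ⟨pat y, y, rfl⟩, ?_⟩
    simp [hmem]

/-- Constructible pieces around every point of a compact space finitely many cover. -/
theorem exists_finite_constructible_cover [PrespectralSpace S] [QuasiSeparatedSpace S] [QuasiSober S]
    [CompactSpace S] (C : S → Set S) (hC : ∀ x, IsConstructible (C x)) (hx : ∀ x, x ∈ C x) :
    ∃ t : Finset S, ∀ y, ∃ x ∈ t, y ∈ C x := by
  have hc := ConsTop.isCompact_cons (X := S) isOpen_univ isCompact_univ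
  obtain ⟨t, ht⟩ := @IsCompact.elim_finite_subcover S (constructibleTopology S) Set.univ S hc C
    (fun x => (ConsTop.isClopen_of_isConstructible (hC x)).1)
    (fun y _ => Set.mem_iUnion.2 ⟨y, hx y⟩)
  refine ⟨t, fun y => ?_⟩
  obtain ⟨x, hxt, hy⟩ := Set.mem_iUnion₂.1 (ht (Set.mem_univ y))
  exact ⟨x, hxt, hy⟩

end Top

variable {X : Scheme.{u}}

theorem exists_immersion_range {Y : Scheme.{u}} {A : Set Y} (hA : IsLocallyClosed A) :
    ∃ (O : Scheme.{u}) (j : O ⟶ Y), IsImmersion j ∧ Set.range j = A := by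
  let U : Y.Opens := ⟨coborder A, hA.isOpen_coborder⟩
  have hC : IsClosed (U.ι ⁻¹' A) := by
    have : U.ι ⁻¹' A = U.ι ⁻¹' closure A := by
      ext y
      refine ⟨fun hy => subset_closure hy, fun hy => ?_⟩
      have h1 : U.ι y ∈ coborder A ∩ closure A := ⟨y.2, hy⟩
      rwa [coborder_inter_closure] at h1
    rw [this]
    exact isClosed_closure.preimage U.ι.continuous
  let I := Scheme.IdealSheafData.vanishingIdeal (⟨_, hC⟩ : TopologicalSpace.Closeds U)
  refine ⟨I.subscheme, I.subschemeι ≫ U.ι, inferInstance, ?_⟩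
  rw [Scheme.Hom.comp_base, TopCat.coe_comp, Set.range_comp, Scheme.IdealSheafData.range_subschemeι,
    Scheme.IdealSheafData.coe_support_vanishingIdeal]
  show U.ι '' (U.ι ⁻¹' A) = A
  rw [Set.image_preimage_eq_inter_range, Scheme.Opens.range_ι, Set.inter_eq_left]
  exact subset_coborder

/-- A piece of a stratification near `x`, inside the open `U`. -/
def Good (F : EtCoh.Ab X) (U : X.Opens) (x : X) : Prop :=
  ∃ (T : Scheme.{u}) (g : T ⟶ X) (C : Set (U : Set X)), IsImmersion g ∧ IsConstructible C ∧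
    (∃ h : x ∈ U, (⟨x, h⟩ : (U : Set X)) ∈ C) ∧ Subtype.val '' C ⊆ Set.range g ∧
    EtCoh.IsFiniteLocallyConstant ((EtCoh.pull g).obj F)

theorem good_of_adaptedStrata {F : EtCoh.Ab X} {U : X.Opens} (h : EtPBC.AdaptedStrata F (U : Set X)) {x : X}
    (hx : x ∈ U) : Good F U x := by
  obtain ⟨n, T, g, himm, hc, -, hU, hF⟩ := h
  have hx' : x ∈ ⋃ i, Set.range (g i) := by rw [hU]; exact hx
  obtain ⟨i, hi⟩ := Set.mem_iUnion.1 hx'
  exact ⟨T i, g i, _, himm i, hc i, ⟨hx, hi⟩, Set.image_preimage_subset _ _, hF i⟩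

theorem adaptedStrata_of_good {F : EtCoh.Ab X} {U : X.Opens} [CompactSpace (U : Set X)] [QuasiSeparatedSpace (U : Set X)]
    (h : ∀ x ∈ U, Good F U x) : EtPBC.AdaptedStrata F (U : Set X) := by
  haveI : CompactSpace U.toScheme := ‹CompactSpace (U : Set X)›
  haveI : QuasiSeparatedSpace U.toScheme := ‹QuasiSeparatedSpace (U : Set X)›
  choose T g C himm hC hxC hCg hF using fun x : (U : Set X) => h x.1 x.2
  have hxC' : ∀ x : (U : Set X), x ∈ C x := fun x => (hxC x).2
  obtain ⟨t, ht⟩ := exists_finite_constructible_cover (S := U.toScheme) C hC hxC'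
  obtain ⟨n, A, c, hA, hdis, hun⟩ := exists_partition (fun i : t => C i.1) (fun i => hC i.1)
    (fun y => by obtain ⟨x, hx, hy⟩ := ht y; exact ⟨⟨x, hx⟩, hy⟩)
  have hlc : ∀ k, IsLocallyClosed (g (c k).1 ⁻¹' (Subtype.val '' A k)) := fun k =>
    ((hA k).2.1.image U.isOpen.isOpenEmbedding_subtypeVal.isInducing
      (by rw [Subtype.range_coe_subtype]; exact U.isOpen.isLocallyClosed)).preimage (g (c k).1).continuous
  choose O j hj hjr using fun k => exists_immersion_range (hlc k)
  have hr : ∀ k, Set.range (j k ≫ g (c k).1) = Subtype.val '' A k := fun k => by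
    rw [Scheme.Hom.comp_base, TopCat.coe_comp, Set.range_comp, hjr, Set.image_preimage_eq_inter_range,
      Set.inter_eq_left]
    exact (Set.image_mono (hA k).2.2).trans (hCg _)
  refine ⟨n, O, fun k => j k ≫ g (c k).1, fun k => ?_, fun k => ?_, fun k l hkl => ?_, ?_, fun k _ => ?_⟩
  · haveI := hj k
    haveI := himm (c k).1
    infer_instance
  · rw [hr]
    exact (congrArg IsConstructible (Set.preimage_image_eq (A k) Subtype.val_injective)).mpr (hA k).1
  · show Disjoint (Set.range (j k ≫ g (c k).1)) (Set.range (j l ≫ g (c l).1))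
    exact (hr k).symm ▸ (hr l).symm ▸ Set.disjoint_image_of_injective Subtype.val_injective (hdis hkl)
  · simp only [hr]
    rw [← Set.image_iUnion, hun, Set.image_univ, Subtype.range_coe_subtype]
    rfl
  · obtain ⟨e⟩ := nonempty_pull_pull (j k) (g (c k).1) _ rfl
    exact isFLC_of_iso (e.app F) (isFLC_pull (j k) (hF _))

/-- The inclusion between open subsets as a map. -/
def incl {D U : X.Opens} (h : D ≤ U) (y : (D : Set X)) : (U : Set X) := ⟨y.1, h y.2⟩

theorem isOpenEmbedding_incl {D U : X.Opens} (h : D ≤ U) : IsOpenEmbedding (incl h) :=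
  IsOpenEmbedding.of_comp (incl h) U.isOpen.isOpenEmbedding_subtypeVal D.isOpen.isOpenEmbedding_subtypeVal

theorem isRetrocompact_range_incl {D U : X.Opens} (h : D ≤ U) [CompactSpace (D : Set X)] [QuasiSeparatedSpace (U : Set X)] :
    IsRetrocompact (Set.range (incl h)) :=
  fun _V hV hVo => (isCompact_range (isOpenEmbedding_incl h).continuous).inter_of_isOpen hV
    (isOpenEmbedding_incl h).isOpen_range hVo

theorem good_iff_of_le {F : EtCoh.Ab X} {D U : X.Opens} (h : D ≤ U) [CompactSpace (D : Set X)] [QuasiSeparatedSpace (U : Set X)]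
    {x : X} (hx : x ∈ D) : Good F D x ↔ Good F U x := by
  constructor
  · rintro ⟨T, g, C, hg, hC, ⟨hxD, hxC⟩, hCg, hF⟩
    refine ⟨T, g, incl h '' C, hg, hC.image_of_isOpenEmbedding (isOpenEmbedding_incl h) (isRetrocompact_range_incl h),
      ⟨h hxD, ⟨_, hxC, rfl⟩⟩, ?_, hF⟩
    rintro _ ⟨_, ⟨y, hy, rfl⟩, rfl⟩
    exact hCg ⟨y, hy, rfl⟩
  · rintro ⟨T, g, C, hg, hC, ⟨hxU, hxC⟩, hCg, hF⟩
    refine ⟨T, g, incl h ⁻¹' C, hg, hC.preimage_of_isOpenEmbedding (isOpenEmbedding_incl h), ⟨hx, hxC⟩, ?_, hF⟩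
    rintro _ ⟨y, hy, rfl⟩
    exact hCg ⟨incl h y, hy, rfl⟩

/-- Constructibility at a point. -/
def GoodAt (F : EtCoh.Ab X) (x : X) : Prop :=
  ∃ U : X.Opens, IsAffineOpen U ∧ x ∈ U ∧ Good F U x

theorem exists_affine_le {V : X.Opens} {x : X} (hx : x ∈ V) : ∃ D : X.Opens, IsAffineOpen D ∧ x ∈ D ∧ D ≤ V := by
  obtain ⟨D, hD, hxD, hDV⟩ := Opens.isBasis_iff_nbhd.1 X.isBasis_affineOpens hx
  exact ⟨D, hD, hxD, hDV⟩

theorem good_of_goodAt {F : EtCoh.Ab X} {U : X.Opens} [CompactSpace (U : Set X)] [QuasiSeparatedSpace (U : Set X)] {x : X} (hx : x ∈ U)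
    (h : GoodAt F x) : Good F U x := by
  obtain ⟨U', hU', hxU', hg⟩ := h
  obtain ⟨D, hD, hxD, hDle⟩ := exists_affine_le (V := U ⊓ U') ⟨hx, hxU'⟩
  haveI : CompactSpace (D : Set X) := isCompact_iff_compactSpace.1 hD.isCompact
  haveI := (ConsTop.affine_instances hU').2.1
  exact (good_iff_of_le (hDle.trans inf_le_left) hxD).1 ((good_iff_of_le (hDle.trans inf_le_right) hxD).2 hg)

theorem goodAt_of_good {F : EtCoh.Ab X} {U : X.Opens} [QuasiSeparatedSpace (U : Set X)] {x : X} (hx : x ∈ U)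
    (h : Good F U x) : GoodAt F x := by
  obtain ⟨D, hD, hxD, hDle⟩ := exists_affine_le hx
  haveI : CompactSpace (D : Set X) := isCompact_iff_compactSpace.1 hD.isCompact
  exact ⟨D, hD, hxD, (good_iff_of_le hDle hxD).2 h⟩

theorem isConstructible_iff (F : EtCoh.Ab X) : EtPBC.IsConstructible F ↔ ∀ x, GoodAt F x := by
  constructor
  · intro h x
    obtain ⟨U, hU, hxU, -⟩ := exists_affine_le (V := (⊤ : X.Opens)) (x := x) trivial
    exact ⟨U, hU, hxU, good_of_adaptedStrata (h U hU) hxU⟩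
  · intro h U hU
    haveI : CompactSpace (U : Set X) := isCompact_iff_compactSpace.1 hU.isCompact
    haveI := (ConsTop.affine_instances hU).2.1
    exact adaptedStrata_of_good fun x hx => good_of_goodAt hx (h x)

end Groth.Agent.EtCons
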