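import Mathlib
import Groth.Agent.EtCons.Strata
import Groth.Agent.EtPullExact.Basic

/-! Permanence properties of constructible sheaves. -/

universe u

open CategoryTheory CategoryTheory.Limits AlgebraicGeometry Opposite Topology TopologicalSpace

set_option backward.isDefEq.respectTransparency false
set_option backward.isDefEq.respectTransparency.types false

noncomputable section

namespace Groth.Agent.EtCons

variable {X Y : Scheme.{u}}

theorem compact_of_affine {U : X.Opens} (hU : IsAffineOpen U) : CompactSpace (U : Set X) :=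
  isCompact_iff_compactSpace.1 hU.isCompact

theorem qs_of_affine {U : X.Opens} (hU : IsAffineOpen U) : QuasiSeparatedSpace (U : Set X) :=
  (ConsTop.affine_instances hU).2.1

theorem good_pull (f : X ⟶ Y) {F : EtCoh.Ab Y} {x : X} (h : GoodAt F (f x)) : GoodAt ((EtCoh.pull f).obj F) x := by
  obtain ⟨V, hV, hfx, T, g, C, hg, hC, ⟨hh, hxC⟩, hCg, hF⟩ := h
  obtain ⟨D, hD, hxD, hDV⟩ := exists_affine_le (V := f ⁻¹ᵁ V) (x := x) hfx
  haveI := hg
  let φ : ↥(D : Set X) → ↥(V : Set Y) := fun d => ⟨f d.1, hDV d.2⟩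
  have hφ : Continuous φ := Continuous.subtype_mk (f.continuous.comp continuous_subtype_val) _
  obtain ⟨a⟩ := nonempty_pull_pull (pullback.fst f g) f _ rfl
  obtain ⟨b⟩ := nonempty_pull_pull (pullback.snd f g) g _ pullback.condition.symm
  refine ⟨D, hD, hxD, pullback f g, pullback.fst f g, φ ⁻¹' C, MorphismProperty.pullback_fst _ _ hg, ?_,
    ⟨hxD, hxC⟩, ?_, isFLC_of_iso ((b.app F) ≪≫ (a.app F).symm) (isFLC_pull (pullback.snd f g) hF)⟩
  · haveI := qs_of_affine hV
    haveI := compact_of_affine hV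
    haveI := qs_of_affine hD
    haveI := compact_of_affine hD
    refine hC.preimage hφ fun s hso hsr => ?_
    have hs : IsCompact s := hsr.isCompact
    intro K hK hKo
    -- both are quasi-compact opens of the affine `D`
    haveI : IsAffine D.toScheme := hD
    haveI : IsAffine V.toScheme := hV
    have hc : IsCompact ((f.resLE V D hDV) ⁻¹' (s : Set V.toScheme)) :=
      QuasiCompact.isCompact_preimage (f := f.resLE V D hDV) s hso hs
    have e : ∀ d : D.toScheme, (f.resLE V D hDV) d = φ d := fun d =>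
      Subtype.ext (congrArg (fun k => k d) (f.resLE_comp_ι hDV))
    have e' : (f.resLE V D hDV) ⁻¹' (s : Set V.toScheme) = φ ⁻¹' s := Set.ext fun d => by
      show (f.resLE V D hDV) d ∈ (s : Set V.toScheme) ↔ φ d ∈ s
      exact Eq.to_iff (congrArg (fun y : V.toScheme => y ∈ (s : Set V.toScheme)) (e d))
    have hc' : IsCompact (φ ⁻¹' s) := e' ▸ hc
    exact hc'.inter_of_isOpen hK (hso.preimage hφ) hKo
  · rintro _ ⟨d, hd, rfl⟩
    obtain ⟨t, ht⟩ := hCg ⟨φ d, hd, rfl⟩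
    obtain ⟨z, hz, -⟩ := Scheme.Pullback.exists_preimage_pullback (d.1 : X) t ht.symm
    exact ⟨z, hz⟩

theorem isConstructible_pull (f : X ⟶ Y) {F : EtCoh.Ab Y} (h : EtPBC.IsConstructible F) :
    EtPBC.IsConstructible ((EtCoh.pull f).obj F) := by
  rw [isConstructible_iff] at h ⊢
  exact fun x => good_pull f (h (f x))

theorem goodAt_of_openImmersion (j : Y ⟶ X) [IsOpenImmersion j] {F : EtCoh.Ab X} {y : Y}
    (h : GoodAt ((EtCoh.pull j).obj F) y) : GoodAt F (j y) := by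
  obtain ⟨D, hD, hyD, T, g, C, hg, hC, ⟨hh, hxC⟩, hCg, hF⟩ := h
  haveI := hg
  let U : X.Opens := j ''ᵁ D
  let φ : ↥(D : Set Y) → ↥(U : Set X) := fun d => ⟨j d.1, ⟨d.1, d.2, rfl⟩⟩
  have hinj : Function.Injective φ := fun a b e =>
    Subtype.ext (j.isOpenEmbedding.injective (congrArg Subtype.val e))
  have hφc : Continuous φ := Continuous.subtype_mk (j.continuous.comp continuous_subtype_val) _
  have hφ : IsOpenEmbedding φ := IsOpenEmbedding.of_comp φ U.isOpen.isOpenEmbedding_subtypeVal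
    (j.isOpenEmbedding.comp D.isOpen.isOpenEmbedding_subtypeVal)
  have hsurj : Set.range φ = Set.univ := Set.eq_univ_of_forall fun ⟨_, d, hd, e⟩ => ⟨⟨d, hd⟩, Subtype.ext e⟩
  obtain ⟨a⟩ := nonempty_pull_pull g j (g ≫ j) rfl
  refine ⟨U, hD.image_of_isOpenImmersion j, ⟨y, hyD, rfl⟩, T, g ≫ j, φ '' C, inferInstance,
    hC.image_of_isOpenEmbedding hφ (by rw [hsurj]; exact .univ), ⟨⟨y, hyD, rfl⟩, ⟨_, hxC, rfl⟩⟩, ?_,
    isFLC_of_iso (a.app F) hF⟩
  rintro _ ⟨_, ⟨d, hd, rfl⟩, rfl⟩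
  obtain ⟨t, ht⟩ := hCg ⟨d, hd, rfl⟩
  exact ⟨t, congrArg j ht⟩

theorem isConstructible_of_openCover (F : EtCoh.Ab X) {ι : Type u} (U : ι → X.Opens) (hU : ⨆ i, U i = ⊤)
    (h : ∀ i, EtPBC.IsConstructible ((EtCoh.pull (U i).ι).obj F)) : EtPBC.IsConstructible F := by
  rw [isConstructible_iff]
  intro x
  have hx : x ∈ ⨆ i, U i := by rw [hU]; trivial
  obtain ⟨i, hi⟩ := Opens.mem_iSup.1 hx
  exact goodAt_of_openImmersion (U i).ι (y := ⟨x, hi⟩) ((isConstructible_iff _).1 (h i) _)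

theorem qcqs_top [CompactSpace X] [QuasiSeparatedSpace X] :
    CompactSpace ((⊤ : X.Opens) : Set X) ∧ QuasiSeparatedSpace ((⊤ : X.Opens) : Set X) :=
  ⟨isCompact_iff_compactSpace.1 isCompact_univ,
    QuasiSeparatedSpace.of_isOpenEmbedding (⊤ : X.Opens).isOpen.isOpenEmbedding_subtypeVal⟩

theorem isConstructible_iff_adapted [CompactSpace X] [QuasiSeparatedSpace X] (F : EtCoh.Ab X) :
    EtPBC.IsConstructible F ↔ EtPBC.AdaptedStrata F (Set.univ : Set X) := by
  obtain ⟨_, _⟩ := qcqs_top (X := X)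
  rw [isConstructible_iff]
  constructor
  · intro h
    exact adaptedStrata_of_good (U := (⊤ : X.Opens)) fun x hx => good_of_goodAt hx (h x)
  · intro h x
    exact goodAt_of_good (U := (⊤ : X.Opens)) trivial (good_of_adaptedStrata (U := (⊤ : X.Opens)) h trivial)

/-- Intersecting two pieces. -/
theorem good_pair {F G : EtCoh.Ab X} {U : X.Opens} {x : X} (hF : Good F U x) (hG : Good G U x) :
    ∃ (T : Scheme.{u}) (g : T ⟶ X) (C : Set (U : Set X)), IsImmersion g ∧ IsConstructible C ∧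
    (∃ h : x ∈ U, (⟨x, h⟩ : (U : Set X)) ∈ C) ∧ Subtype.val '' C ⊆ Set.range g ∧
    EtCoh.IsFiniteLocallyConstant ((EtCoh.pull g).obj F) ∧ EtCoh.IsFiniteLocallyConstant ((EtCoh.pull g).obj G) := by
  obtain ⟨T, g, C, hg, hC, ⟨hx, hxC⟩, hCg, hgF⟩ := hF
  obtain ⟨T', g', C', hg', hC', ⟨_, hxC'⟩, hCg', hgG⟩ := hG
  haveI := hg; haveI := hg'
  haveI : IsImmersion (pullback.fst g g') := MorphismProperty.pullback_fst _ _ hg'
  obtain ⟨a⟩ := nonempty_pull_pull (pullback.fst g g') g (pullback.fst g g' ≫ g) rfl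
  obtain ⟨b⟩ := nonempty_pull_pull (pullback.snd g g') g' (pullback.fst g g' ≫ g) pullback.condition.symm
  refine ⟨pullback g g', pullback.fst g g' ≫ g, C ∩ C', inferInstance, hC.inter hC', ⟨hx, hxC, hxC'⟩, ?_,
    isFLC_of_iso (a.app F) (isFLC_pull _ hgF), isFLC_of_iso (b.app G) (isFLC_pull _ hgG)⟩
  rintro _ ⟨c, ⟨hc, hc'⟩, rfl⟩
  obtain ⟨t, ht⟩ := hCg ⟨c, hc, rfl⟩
  obtain ⟨t', ht'⟩ := hCg' ⟨c, hc', rfl⟩
  obtain ⟨z, hz, -⟩ := Scheme.Pullback.exists_preimage_pullback t t' (ht.trans ht'.symm)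
  exact ⟨z, (congrArg g hz).trans ht⟩

theorem goodAt_pair {F G : EtCoh.Ab X} (hF : EtPBC.IsConstructible F) (hG : EtPBC.IsConstructible G) (x : X) :
    ∃ (U : X.Opens) (_ : IsAffineOpen U) (T : Scheme.{u}) (g : T ⟶ X) (C : Set (U : Set X)), IsImmersion g ∧
    IsConstructible C ∧ (∃ h : x ∈ U, (⟨x, h⟩ : (U : Set X)) ∈ C) ∧ Subtype.val '' C ⊆ Set.range g ∧
    EtCoh.IsFiniteLocallyConstant ((EtCoh.pull g).obj F) ∧ EtCoh.IsFiniteLocallyConstant ((EtCoh.pull g).obj G) := by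
  obtain ⟨U, hU, hxU, -⟩ := exists_affine_le (V := (⊤ : X.Opens)) (x := x) trivial
  obtain ⟨T, g, C, h⟩ := good_pair (good_of_adaptedStrata (hF U hU) hxU) (good_of_adaptedStrata (hG U hU) hxU)
  exact ⟨U, hU, T, g, C, h⟩

theorem isConstructible_kernel_cokernel {F G : EtCoh.Ab X} (φ : F ⟶ G) (hF : EtPBC.IsConstructible F)
    (hG : EtPBC.IsConstructible G) : EtPBC.IsConstructible (kernel φ) ∧ EtPBC.IsConstructible (cokernel φ) := by
  simp only [isConstructible_iff]
  refine ⟨fun x => ?_, fun x => ?_⟩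
  all_goals
    obtain ⟨U, hU, T, g, C, hg, hC, ⟨hxU, hxC⟩, hCg, h1, h2⟩ := goodAt_pair hF hG x
    haveI := EtPullExact.pull_preservesFiniteLimits g
    haveI : (EtCoh.pull g).IsLeftAdjoint := (EtCoh.pullPushAdj g).isLeftAdjoint
  · exact ⟨U, hU, hxU, T, g, C, hg, hC, ⟨hxU, hxC⟩, hCg,
      isFLC_of_iso (PreservesKernel.iso (EtCoh.pull g) φ).symm (EtFLC.isFLC_kernel _ h1 h2)⟩
  · exact ⟨U, hU, hxU, T, g, C, hg, hC, ⟨hxU, hxC⟩, hCg,
      isFLC_of_iso (PreservesCokernel.iso (EtCoh.pull g) φ).symm (EtFLC.isFLC_cokernel _ h1 h2)⟩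

theorem isConstructible_middle (S : ShortComplex (EtCoh.Ab X)) (hS : S.ShortExact)
    (h1 : EtPBC.IsConstructible S.X₁) (h3 : EtPBC.IsConstructible S.X₃) : EtPBC.IsConstructible S.X₂ := by
  rw [isConstructible_iff]
  intro x
  obtain ⟨U, hU, T, g, C, hg, hC, ⟨hxU, hxC⟩, hCg, e1, e3⟩ := goodAt_pair h1 h3 x
  haveI := EtPullExact.pull_preservesFiniteLimits g
  haveI : (EtCoh.pull g).IsLeftAdjoint := (EtCoh.pullPushAdj g).isLeftAdjoint
  haveI : (EtCoh.pull g).Additive := Functor.additive_of_preserves_binary_products _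
  exact ⟨U, hU, hxU, T, g, C, hg, hC, ⟨hxU, hxC⟩, hCg,
    EtFLC.isFLC_of_shortExact (hS.map_of_exact (EtCoh.pull g)) e1 e3⟩

theorem goodAt_of_immersion [CompactSpace X] [QuasiSeparatedSpace X] {T₀ : Scheme.{u}} (i : T₀ ⟶ X) [IsImmersion i]
    (hc : IsConstructible (Set.range i)) {F : EtCoh.Ab X} {t : T₀}
    (h : GoodAt ((EtCoh.pull i).obj F) t) : GoodAt F (i t) := by
  obtain ⟨_, _⟩ := qcqs_top (X := X)
  obtain ⟨W, hW, htW, T, g, C, hg, hC, ⟨hh, htC⟩, hCg, hF⟩ := h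
  haveI := hg
  haveI := compact_of_affine hW
  let φ : ↥(W : Set T₀) → X := fun w => i w.1
  have hL : IsCompact (Set.range i) → True := fun _ => trivial
  have key : ∀ s : Set (W : Set T₀), IsOpen s → IsCompact s → IsConstructible (φ '' s) := by
    intro s hso hsc
    obtain ⟨V, hVo, hV⟩ := i.isEmbedding.isInducing.isOpen_iff.1 (W.isOpen.isOpenEmbedding_subtypeVal.isOpenMap s hso)
    have himg : φ '' s = Set.range i ∩ V := by
      rw [show φ '' s = i '' (Subtype.val '' s) from (Set.image_image _ _ _).symm, ← hV,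
        Set.image_preimage_eq_range_inter]
    have hK : IsCompact (Set.range i ∩ V) := by
      rw [← himg]
      exact hsc.image (i.continuous.comp continuous_subtype_val)
    obtain ⟨K, hKc, hKo, hKV, hsub⟩ : ∃ K : Set X, IsCompact K ∧ IsOpen K ∧ K ⊆ V ∧ Set.range i ∩ V ⊆ K := by
      choose D hD hxD hDV using fun z : (Set.range i ∩ V : Set X) =>
        exists_affine_le (V := (⟨V, hVo⟩ : X.Opens)) (x := z.1) z.2.2
      obtain ⟨s', hs'⟩ := hK.elim_finite_subcover (fun z => (D z : Set X)) (fun z => (D z).isOpen)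
        (fun z hz => Set.mem_iUnion.2 ⟨⟨z, hz⟩, hxD ⟨z, hz⟩⟩)
      exact ⟨⋃ z ∈ s', (D z : Set X), s'.isCompact_biUnion fun z _ => (hD z).isCompact,
        isOpen_biUnion fun z _ => (D z).isOpen, Set.iUnion₂_subset fun z _ => hDV z, hs'⟩
    have hLK : Set.range i ∩ V = Set.range i ∩ K :=
      Set.Subset.antisymm (fun z hz => ⟨hz.1, hsub hz⟩) (Set.inter_subset_inter_right _ hKV)
    rw [himg, hLK]
    exact hc.inter (hKc.isConstructible hKo)
  have hφ : ∀ C' : Set (W : Set T₀), IsConstructible C' → IsConstructible (φ '' C') := by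
    intro C' hC'
    have hinj : Function.Injective φ := fun a b e => Subtype.ext (i.isEmbedding.injective e)
    induction hC' using IsConstructible.empty_union_induction with
    | open_retrocompact U hUo hUr => exact key U hUo hUr.isCompact
    | union s _ t _ hs ht => rw [Set.image_union]; exact hs.union ht
    | compl s _ hs =>
      rw [← Set.range_sdiff_image hinj]
      exact (by rw [← Set.image_univ]; exact key _ isOpen_univ isCompact_univ : IsConstructible (Set.range φ)).sdiff hs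
  obtain ⟨a⟩ := nonempty_pull_pull g i (g ≫ i) rfl
  refine goodAt_of_good (U := (⊤ : X.Opens)) trivial ⟨T, g ≫ i, Subtype.val ⁻¹' (φ '' C), inferInstance,
    (hφ C hC).preimage_of_isOpenEmbedding (⊤ : X.Opens).isOpen.isOpenEmbedding_subtypeVal,
    ⟨trivial, ⟨_, htC, rfl⟩⟩, ?_, isFLC_of_iso (a.app F) hF⟩
  rintro _ ⟨z, ⟨w, hw, e⟩, rfl⟩
  obtain ⟨s, hs⟩ := hCg ⟨w, hw, rfl⟩
  exact ⟨s, (congrArg i hs).trans e⟩

theorem isConstructible_of_immersions [CompactSpace X] [QuasiSeparatedSpace X] (F : EtCoh.Ab X) {ι : Type u}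
    (T : ι → Scheme.{u}) (g : ∀ i, T i ⟶ X) [∀ i, IsImmersion (g i)]
    (hc : ∀ i, IsConstructible (Set.range (g i))) (hcov : (⋃ i, Set.range (g i)) = Set.univ)
    (h : ∀ i, EtPBC.IsConstructible ((EtCoh.pull (g i)).obj F)) : EtPBC.IsConstructible F := by
  rw [isConstructible_iff]
  intro x
  have hx : x ∈ ⋃ i, Set.range (g i) := by rw [hcov]; trivial
  obtain ⟨i, t, rfl⟩ := Set.mem_iUnion.1 hx
  exact goodAt_of_immersion (g i) (hc i) ((isConstructible_iff _).1 (h i) t)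

end Groth.Agent.EtCons
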