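import Groth.Agent.EtCons.Presentation
import Groth.Agent.ShriekColim.Local
import Mathlib

/-! Torsion sheaves as filtered colimits of constructible sheaves. -/

universe u

open CategoryTheory CategoryTheory.Limits AlgebraicGeometry Opposite Topology

set_option backward.isDefEq.respectTransparency false
set_option backward.isDefEq.respectTransparency.types false

noncomputable section

namespace Groth.Agent.EtCons

variable {X : Scheme.{u}}

/-- a cocone whose components are locally jointly bijective is a colimit -/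
theorem nonempty_isColimit_of_sections {J : Type (u + 1)} [SmallCategory J] [IsFiltered J] {K : J ⥤ EtCoh.Ab X}
    (c : Cocone K)
    (hsurj : ∀ (U : X.Etale) (t : EtCoh.sect c.pt U) (x : U.left), ∃ (W : X.Etale) (g : W ⟶ U),
      x ∈ Set.range g.left ∧ ∃ (j : J) (s : EtCoh.sect (K.obj j) W), (c.ι.app j).hom.app (op W) s = c.pt.obj.map g.op t)
    (hinj : ∀ (U : X.Etale) (j : J) (s : EtCoh.sect (K.obj j) U), (c.ι.app j).hom.app (op U) s = 0 → ∀ x : U.left,
      ∃ (W : X.Etale) (g : W ⟶ U), x ∈ Set.range g.left ∧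
        ∃ (k : J) (a : j ⟶ k), (K.map a).hom.app (op W) ((K.obj j).obj.map g.op s) = 0) :
    Nonempty (IsColimit c) := by
  let c' := colimit.cocone (K ⋙ sheafToPresheaf X.smallEtaleTopology AddCommGrpCat.{u + 1})
  let hc' : IsColimit c' := colimit.isColimit _
  let θ : c'.pt ⟶ c.pt.obj := hc'.desc ((sheafToPresheaf X.smallEtaleTopology AddCommGrpCat.{u + 1}).mapCocone c)
  have hθ : ∀ j, c'.ι.app j ≫ θ = (c.ι.app j).hom := fun j => hc'.fac _ j
  have hev : ∀ W : X.Etale, IsColimit (((evaluation X.Etaleᵒᵖ AddCommGrpCat.{u + 1}).obj (op W)).mapCocone c') :=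
    fun W => isColimitOfPreserves _ hc'
  haveI : Presheaf.IsLocallySurjective X.smallEtaleTopology θ := by
    refine ⟨fun {U} t => (EtFLC.mem_iff _).2 fun x => ?_⟩
    obtain ⟨W, g, ⟨w, hw⟩, j, s, hs⟩ := hsurj U t x
    exact ⟨W, g, w, ⟨(c'.ι.app j).app (op W) s,
      (ConcreteCategory.congr_hom (congr_app (hθ j) (op W)) s).trans hs⟩, hw⟩
  haveI : Presheaf.IsLocallyInjective X.smallEtaleTopology θ := by
    refine ⟨fun {U} a b hab => (EtFLC.mem_iff _).2 fun x => ?_⟩
    obtain ⟨U⟩ := U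
    obtain ⟨j, s, hs⟩ := Concrete.isColimit_exists_rep _ (hev U) (a - b)
    have h0 : (c.ι.app j).hom.app (op U) s = 0 := by
      refine (ConcreteCategory.congr_hom (congr_app (hθ j) (op U)) s).symm.trans ?_
      show θ.app (op U) ((c'.ι.app j).app (op U) s) = 0
      erw [hs]
      rw [map_sub, hab, sub_self]
    obtain ⟨W, g, ⟨w, hw⟩, k, e, he⟩ := hinj U j s h0 x
    refine ⟨W, g, w, ?_, hw⟩
    show c'.pt.map g.op a = c'.pt.map g.op b
    rw [← sub_eq_zero, ← map_sub, ← hs]
    have h1 := NatTrans.naturality_apply (c'.ι.app j) g.op s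
    refine h1.symm.trans ?_
    rw [← c'.w e]
    exact (congrArg ((c'.ι.app k).app (op W)) he).trans (map_zero _)
  haveI : IsIso ((presheafToSheaf X.smallEtaleTopology AddCommGrpCat.{u + 1}).map θ) := by
    rw [← GrothendieckTopology.W_iff, GrothendieckTopology.W_iff_isLocallyBijective]
    exact ⟨inferInstance, inferInstance⟩
  let e := asIso ((presheafToSheaf X.smallEtaleTopology AddCommGrpCat.{u + 1}).map θ) ≪≫ (sheafificationIso c.pt).symm
  refine ⟨IsColimit.ofIsoColimit (Sheaf.isColimitSheafifyCocone c' hc') (Cocone.ext e fun j => ?_)⟩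
  apply ObjectProperty.hom_ext
  show ((Sheaf.sheafifyCocone c').ι.app j).hom ≫ e.hom.hom = _
  rw [Sheaf.sheafifyCocone_ι_app_val, Category.assoc, ← hθ]
  refine congrArg (c'.ι.app j ≫ ·) ?_
  show toSheafify _ c'.pt ≫ sheafifyMap _ θ ≫ (sheafificationIso c.pt).inv.hom = θ
  rw [← toSheafify_naturality_assoc]
  have : toSheafify X.smallEtaleTopology c.pt.obj ≫ (sheafificationIso c.pt).inv.hom = 𝟙 _ := by
    rw [← cancel_mono (sheafificationIso c.pt).hom.hom]
    rw [Category.assoc, ← ObjectProperty.FullSubcategory.comp_hom, Iso.inv_hom_id]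
    rfl
  rw [this]
  exact Category.comp_id θ

/-- presentation data of a constructible sheaf -/
structure Pres (X : Scheme.{u}) : Type (u + 1) where
  b : ℕ
  U : Fin b → X.Etale
  hU : ∀ i, IsAffine (U i).left
  N : Fin b → ℕ
  hN : ∀ i, 0 < N i
  a : ℕ
  V : Fin a → X.Etale
  hV : ∀ i, IsAffine (V i).left
  M : Fin a → ℕ
  hM : ∀ i, 0 < M i
  φ : (⨁ fun j => EtPBC.extZeroConst (V j) (ZMod (M j))) ⟶ ⨁ fun i => EtPBC.extZeroConst (U i) (ZMod (N i))

/-- the presented sheaf -/
def Pres.obj (p : Pres X) : EtCoh.Ab X := cokernel p.φ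

variable [CompactSpace X] [QuasiSeparatedSpace X]

theorem Pres.isConstructible (p : Pres X) : EtPBC.IsConstructible p.obj :=
  (isConstructible_kernel_cokernel p.φ
    (isConstructible_biproduct _ fun i => by haveI := p.hV i; exact isConstructible_extConst (p.V i) (p.M i) (p.hM i))
    (isConstructible_biproduct _ fun i => by haveI := p.hU i; exact isConstructible_extConst (p.U i) (p.N i) (p.hN i))).2

theorem exists_pres (G : EtCoh.Ab X) (hG : EtPBC.IsConstructible G) : ∃ p : Pres X, Nonempty (G ≅ p.obj) := by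
  obtain ⟨b, U, hU, N, hN, g, hg⟩ := exists_generators G hG
  haveI := hg
  obtain ⟨a, V, hV, M, hM, h, hh⟩ := exists_generators (kernel g) (isConstructible_kernel_cokernel g
    (isConstructible_biproduct _ fun i => by haveI := hU i; exact isConstructible_extConst (U i) (N i) (hN i)) hG).1
  haveI := hh
  exact ⟨⟨b, U, hU, N, hN, a, V, hV, M, hM, h ≫ kernel.ι g⟩,
    ⟨IsColimit.coconePointUniqueUpToIso (Abelian.epiIsCokernelOfKernel _ (kernelIsKernel g))
      (cokernelIsCokernel (kernel.ι g)) ≪≫ (cokernelEpiComp h (kernel.ι g)).symm⟩⟩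

variable (Q : EtCoh.Ab X → Prop) (F : EtCoh.Ab X)

/-- index objects -/
def Idx : Type (u + 1) := Σ p : {p : Pres X // Q p.obj}, (p.1.obj ⟶ F)

/-- the object over the sheaf -/
def idxOver (x : Idx Q F) : Over F := Over.mk x.2

/-- constructible sheaves over a sheaf -/
abbrev ConsOver : Type (u + 1) := InducedCategory (Over F) (idxOver Q F)

/-- the diagram -/
def consDiagram : ConsOver Q F ⥤ EtCoh.Ab X := inducedFunctor _ ⋙ Over.forget F

/-- the cocone -/
def consCocone : Cocone (consDiagram Q F) where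
  pt := F
  ι := { app := fun x => x.2
         naturality := fun x y m => (Over.w m.hom).trans (Category.comp_id x.2).symm }

theorem nonempty_isColimit_consCocone (hiso : ∀ {A B : EtCoh.Ab X}, (A ≅ B) → Q A → Q B)
    (hbi : ∀ {A B : EtCoh.Ab X}, EtPBC.IsConstructible A → EtPBC.IsConstructible B → Q A → Q B → Q (A ⊞ B))
    (hcok : ∀ {A B : EtCoh.Ab X} (φ : A ⟶ B), EtPBC.IsConstructible A → EtPBC.IsConstructible B → Q B → Q (cokernel φ))
    (hne : ∃ G : EtCoh.Ab X, EtPBC.IsConstructible G ∧ Q G) (hF : EtCoh.IsTorsion F)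
    (hgen : ∀ (U : X.Etale) (t : EtCoh.sect F U) (x : U.left), ∃ (W : X.Etale) (g : W ⟶ U),
      x ∈ Set.range g.left ∧ ∃ (G : EtCoh.Ab X) (_ : EtPBC.IsConstructible G) (_ : Q G) (α : G ⟶ F)
        (s : EtCoh.sect G W), α.hom.app (op W) s = F.obj.map g.op t) :
    IsFiltered (ConsOver Q F) ∧ Nonempty (IsColimit (consCocone Q F)) ∧
      ∀ x, EtPBC.IsConstructible ((consDiagram Q F).obj x) ∧ Q ((consDiagram Q F).obj x) := by
  have key : ∀ (G : EtCoh.Ab X), EtPBC.IsConstructible G → Q G → ∀ α : G ⟶ F,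
      ∃ (x : ConsOver Q F) (i : G ≅ x.1.1.obj), i.hom ≫ x.2 = α := by
    intro G hG hQ α
    obtain ⟨p, ⟨i⟩⟩ := exists_pres G hG
    exact ⟨⟨⟨p, hiso i hQ⟩, i.inv ≫ α⟩, i, Iso.hom_inv_id_assoc i α⟩
  have mkHom : ∀ (x y : ConsOver Q F) (k : x.1.1.obj ⟶ y.1.1.obj), k ≫ y.2 = x.2 →
      ∃ a : x ⟶ y, (consDiagram Q F).map a = k := fun x y k hk =>
    ⟨InducedCategory.homMk (Over.homMk k hk : idxOver Q F x ⟶ idxOver Q F y), rfl⟩
  have hcoq : ∀ (x : ConsOver Q F) (G : EtCoh.Ab X), EtPBC.IsConstructible G → ∀ β : G ⟶ x.1.1.obj, β ≫ x.2 = 0 →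
      ∃ (y : ConsOver Q F) (a : x ⟶ y), β ≫ (consDiagram Q F).map a = 0 := by
    intro x G hG β hβ
    obtain ⟨y, i, hi⟩ := key (cokernel β) (isConstructible_kernel_cokernel β hG x.1.1.isConstructible).2
      (hcok β hG x.1.1.isConstructible x.1.2) (cokernel.desc β x.2 hβ)
    obtain ⟨a, ha⟩ := mkHom x y (cokernel.π β ≫ i.hom) (by rw [Category.assoc, hi, cokernel.π_desc])
    exact ⟨y, a, by rw [ha, cokernel.condition_assoc, zero_comp]⟩
  have hfil : IsFiltered (ConsOver Q F) :=
    { cocone_objs := fun x y => by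
        obtain ⟨z, i, hi⟩ := key (x.1.1.obj ⊞ y.1.1.obj)
          (isConstructible_middle (ShortComplex.mk (biprod.inl : x.1.1.obj ⟶ _) (biprod.snd : _ ⟶ y.1.1.obj) biprod.inl_snd)
            (ShortComplex.Splitting.ofHasBinaryBiproduct _ _).shortExact x.1.1.isConstructible y.1.1.isConstructible)
          (hbi x.1.1.isConstructible y.1.1.isConstructible x.1.2 y.1.2) (biprod.desc x.2 y.2)
        obtain ⟨a, -⟩ := mkHom x z (biprod.inl ≫ i.hom) (by rw [Category.assoc, hi, biprod.inl_desc])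
        obtain ⟨b, -⟩ := mkHom y z (biprod.inr ≫ i.hom) (by rw [Category.assoc, hi, biprod.inr_desc])
        exact ⟨z, a, b, trivial⟩
      cocone_maps := fun {x y} m m' => by
        let k := (consDiagram Q F).map m
        let k' := (consDiagram Q F).map m'
        have hk : k ≫ y.2 = x.2 := Over.w m.hom
        have hk' : k' ≫ y.2 = x.2 := Over.w m'.hom
        obtain ⟨z, a, ha⟩ := hcoq y x.1.1.obj x.1.1.isConstructible (k - k')
          (by rw [Preadditive.sub_comp, hk, hk', sub_self])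
        refine ⟨z, a, InducedCategory.hom_ext (Over.OverMorphism.ext ?_)⟩
        rw [Preadditive.sub_comp, sub_eq_zero] at ha
        exact ha
      nonempty := by
        obtain ⟨G, hG, hQ⟩ := hne
        obtain ⟨x, -⟩ := key G hG hQ 0
        exact ⟨x⟩ }
  haveI := hfil
  refine ⟨hfil, nonempty_isColimit_of_sections _ (fun U t x => ?_) (fun U j s hs x => ?_),
    fun x => ⟨x.1.1.isConstructible, x.1.2⟩⟩
  · obtain ⟨W, g, hx, G, hG, hQ, α, s, hs⟩ := hgen U t x
    obtain ⟨y, i, hi⟩ := key G hG hQ α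
    refine ⟨W, g, hx, y, i.hom.hom.app (op W) s, ?_⟩
    refine Eq.trans ?_ hs
    rw [← hi]
    rfl
  · have hD : EtCoh.IsTorsion j.1.1.obj := by
      obtain ⟨n, hn, hk⟩ := exists_killedBy j.1.1.obj j.1.1.isConstructible
      exact fun V r v => ⟨V, 𝟙 V, ⟨v, rfl⟩, isOfFinAddOrder_iff_nsmul_eq_zero.2 ⟨n, hn, hk V _⟩⟩
    obtain ⟨W, g, w, n, hW, hw, hn, hns⟩ := exists_affine_killed_nhd hD U s x
    haveI := hW
    let s' : EtCoh.sect j.1.1.obj W := j.1.1.obj.obj.map g.op s
    let β := extHom W n s' hns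
    have hβ : β ≫ j.2 = 0 := by
      refine ext_hom_ext ?_
      show j.2.hom.app (op W) (β.hom.app (op W) (gen W n)) = 0
      rw [extHom_gen]
      refine (NatTrans.naturality_apply j.2.hom g.op s).trans ?_
      exact (congrArg (F.obj.map g.op) hs).trans (map_zero _)
    obtain ⟨y, a, ha⟩ := hcoq j _ (isConstructible_extConst W n hn) β hβ
    refine ⟨W, g, ⟨w, hw⟩, y, a, ?_⟩
    have := ConcreteCategory.congr_hom (congr_app (congrArg (fun q => q.hom) ha) (op W)) (gen W n)
    refine Eq.trans ?_ this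
    exact congrArg (((consDiagram Q F).map a).hom.app (op W)) (extHom_gen W n s' hns).symm

/-- a torsion section classified on an affine neighbourhood -/
theorem exists_gen_section {F : EtCoh.Ab X} (hF : EtCoh.IsTorsion F) (U : X.Etale) (t : EtCoh.sect F U) (x : U.left) :
    ∃ (W : X.Etale) (g : W ⟶ U), x ∈ Set.range g.left ∧ ∃ (G : EtCoh.Ab X) (_ : EtPBC.IsConstructible G)
      (_ : True) (α : G ⟶ F) (s : EtCoh.sect G W), α.hom.app (op W) s = F.obj.map g.op t := by
  obtain ⟨W, g, w, n, hW, hw, hn, hns⟩ := exists_affine_killed_nhd hF U t x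
  haveI := hW
  exact ⟨W, g, ⟨w, hw⟩, _, isConstructible_extConst W n hn, trivial, extHom W n _ hns, gen W n,
    extHom_gen W n _ hns⟩

end Groth.Agent.EtCons
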