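import Groth.Agent.EtCons.Presentation
import Groth.Agent.EtColimH.Local
import Mathlib

/-! Constructible sheaves are compact objects, for diagrams indexed by large filtered categories. -/

universe u

open CategoryTheory CategoryTheory.Limits AlgebraicGeometry Opposite Topology

set_option backward.isDefEq.respectTransparency false
set_option backward.isDefEq.respectTransparency.types false

noncomputable section

namespace Groth.Agent.EtCons.Big

variable {X : Scheme.{u}} {J : Type (u + 1)} [SmallCategory J] [IsFiltered J] {K : J ⥤ EtCoh.Ab X} {c : Cocone K}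
  (hc : IsColimit c)

include hc in
theorem exists_lift_ext (U : X.Etale) [IsAffine U.left] (n : ℕ) (α : EtPBC.extZeroConst U (ZMod n) ⟶ c.pt) :
    ∃ (j : J) (β : EtPBC.extZeroConst U (ZMod n) ⟶ K.obj j), β ≫ c.ι.app j = α := by
  let t := α.hom.app (op U) (gen U n)
  haveI : CompactSpace U.left := inferInstance
  haveI : QuasiSeparatedSpace U.left := inferInstance
  obtain ⟨j, s, hs⟩ := EtColimH.exists_rep hc t
  obtain ⟨k, a, ha⟩ := EtColimH.exists_zero_of_isCompact hc (n • s)
    (EtSect.isClosed_sectSupp (K.obj j) (n • s)).isCompact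
    (by rw [map_nsmul, hs]; exact (map_nsmul (α.hom.app (op U)).hom n _).symm.trans (by rw [nsmul_gen, map_zero]))
  refine ⟨k, extHom U n ((K.map a).hom.app (op U) s) (by rw [← map_nsmul]; exact ha), ext_hom_ext ?_⟩
  show (c.ι.app k).hom.app (op U) ((extHom U n _ _).hom.app (op U) (gen U n)) = t
  rw [extHom_gen, ← hs]
  exact ConcreteCategory.congr_hom (congrArg (fun q => q.hom.app (op U)) (c.w a)) s

include hc in
theorem exists_zero_ext (U : X.Etale) [IsAffine U.left] (n : ℕ) {j : J} (β : EtPBC.extZeroConst U (ZMod n) ⟶ K.obj j)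
    (h : β ≫ c.ι.app j = 0) : ∃ (k : J) (a : j ⟶ k), β ≫ K.map a = 0 := by
  haveI : CompactSpace U.left := inferInstance
  obtain ⟨k, a, ha⟩ := EtColimH.exists_zero_of_isCompact hc (β.hom.app (op U) (gen U n))
    (EtSect.isClosed_sectSupp (K.obj j) _).isCompact
    (ConcreteCategory.congr_hom (congr_app (congrArg (fun q => q.hom) h) (op U)) (gen U n))
  exact ⟨k, a, ext_hom_ext ha⟩

variable {b : ℕ} (U : Fin b → X.Etale) [∀ i, IsAffine (U i).left] (N : Fin b → ℕ)

include hc in
theorem exists_zero_sum {j : J} (β : (⨁ fun i => EtPBC.extZeroConst (U i) (ZMod (N i))) ⟶ K.obj j)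
    (h : β ≫ c.ι.app j = 0) : ∃ (k : J) (a : j ⟶ k), β ≫ K.map a = 0 := by
  classical
  let A := fun i => EtPBC.extZeroConst (U i) (ZMod (N i))
  choose k a ha using fun i => exists_zero_ext hc (U i) (N i) (biproduct.ι A i ≫ β) (by rw [Category.assoc, h, comp_zero])
  have : ∀ s : Finset (Fin b), ∃ (m : J) (e : j ⟶ m), ∀ i ∈ s, biproduct.ι A i ≫ β ≫ K.map e = 0 := by
    intro s
    induction s using Finset.induction_on with
    | empty => exact ⟨j, 𝟙 j, by simp⟩
    | insert i s _ ih =>
      obtain ⟨m, e, he⟩ := ih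
      obtain ⟨l, v, w, hvw⟩ := IsFiltered.span e (a i)
      refine ⟨l, e ≫ v, fun i' hi' => ?_⟩
      rcases Finset.mem_insert.mp hi' with rfl | hi'
      · rw [hvw, Functor.map_comp, ← Category.assoc, ← Category.assoc, ha, zero_comp]
      · have h' := congrArg (· ≫ K.map v) (he i' hi')
        simpa using h'
  obtain ⟨m, e, he⟩ := this Finset.univ
  refine ⟨m, e, biproduct.hom_ext' _ _ fun i => ?_⟩
  rw [comp_zero]
  exact he i (Finset.mem_univ i)

include hc in
theorem exists_lift_sum (α : (⨁ fun i => EtPBC.extZeroConst (U i) (ZMod (N i))) ⟶ c.pt) :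
    ∃ (j : J) (β : (⨁ fun i => EtPBC.extZeroConst (U i) (ZMod (N i))) ⟶ K.obj j), β ≫ c.ι.app j = α := by
  classical
  let A := fun i => EtPBC.extZeroConst (U i) (ZMod (N i))
  choose j β hβ using fun i => exists_lift_ext hc (U i) (N i) (biproduct.ι A i ≫ α)
  obtain ⟨m, hm⟩ := IsFiltered.sup_objs_exists (Finset.univ.image j)
  refine ⟨m, biproduct.desc fun i => β i ≫ K.map (hm (Finset.mem_image_of_mem j (Finset.mem_univ i))).some,
    biproduct.hom_ext' _ _ fun i => ?_⟩
  rw [biproduct.ι_desc_assoc, Category.assoc, c.w, hβ]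

section

variable [CompactSpace X] [QuasiSeparatedSpace X] {F : EtCoh.Ab X} (hF : EtPBC.IsConstructible F)

include hc hF in
theorem exists_zero_of_constructible {j : J} (β : F ⟶ K.obj j) (h : β ≫ c.ι.app j = 0) :
    ∃ (k : J) (a : j ⟶ k), β ≫ K.map a = 0 := by
  obtain ⟨b, U, hU, N, hN, g, hg⟩ := exists_generators F hF
  haveI := hg
  obtain ⟨k, a, ha⟩ := exists_zero_sum hc U N (g ≫ β) (by rw [Category.assoc, h, comp_zero])
  exact ⟨k, a, by rw [← cancel_epi g, comp_zero, ← Category.assoc, ha]⟩

include hc hF in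
theorem exists_lift_of_constructible (α : F ⟶ c.pt) : ∃ (j : J) (β : F ⟶ K.obj j), β ≫ c.ι.app j = α := by
  obtain ⟨b, U, hU, N, hN, g, hg⟩ := exists_generators F hF
  haveI := hg
  obtain ⟨j, β, hβ⟩ := exists_lift_sum hc U N (g ≫ α)
  have hK : EtPBC.IsConstructible (kernel g) :=
    (isConstructible_kernel_cokernel g
      (isConstructible_biproduct _ fun i => by haveI := hU i; exact isConstructible_extConst (U i) (N i) (hN i)) hF).1
  obtain ⟨k, a, ha⟩ := exists_zero_of_constructible hc hK (kernel.ι g ≫ β)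
    (by rw [Category.assoc, hβ, kernel.condition_assoc, zero_comp])
  refine ⟨k, Abelian.epiDesc g (β ≫ K.map a) (by rw [← Category.assoc, ha]), ?_⟩
  rw [← cancel_epi g, Abelian.comp_epiDesc_assoc, Category.assoc, c.w, hβ]

end

end Groth.Agent.EtCons.Big
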