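import Mathlib
import Groth.Agent.EtFLC.Serre
import Groth.Agent.EtMV.ConstSect
import Groth.Agent.EtMV.NormalIrr
import Groth.Agent.EtCons.PullFLC

/-! Subsheaves of finite locally constant sheaves near a generic point. -/

universe u

open CategoryTheory CategoryTheory.Limits AlgebraicGeometry Opposite Topology TopologicalSpace

set_option backward.isDefEq.respectTransparency false
set_option backward.isDefEq.respectTransparency.types false

noncomputable section

namespace Groth.Agent.EtCons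

/-- Restriction of sections. -/
local notation "rs" => Groth.Agent.EtFLC.res

theorem eq_of_specializes_of_map_eq {A B : Scheme.{u}} (f : A ⟶ B) [LocallyQuasiFinite f] {a a' : A}
    (h : a ⤳ a') (e : f a = f a') : a = a' :=
  (f.isDiscrete_preimage_singleton (f a)).eq_of_specializes h rfl e.symm

variable {T : Scheme.{u}}

theorem exists_irr_nhd [IsLocallyNoetherian T] {t : T} (ht : ∀ y : T, t ⤳ y) {U : T.Etale} (u : U.left)
    (hu : U.hom u = t) :
    ∃ (U' : T.Etale) (g : U' ⟶ U) (u' : U'.left), g.left u' = u ∧ ∀ v, u' ⤳ v := by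
  haveI : Etale U.hom := U.prop
  let f₀ : U.left ⟶ T := U.hom
  haveI : Etale f₀ := U.prop
  haveI : IsLocallyNoetherian U.left := LocallyOfFiniteType.isLocallyNoetherian f₀
  obtain ⟨(A : U.left.Opens), hA, huA, -⟩ := Opens.isBasis_iff_nbhd.1 U.left.isBasis_affineOpens (x := u) (U := ⊤) trivial
  haveI : IsAffine A.toScheme := hA
  haveI : IsLocallyNoetherian A.toScheme := LocallyOfFiniteType.isLocallyNoetherian A.ι
  haveI : IsNoetherian A.toScheme := {}
  let a : A.toScheme := ⟨u, huA⟩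
  let f : A.toScheme ⟶ T := A.ι ≫ f₀
  haveI : NoetherianSpace A.toScheme := inferInstance
  let bad := {C ∈ irreducibleComponents A.toScheme | a ∉ C}
  have hfin : bad.Finite := NoetherianSpace.finite_irreducibleComponents.subset fun C hC => hC.1
  have hcl : IsClosed (⋃ C ∈ bad, C) :=
    hfin.isClosed_biUnion fun C hC => isClosed_of_mem_irreducibleComponents C hC.1
  let W : A.toScheme.Opens := ⟨(⋃ C ∈ bad, C)ᶜ, hcl.isOpen_compl⟩
  have haW : a ∈ W := fun h => by
    obtain ⟨C, hC, ha⟩ := Set.mem_iUnion₂.1 h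
    exact hC.2 ha
  have hW : ∀ v ∈ W, a ⤳ v := by
    intro v hv
    have hvC := irreducibleComponent_property v
    have hC := irreducibleComponent_mem_irreducibleComponents v
    have ha : a ∈ irreducibleComponent v :=
      by_contra fun ha => hv (Set.mem_biUnion (show irreducibleComponent v ∈ bad from ⟨hC, ha⟩) mem_irreducibleComponent)
    obtain ⟨η, hη⟩ := QuasiSober.sober (isIrreducible_irreducibleComponent (x := v)) (isClosed_irreducibleComponent (x := v))
    have h1 : η ⤳ a := hη.specializes ha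
    have h2 : η ⤳ v := hη.specializes mem_irreducibleComponent
    have he : f η = f a := by
      have hfa : f a = t := hu
      refine (Specializes.antisymm ?_ ?_).eq
      · exact h1.map f.continuous
      · rw [hfa]; exact ht _
    haveI : Etale f := inferInstanceAs (Etale (A.ι ≫ f₀))
    haveI := EtMV.lqf_of_etale f
    rw [← eq_of_specializes_of_map_eq f h1 he]
    exact h2
  let U' : T.Etale :=
    haveI : Etale (W.ι ≫ A.ι ≫ f₀) := inferInstance
    Scheme.Etale.mk (W.ι ≫ A.ι ≫ f₀)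
  refine ⟨U', MorphismProperty.Over.homMk (W.ι ≫ A.ι) (Category.assoc _ _ _), (⟨a, haW⟩ : W.toScheme), rfl, fun v => ?_⟩
  exact W.ι.isOpenEmbedding.isInducing.specializes_iff.1 (hW v.1 v.2)

variable {H G : EtCoh.Ab T} (ι : H ⟶ G) {U : T.Etale} {M : Type} [AddCommGroup M] (σ : M →+ EtCoh.sect G U) (u : U.left)

/-- The values lifting to the subsheaf near `u`. -/
def liftable : AddSubgroup M where
  carrier := {m | ∃ (W : T.Etale) (h : W ⟶ U) (w : W.left) (s : EtCoh.sect H W),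
    h.left w = u ∧ ι.hom.app (op W) s = rs G h (σ m)}
  zero_mem' := ⟨U, 𝟙 U, u, 0, rfl, by simp⟩
  add_mem' := by
    rintro a b ⟨W₁, h₁, w₁, s₁, e₁, f₁⟩ ⟨W₂, h₂, w₂, s₂, e₂, f₂⟩
    obtain ⟨Z, p, q, z, hpq, hz⟩ := EtMV.exists_refinement h₁ h₂ w₁ w₂ (e₁.trans e₂.symm)
    refine ⟨Z, p ≫ h₁, z, rs H p s₁ + rs H q s₂, by rw [EtFLC.comp_left_apply, hz, e₁], ?_⟩
    have g₁ : ι.hom.app (op Z) (rs H p s₁) = rs G (p ≫ h₁) (σ a) := by
      rw [← EtFLC.res_res, ← f₁]; exact EtFLC.app_res ι p s₁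
    have g₂ : ι.hom.app (op Z) (rs H q s₂) = rs G (p ≫ h₁) (σ b) := by
      rw [hpq, ← EtFLC.res_res, ← f₂]; exact EtFLC.app_res ι q s₂
    rw [map_add, map_add, map_add, g₁, g₂]
  neg_mem' := by
    rintro a ⟨W, h, w, s, e, f⟩
    exact ⟨W, h, w, -s, e, by rw [map_neg, f, map_neg, map_neg]⟩

theorem exists_lift_all [Finite M] :
    ∃ (U' : T.Etale) (g : U' ⟶ U) (u' : U'.left), g.left u' = u ∧
      ∀ m ∈ liftable ι σ u, ∃ s, ι.hom.app (op U') s = rs G g (σ m) := by
  classical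
  cases nonempty_fintype M
  suffices H' : ∀ t : Finset M, ∃ (U' : T.Etale) (g : U' ⟶ U) (u' : U'.left), g.left u' = u ∧
      ∀ m ∈ t, m ∈ liftable ι σ u → ∃ s, ι.hom.app (op U') s = rs G g (σ m) by
    obtain ⟨U', g, u', hu', h⟩ := H' Finset.univ
    exact ⟨U', g, u', hu', fun m hm => h m (Finset.mem_univ m) hm⟩
  intro t
  induction t using Finset.cons_induction with
  | empty => exact ⟨U, 𝟙 U, u, rfl, by simp⟩
  | cons a t _ ih =>
    obtain ⟨V, g, v, hv, hV⟩ := ih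
    by_cases ha : a ∈ liftable ι σ u
    · obtain ⟨W, h, w, s, e, f⟩ := ha
      obtain ⟨Z, p, q, z, hpq, hz⟩ := EtMV.exists_refinement g h v w (hv.trans e.symm)
      refine ⟨Z, p ≫ g, z, by rw [EtFLC.comp_left_apply, hz, hv], fun m hm hml => ?_⟩
      rcases Finset.mem_cons.1 hm with rfl | hm
      · exact ⟨rs H q s, by rw [hpq, ← EtFLC.res_res, ← f]; exact EtFLC.app_res ι q s⟩
      · obtain ⟨s', hs'⟩ := hV m hm hml
        exact ⟨rs H p s', by rw [← EtFLC.res_res, ← hs']; exact EtFLC.app_res ι p s'⟩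
    · refine ⟨V, g, v, hv, fun m hm hml => ?_⟩
      rcases Finset.mem_cons.1 hm with rfl | hm
      · exact absurd hml ha
      · exact hV m hm hml

theorem liftable_of_lift {U' : T.Etale} (g : U' ⟶ U) {v : U'.left} (hu : ∀ v' : U'.left, g.left v' ⤳ g.left v → u ⤳ g.left v)
    {W : T.Etale} (h : W ⟶ U') (w : W.left) (hw : h.left w = v) (m : M) (s : EtCoh.sect H W)
    (hs : ι.hom.app (op W) s = rs G (h ≫ g) (σ m)) : m ∈ liftable ι σ u := by
  haveI : Etale (h ≫ g).left := EtSect.etale_left _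
  have ho : IsOpen (Set.range (h ≫ g).left) := (Scheme.Hom.isOpenMap (h ≫ g).left).isOpen_range
  have hv : g.left v ∈ Set.range (h ≫ g).left := ⟨w, by rw [EtFLC.comp_left_apply, hw]⟩
  obtain ⟨w', hw'⟩ := (hu v specializes_rfl).mem_open ho hv
  exact ⟨W, h ≫ g, w', s, hw', hs⟩

theorem isTriv_sub [Mono ι] {σ : M →+ EtCoh.sect G U} {u : U.left} (hσ : EtFLC.IsTriv G U σ) {U' : T.Etale}
    (g : U' ⟶ U) (hu : ∀ v : U'.left, u ⤳ g.left v) (M' : AddSubgroup M) (hM : liftable ι σ u ≤ M')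
    (τ : M' →+ EtCoh.sect H U') (hτ : ∀ m, ι.hom.app (op U') (τ m) = rs G g (σ m.1)) :
    EtFLC.IsTriv H U' τ where
  surj {V} k s v := by
    obtain ⟨W, h, w, m, hw, hm⟩ := hσ.surj (k ≫ g) (ι.hom.app (op V) s) v
    have hm' : m ∈ M' := hM (liftable_of_lift ι σ u g (v := (h ≫ k).left w) (fun v' _ => hu _) (h ≫ k) w rfl m
      (rs H h s) (by rw [Category.assoc]; exact (EtFLC.app_res ι h s).trans hm))
    refine ⟨W, h, w, ⟨m, hm'⟩, hw, EtFLC.app_injective ι W ?_⟩
    refine (EtFLC.app_res ι h s).trans (hm.trans ?_)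
    rw [EtFLC.app_res, hτ, EtFLC.res_res, Category.assoc]
  inj {V} k m hm v := by
    have h1 : rs G (k ≫ g) (σ m.1) = 0 := by
      rw [← EtFLC.res_res, ← hτ, ← EtFLC.app_res, hm, map_zero]
    exact Subtype.ext (hσ.inj (k ≫ g) m.1 h1 v)

theorem exists_triv_sub [Mono ι] [Finite M] [IsLocallyNoetherian T] {t : T} (ht : ∀ y : T, t ⤳ y)
    {σ : M →+ EtCoh.sect G U} {u : U.left} (hut : U.hom u = t) (hσ : EtFLC.IsTriv G U σ) :
    ∃ (U' : T.Etale) (g : U' ⟶ U) (u' : U'.left) (τ : liftable ι σ u →+ EtCoh.sect H U'),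
      g.left u' = u ∧ (∀ v : U'.left, u ⤳ g.left v) ∧ EtFLC.IsTriv H U' τ ∧
      ∀ m, ι.hom.app (op U') (τ m) = rs G g (σ m.1) := by
  obtain ⟨U₁, g₁, u₁, hu₁, hl⟩ := exists_lift_all ι σ u
  obtain ⟨U', g₂, u', hu', hirr⟩ := exists_irr_nhd ht u₁ (by rw [← hut, ← hu₁, EtFLC.hom_comp_left])
  have hg : ∀ v : U'.left, u ⤳ (g₂ ≫ g₁).left v := fun v => by
    have := (hirr v).map (g₂ ≫ g₁).left.continuous
    rwa [EtFLC.comp_left_apply, hu', hu₁] at this
  choose s hs using fun m : liftable ι σ u => hl m.1 m.2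
  have hτ : ∀ m : liftable ι σ u, ι.hom.app (op U') (rs H g₂ (s m)) = rs G (g₂ ≫ g₁) (σ m.1) := fun m => by
    rw [← EtFLC.res_res, ← hs m]; exact EtFLC.app_res ι g₂ (s m)
  let τ : liftable ι σ u →+ EtCoh.sect H U' := AddMonoidHom.mk' (fun m => rs H g₂ (s m)) (fun a b =>
    EtFLC.app_injective ι U' (by rw [map_add]; erw [hτ, hτ, hτ]; rw [AddSubgroup.coe_add, map_add, map_add]))
  exact ⟨U', g₂ ≫ g₁, u', τ, by rw [EtFLC.comp_left_apply, hu', hu₁], hg,
    isTriv_sub ι hσ (g₂ ≫ g₁) hg _ le_rfl τ hτ, hτ⟩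

theorem isFLC_pull_range {X : Scheme.{u}} (F : EtCoh.Ab X) (U : X.Etale) {M : Type} [AddCommGroup M] [Finite M]
    (σ : M →+ EtCoh.sect F U) (hσ : EtFLC.IsTriv F U σ) (O : X.Opens) (hO : (O : Set X) ⊆ Set.range U.hom) :
    EtCoh.IsFiniteLocallyConstant ((EtCoh.pull O.ι).obj F) := by
  rw [isFLC_iff_local]
  intro x
  obtain ⟨u, hu⟩ := hO x.2
  haveI : Etale U.hom := U.prop
  haveI := EtMV.jcont_etale U.hom
  obtain ⟨e⟩ := nonempty_restr_iso_of_isTriv F U σ hσ
  obtain ⟨z, hz, -⟩ := Scheme.Pullback.exists_preimage_pullback (f := O.ι) (g := U.hom) x u hu.symm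
  let p := pullback.fst O.ι U.hom
  let q := pullback.snd O.ι U.hom
  obtain ⟨a⟩ := nonempty_pull_pull p O.ι (p ≫ O.ι) rfl
  obtain ⟨b⟩ := nonempty_pull_pull q U.hom (p ≫ O.ι) pullback.condition.symm
  exact ⟨_, p, inferInstance, z, M, inferInstance, inferInstance, hz,
    ⟨a.app F ≪≫ (b.app F).symm ≪≫ (EtCoh.pull q).mapIso (((EtPushStalk.restrPullIso U.hom).app F).symm ≪≫ e) ≪≫
      EtCore.pullConst q M⟩⟩

end Groth.Agent.EtCons
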