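import Mathlib
import Groth.Agent.EtCons.Basic
import Groth.Agent.EtCons.Generic
import Groth.Agent.EtPullExact.Basic

/-! Subsheaves and quotients of constructible sheaves on Noetherian schemes. -/

universe u

open CategoryTheory CategoryTheory.Limits AlgebraicGeometry Opposite Topology TopologicalSpace

set_option backward.isDefEq.respectTransparency false
set_option backward.isDefEq.respectTransparency.types false

noncomputable section

namespace Groth.Agent.EtCons

/-- Restriction of sections. -/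
local notation "rs" => Groth.Agent.EtFLC.res

theorem isConstructible_of_lc {S : Type u} [TopologicalSpace S] [NoetherianSpace S] {A : Set S}
    (hA : IsLocallyClosed A) : IsConstructible A := by
  obtain ⟨O, Z, hO, hZ, rfl⟩ := hA
  have h : ∀ s : Set S, IsOpen s → IsConstructible s := fun s hs =>
    (show IsRetrocompact s from fun V _ _ => NoetherianSpace.isCompact _).isConstructible hs
  exact (h O hO).inter (h Zᶜ hZ.isOpen_compl).of_compl

variable {X : Scheme.{u}}

theorem isConstructible_of_iso {F G : EtCoh.Ab X} (e : F ≅ G) (h : EtPBC.IsConstructible F) :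
    EtPBC.IsConstructible G := by
  rw [isConstructible_iff] at h ⊢
  intro x
  obtain ⟨U, hU, hxU, T, g, C, hg, hC, hx, hCg, hF⟩ := h x
  exact ⟨U, hU, hxU, T, g, C, hg, hC, hx, hCg, isFLC_of_iso ((EtCoh.pull g).mapIso e) hF⟩

theorem exists_generic_stratum [IsLocallyNoetherian X] {F : EtCoh.Ab X} (hF : EtPBC.IsConstructible F) (x : X) :
    ∃ (T : Scheme.{u}) (j : T ⟶ X) (_ : IsImmersion j) (_ : IsLocallyNoetherian T) (t : T), j t = x ∧
      (∀ y : T, t ⤳ y) ∧ EtCoh.IsFiniteLocallyConstant ((EtCoh.pull j).obj F) := by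
  obtain ⟨U, hU, hxU, T₀, g, C, hg, hC, ⟨hh, hxC⟩, hCg, hgF⟩ := (isConstructible_iff F).1 hF x
  haveI := hg
  obtain ⟨t₀, ht₀⟩ := hCg ⟨_, hxC, rfl⟩
  obtain ⟨T, i, hi, hir⟩ := exists_immersion_range (isClosed_closure (s := ({t₀} : Set T₀))).isLocallyClosed
  haveI := hi
  haveI : IsLocallyNoetherian T := LocallyOfFiniteType.isLocallyNoetherian (i ≫ g)
  obtain ⟨t, ht⟩ : t₀ ∈ Set.range i := hir ▸ subset_closure rfl
  obtain ⟨a⟩ := nonempty_pull_pull i g (i ≫ g) rfl
  refine ⟨T, i ≫ g, inferInstance, inferInstance, t, (congrArg g ht).trans ht₀, fun y => ?_,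
    isFLC_of_iso (a.app F) (isFLC_pull i hgF)⟩
  rw [← i.isEmbedding.isInducing.specializes_iff, ht, specializes_iff_mem_closure, ← hir]
  exact ⟨y, rfl⟩

theorem goodAt_of_open_stratum [IsLocallyNoetherian X] {H : EtCoh.Ab X} {T : Scheme.{u}} (j : T ⟶ X) [IsImmersion j]
    {O : T.Opens} {t : T} (htO : t ∈ O) (h : EtCoh.IsFiniteLocallyConstant ((EtCoh.pull (O.ι ≫ j)).obj H)) :
    GoodAt H (j t) := by
  obtain ⟨D, hD, hxD, -⟩ := exists_affine_le (V := (⊤ : X.Opens)) (x := j t) trivial
  haveI : IsAffine D.toScheme := hD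
  haveI : IsLocallyNoetherian D.toScheme := LocallyOfFiniteType.isLocallyNoetherian D.ι
  haveI : IsNoetherian D.toScheme := {}
  haveI : NoetherianSpace (D : Set X) := (inferInstance : NoetherianSpace D.toScheme)
  refine ⟨D, hD, hxD, _, O.ι ≫ j, Subtype.val ⁻¹' Set.range (O.ι ≫ j), inferInstance,
    isConstructible_of_lc ((O.ι ≫ j).isLocallyClosed_range.preimage continuous_subtype_val),
    ⟨hxD, ⟨⟨t, htO⟩, rfl⟩⟩, Set.image_preimage_subset _ _, h⟩

theorem isConstructible_sub [IsLocallyNoetherian X] {H F : EtCoh.Ab X} (ι : H ⟶ F) [Mono ι]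
    (hF : EtPBC.IsConstructible F) : EtPBC.IsConstructible H := by
  rw [isConstructible_iff]
  intro x
  obtain ⟨T, j, hj, hTn, t, rfl, ht, hflc⟩ := exists_generic_stratum hF x
  haveI := hj; haveI := hTn
  haveI := EtPullExact.pull_preservesFiniteLimits j
  haveI : Mono ((EtCoh.pull j).map ι) := inferInstance
  obtain ⟨U, u, M, _, _, σ, hu, hσ⟩ := (EtFLC.isFLC_iff _).1 hflc t
  obtain ⟨U', g, u', τ, hu', hirr, hτ, -⟩ := exists_triv_sub ((EtCoh.pull j).map ι) ht hu hσ
  haveI : Etale U'.hom := U'.prop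
  let O : T.Opens := ⟨Set.range U'.hom, (Scheme.Hom.isOpenMap U'.hom).isOpen_range⟩
  have htO : t ∈ O := ⟨u', by rw [← hu, ← hu', EtFLC.hom_comp_left]⟩
  obtain ⟨a⟩ := nonempty_pull_pull O.ι j (O.ι ≫ j) rfl
  exact goodAt_of_open_stratum j htO (isFLC_of_iso (a.app H)
    (isFLC_pull_range _ U' τ hτ O subset_rfl))

theorem isConstructible_quotient [IsLocallyNoetherian X] {F Q : EtCoh.Ab X} (π : F ⟶ Q) [Epi π]
    (hF : EtPBC.IsConstructible F) : EtPBC.IsConstructible Q := by
  have hk := isConstructible_sub (kernel.ι π) hF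
  have h := (isConstructible_kernel_cokernel (kernel.ι π) hk hF).2
  exact isConstructible_of_iso
    ((cokernelIsCokernel (kernel.ι π)).coconePointUniqueUpToIso (Abelian.epiIsCokernelOfKernel _ (limit.isLimit (parallelPair π 0)))) h

end Groth.Agent.EtCons
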