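import Groth.Agent.EtCons.CommonStratum
import Groth.Agent.EtIntegral.BaseChange
import Groth.Agent.EtCons.NoethCons
import Mathlib

/-! Over a stratum of the base a constructible sheaf becomes finite locally constant upstairs. -/

universe u

open CategoryTheory CategoryTheory.Limits AlgebraicGeometry Topology

set_option backward.isDefEq.respectTransparency false

namespace Groth.Agent.EtCons

theorem isClosedImmersion_of_finite_mono {A B : Scheme.{u}} (f : A ⟶ B) [IsFinite f] [Mono f] :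
    IsClosedImmersion f :=
  (IsClosedImmersion.iff_isFinite_and_mono f).2 ⟨‹_›, ‹_›⟩

theorem exists_flc_stratum {X Y : Scheme.{u}} (f : X ⟶ Y) [IsFinite f] {F : EtCoh.Ab X}
    (hF : EtPBC.IsConstructible F) (y : Y) :
    ∃ (D : Y.Opens) (T : Scheme.{u}) (c : T ⟶ Y), IsAffineOpen D ∧ IsImmersion c ∧ y ∈ D ∧ y ∈ Set.range c ∧
      IsConstructible ((Subtype.val : ↥(D : Set Y) → Y) ⁻¹' Set.range c) ∧
      EtCoh.IsFiniteLocallyConstant ((EtCoh.pull (pullback.fst f c)).obj F) := by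
  obtain ⟨D, hD, hyD, -⟩ := exists_affine_le (V := (⊤ : Y.Opens)) (x := y) trivial
  have hXD : IsAffineOpen (f ⁻¹ᵁ D) := hD.preimage f
  obtain ⟨n, Q, g, hg, hgC, hgd, hgU, hgF⟩ := hF _ hXD
  haveI := hg
  haveI : IsAffine (f ⁻¹ᵁ D).toScheme := hXD
  let k : ∀ i, Q i ⟶ (f ⁻¹ᵁ D).toScheme := fun i => IsOpenImmersion.lift (f ⁻¹ᵁ D).ι (g i) (by
    rw [Scheme.Opens.range_ι, ← hgU]; exact Set.subset_iUnion (fun i => Set.range (g i)) i)
  have hk : ∀ i, k i ≫ (f ⁻¹ᵁ D).ι = g i := fun i => IsOpenImmersion.lift_fac _ _ _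
  haveI : ∀ i, IsImmersion (k i) := fun i => by
    haveI : IsImmersion (k i ≫ (f ⁻¹ᵁ D).ι) := by rw [hk]; infer_instance
    exact IsImmersion.of_comp _ (f ⁻¹ᵁ D).ι
  haveI : ∀ i, QuasiSeparatedSpace (Q i) := fun i => quasiSeparatedSpace_of_quasiSeparated (k i)
  have hcpt : ∀ i, IsCompact (((g i ≫ f) ⁻¹ᵁ D : (Q i).Opens) : Set (Q i)) := fun i => by
    have e : (((g i ≫ f) ⁻¹ᵁ D : (Q i).Opens) : Set (Q i)) = Set.univ := Set.eq_univ_of_forall fun z => by
      show g i z ∈ ((f ⁻¹ᵁ D : X.Opens) : Set X)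
      rw [← hgU]; exact Set.mem_iUnion.2 ⟨i, z, rfl⟩
    rw [e, (k i).isEmbedding.isInducing.isCompact_iff, Set.image_univ]
    have e2 : Set.range (k i) = (Subtype.val : ↥((f ⁻¹ᵁ D : X.Opens) : Set X) → X) ⁻¹' Set.range (g i) := by
      ext z
      constructor
      · rintro ⟨q, rfl⟩; exact ⟨q, congr($(hk i) q).symm⟩
      · rintro ⟨q, hq⟩
        exact ⟨q, Subtype.ext ((congr($(hk i) q)).trans hq)⟩
    rw [e2]
    exact isCompact_of_constructible (W := (f ⁻¹ᵁ D).toScheme) (hgC i)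
  obtain ⟨T, c, hc, hyc, hcD, hC, hfin⟩ := exists_common_stratum Q (fun i => g i ≫ f) hD hcpt hyD
  haveI := hc
  refine ⟨D, T, c, hD, hc, hyD, hyc, hC, ?_⟩
  let p := pullback.fst f c
  haveI : ∀ i, IsClosedImmersion (pullback.snd (g i) p) := fun i => by
    haveI : IsFinite (pullback.snd (g i) p ≫ pullback.snd f c) := by
      haveI := hfin i
      rw [← pullbackRightPullbackFstIso_hom_snd f c (g i)]
      infer_instance
    haveI : IsFinite (pullback.snd (g i) p) := IsFinite.of_comp _ (pullback.snd f c)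
    exact isClosedImmersion_of_finite_mono _
  have hr : ∀ i, Set.range (pullback.snd (g i) p) = p ⁻¹' Set.range (g i) := fun i =>
    Scheme.Pullback.range_snd (f := g i) (g := p)
  refine isFLC_of_closed_partition (fun i => pullback (g i) p) (fun i => pullback.snd (g i) p) ?_ ?_ fun i => ?_
  · intro i j hij
    rw [hr, hr]
    exact (hgd hij).preimage _
  · simp only [hr, ← Set.preimage_iUnion, hgU]
    refine Set.eq_univ_of_forall fun z => ?_
    show f (pullback.fst f c z) ∈ (D : Set Y)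
    rw [← Scheme.Hom.comp_apply, pullback.condition, Scheme.Hom.comp_apply]
    exact hcD ⟨_, rfl⟩
  · obtain ⟨e1⟩ := nonempty_pull_pull (pullback.snd (g i) p) p _ rfl
    obtain ⟨e2⟩ := nonempty_pull_pull (pullback.fst (g i) p) (g i) (pullback.snd (g i) p ≫ p) pullback.condition
    exact isFLC_of_iso (e2.app F ≪≫ (e1.app F).symm) (isFLC_pull _ (hgF i))

end Groth.Agent.EtCons
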