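import Groth.Agent.EtCons.SplitUH
import Groth.Agent.EtCons.PushStratum
import Groth.Agent.EtFLC.PushFlc
import Groth.Agent.EtIntegral.BaseChange
import Groth.Agent.FpqcDescent.Sep
import Mathlib

/-! Direct images of constructible sheaves along finite morphisms of finite presentation. -/

universe u

open CategoryTheory CategoryTheory.Limits AlgebraicGeometry Topology

set_option backward.isDefEq.respectTransparency false

namespace Groth.Agent.EtCons

/-- finite local constancy is etale local -/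
theorem isFLC_of_pull_etale {W X : Scheme.{u}} (r : W ⟶ X) [Etale r] [Surjective r] {F : EtCoh.Ab X}
    (h : EtCoh.IsFiniteLocallyConstant ((EtCoh.pull r).obj F)) : EtCoh.IsFiniteLocallyConstant F := by
  rw [isFLC_iff_local] at h ⊢
  intro x
  obtain ⟨w₀, hw₀⟩ := r.surjective x
  obtain ⟨U, g, hg, u, M, iM, fM, hu, ⟨e⟩⟩ := h w₀
  haveI := hg
  obtain ⟨e1⟩ := nonempty_pull_pull g r (g ≫ r) rfl
  exact ⟨U, g ≫ r, inferInstance, u, M, iM, fM, by rw [Scheme.Hom.comp_apply, hu, hw₀],
    ⟨(e1.app F).symm ≪≫ e⟩⟩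

theorem isFLC_push_uh {A L : Scheme.{u}} (φ : A ⟶ L) [IsIntegralHom φ] [UniversallyInjective φ] [Surjective φ]
    {G : EtCoh.Ab A} (h : EtCoh.IsFiniteLocallyConstant G) :
    EtCoh.IsFiniteLocallyConstant ((EtCoh.push φ).obj G) := by
  haveI := EtInvariance.push_isEquivalence φ
  haveI : IsIso (EtCoh.pullPushAdj φ).counit := Adjunction.counit_isIso_of_R_fully_faithful _
  exact isFLC_of_pull_uh φ (isFLC_of_iso (asIso ((EtCoh.pullPushAdj φ).counit.app G)).symm h)

theorem isConstructible_badSet {A L : Scheme.{u}} (φ : A ⟶ L) [IsFinite φ] [LocallyOfFinitePresentation φ]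
    [IsAffine L] : IsConstructible (badSet φ) := by
  haveI : IsAffine A := isAffine_of_isAffineHom φ
  haveI : IsAffine (pullback φ φ) := isAffine_of_isAffineHom (pullback.fst φ φ)
  haveI : LocallyOfFinitePresentation (pullback.diagonal φ ≫ pullback.fst φ φ) := by
    rw [pullback.diagonal_fst]; infer_instance
  haveI : LocallyOfFinitePresentation (pullback.diagonal φ) := LimDesc.lfp_of_comp _ (pullback.fst φ φ)
  refine IsConstructible.union ?_ ?_
  · rw [← Set.image_univ]
    exact (φ.isConstructible_image IsConstructible.univ).compl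
  · refine (pullback.fst φ φ ≫ φ).isConstructible_image ?_
    rw [← Set.image_univ]
    exact ((pullback.diagonal φ).isConstructible_image IsConstructible.univ).compl

/-- over a stratum, a finite morphism is a universal homeomorphism followed by a finite etale one -/
theorem exists_split_stratum {X Y : Scheme.{u}} (f : X ⟶ Y) [IsFinite f] [LocallyOfFinitePresentation f]
    {D : Y.Opens} (hD : IsAffineOpen D) {y : Y} (hyD : y ∈ D) {T₀ : Scheme.{u}} (c₀ : T₀ ⟶ Y) [IsImmersion c₀]
    (hyc₀ : y ∈ Set.range c₀) (hC₀ : IsConstructible ((Subtype.val : ↥(D : Set Y) → Y) ⁻¹' Set.range c₀)) :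
    ∃ (T : Scheme.{u}) (cT : T ⟶ Y) (j : T ⟶ T₀) (W : Scheme.{u}) (r : W ⟶ T) (AW : Scheme.{u})
      (LW : Scheme.{u}) (g' : AW ⟶ X) (φW : AW ⟶ LW) (πW : LW ⟶ W),
      IsImmersion cT ∧ j ≫ c₀ = cT ∧ y ∈ Set.range cT ∧
      IsConstructible ((Subtype.val : ↥(D : Set Y) → Y) ⁻¹' Set.range cT) ∧ Etale r ∧ Surjective r ∧
      IsFinite φW ∧ UniversallyInjective φW ∧ Surjective φW ∧ IsFinite πW ∧ Etale πW ∧
      (y ∈ Set.range f → Surjective πW) ∧ IsPullback g' (φW ≫ πW) f (r ≫ cT) := by
  classical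
  obtain ⟨V, p, L, φ, πL, v, hp, hV, hpD, hpv, hπf, hπe, hφf, hφp, hφ, hv⟩ := exists_split_uh f y hyD
  haveI := hp; haveI := hV; haveI := hπf; haveI := hπe; haveI := hφf; haveI := hφp
  haveI : IsAffine L := isAffine_of_isAffineHom πL
  haveI : IsAffine D.toScheme := hD
  haveI : LocallyOfFinitePresentation πL := inferInstance
  let Sd : Set V := if y ∈ Set.range f then Set.range πL else Set.univ
  have hSd : IsConstructible Sd := by
    by_cases h : y ∈ Set.range f
    · simp only [Sd, if_pos h, ← Set.image_univ]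
      exact πL.isConstructible_image IsConstructible.univ
    · simp only [Sd, if_neg h]
      exact IsConstructible.univ
  have hvS : v ∈ Sd := by
    by_cases h : y ∈ Set.range f
    · simp only [Sd, if_pos h]
      obtain ⟨x, hx⟩ := h
      obtain ⟨w, hw, -⟩ := Scheme.Pullback.exists_preimage_pullback (f := p) (g := f) v x (hpv.trans hx.symm)
      exact ⟨φ w, by rw [← Scheme.Hom.comp_apply, hφ]; exact hw⟩
    · simp only [Sd, if_neg h]
      trivial
  let B : Set V := πL '' badSet φ ∪ Sdᶜ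
  have hbad : IsConstructible B :=
    (πL.isConstructible_image (isConstructible_badSet φ)).union hSd.compl
  have hvB : v ∈ Bᶜ := fun h => h.elim hv fun h => h hvS
  -- the good and bad parts as finitely many immersed pieces
  let C : Bool → Set V := fun b => bif b then Bᶜ else B
  obtain ⟨n, Ak, cc, hAk, -, hAu⟩ := exists_partition C
    (fun b => by cases b; exacts [hbad, hbad.compl]) (fun z => by
      by_cases hz : z ∈ B
      · exact ⟨false, hz⟩
      · exact ⟨true, hz⟩)
  choose Q j hj hjr using fun k => exists_immersion_range (hAk k).2.1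
  haveI := hj
  haveI : ∀ k, QuasiSeparatedSpace (Q k) := fun k => quasiSeparatedSpace_of_quasiSeparated (j k)
  haveI : LocallyQuasiFinite p := FpqcDescent.locallyQuasiFinite_of_etale p
  have hcpt : ∀ k, IsCompact (((j k ≫ p) ⁻¹ᵁ D : (Q k).Opens) : Set (Q k)) := fun k => by
    have e : (((j k ≫ p) ⁻¹ᵁ D : (Q k).Opens) : Set (Q k)) = Set.univ := Set.eq_univ_of_forall fun z => hpD _
    rw [e, (j k).isEmbedding.isInducing.isCompact_iff, Set.image_univ, hjr]
    exact isCompact_of_constructible (hAk k).1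
  obtain ⟨T₁, c₁, hc₁, hyc₁, hc₁D, hC₁, hfin⟩ := exists_common_stratum Q (fun k => j k ≫ p) hD hcpt hyD
  haveI := hc₁
  let c := pullback.fst c₀ c₁ ≫ c₀
  have hc' : c = pullback.snd c₀ c₁ ≫ c₁ := pullback.condition
  have hr : Set.range c = Set.range c₀ ∩ Set.range c₁ := by
    ext z
    constructor
    · rintro ⟨q, rfl⟩
      refine ⟨⟨pullback.fst c₀ c₁ q, rfl⟩, pullback.snd c₀ c₁ q, ?_⟩
      rw [hc']
      rfl
    · rintro ⟨⟨a, ha⟩, ⟨b, hb⟩⟩
      obtain ⟨q, hq, -⟩ := Scheme.Pullback.exists_preimage_pullback a b (ha.trans hb.symm)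
      exact ⟨q, by rw [Scheme.Hom.comp_apply, hq, ha]⟩
  -- the good part is open over the stratum
  let a := pullback.fst p c
  let b := pullback.snd p c
  have hcl : ∀ k, IsClosed (a ⁻¹' Ak k) := fun k => by
    haveI : IsFinite (pullback.snd (j k) a ≫ b) := by
      haveI := hfin k
      have : IsFinite (pullback.snd (j k ≫ p) c) := by
        rw [hc', ← pullbackLeftPullbackSndIso_inv_snd_snd (j k ≫ p) c₁ (pullback.snd c₀ c₁)]
        infer_instance
      rw [← pullbackRightPullbackFstIso_hom_snd p c (j k)]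
      infer_instance
    haveI : IsFinite (pullback.snd (j k) a) := IsFinite.of_comp _ b
    rw [← hjr, ← Scheme.Pullback.range_snd (f := j k) (g := a)]
    exact (pullback.snd (j k) a).isClosedMap.isClosed_range
  have hgood : IsOpen (a ⁻¹' Bᶜ) := by
    have e : B = ⋃ k : {k // cc k = false}, Ak k.1 := by
      ext z
      refine ⟨fun hz => ?_, fun hz => ?_⟩
      · have hu : z ∈ ⋃ k, Ak k := hAu ▸ trivial
        obtain ⟨k, hk⟩ := Set.mem_iUnion.1 hu
        refine Set.mem_iUnion.2 ⟨⟨k, ?_⟩, hk⟩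
        cases hb : cc k
        · rfl
        · exact absurd hz (by simpa [C, hb] using (hAk k).2.2 hk)
      · obtain ⟨⟨k, hb⟩, hk⟩ := Set.mem_iUnion.1 hz
        simpa [C, hb] using (hAk k).2.2 hk
    rw [Set.preimage_compl, e, Set.preimage_iUnion]
    exact (isClosed_iUnion_of_finite fun k : {k // cc k = false} => hcl k.1).isOpen_compl
  let O : (pullback p c).Opens := ⟨_, hgood⟩
  let O' : (pullback c₀ c₁).Opens := ⟨b '' (O : Set _), b.isOpenMap _ O.2⟩
  let r : O.toScheme ⟶ O'.toScheme := IsOpenImmersion.lift O'.ι (O.ι ≫ b) (by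
    rintro _ ⟨z, rfl⟩
    rw [Scheme.Opens.range_ι]
    exact ⟨z.1, z.2, rfl⟩)
  have hrι : r ≫ O'.ι = O.ι ≫ b := IsOpenImmersion.lift_fac _ _ _
  haveI : Etale r := by
    haveI : Etale (r ≫ O'.ι) := by rw [hrι]; infer_instance
    exact Etale.of_comp r O'.ι
  haveI : Surjective r := ⟨fun z => by
    obtain ⟨w, hw, hwz⟩ := z.2
    refine ⟨⟨w, hw⟩, O'.ι.isOpenEmbedding.injective ?_⟩
    rw [← Scheme.Hom.comp_apply, hrι]
    exact hwz⟩
  let cT := O'.ι ≫ c
  have hrange : Set.range cT = Set.range c ∩ p '' Bᶜ := by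
    ext z
    constructor
    · rintro ⟨⟨t, w, hw, hwt⟩, rfl⟩
      refine ⟨⟨t, rfl⟩, a w, hw, ?_⟩
      have h1 : p (a w) = c (b w) := congr($(pullback.condition (f := p) (g := c)) w)
      exact h1.trans (congrArg c hwt)
    · rintro ⟨⟨t, rfl⟩, w, hw, hwt⟩
      obtain ⟨q, hq1, hq2⟩ := Scheme.Pullback.exists_preimage_pullback w t hwt
      exact ⟨⟨t, q, show a q ∈ _ by rw [show a q = w from hq1]; exact hw, hq2⟩, rfl⟩
  have hC : IsConstructible ((Subtype.val : ↥(D : Set Y) → Y) ⁻¹' Set.range cT) := by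
    rw [hrange, hr, Set.preimage_inter, Set.preimage_inter]
    refine (hC₀.inter hC₁).inter ?_
    let k : V ⟶ D.toScheme := IsOpenImmersion.lift D.ι p (by
      rintro _ ⟨z, rfl⟩; rw [Scheme.Opens.range_ι]; exact hpD z)
    have hk : k ≫ D.ι = p := IsOpenImmersion.lift_fac _ _ _
    haveI : LocallyOfFinitePresentation (k ≫ D.ι) := by rw [hk]; infer_instance
    haveI : LocallyOfFinitePresentation k := LimDesc.lfp_of_comp k D.ι
    have e : (Subtype.val : ↥(D : Set Y) → Y) ⁻¹' (p '' Bᶜ) = k '' Bᶜ := by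
      ext z
      constructor
      · rintro ⟨w, hw, hwz⟩
        exact ⟨w, hw, Subtype.ext ((congr($hk w)).trans hwz)⟩
      · rintro ⟨w, hw, rfl⟩
        exact ⟨w, hw, (congr($hk w)).symm⟩
    rw [e]
    exact k.isConstructible_image hbad.compl
  have hy : y ∈ Set.range cT := by
    rw [hrange, hr]; exact ⟨⟨hyc₀, hyc₁⟩, v, hvB, hpv⟩
  let gW : O.toScheme ⟶ V := O.ι ≫ a
  have hgW : r ≫ cT = gW ≫ p := by
    simp only [cT, gW, reassoc_of% hrι, Category.assoc]
    rw [show a ≫ p = b ≫ c from pullback.condition]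
  -- the square over the open good part
  let fA := pullback.fst p f
  let AW := pullback fA gW
  let g' : AW ⟶ X := pullback.fst fA gW ≫ pullback.snd p f
  have sq : IsPullback g' (pullback.snd fA gW) f (gW ≫ p) :=
    (IsPullback.of_hasPullback fA gW).paste_horiz (IsPullback.of_hasPullback p f).flip
  let φW : AW ⟶ pullback πL gW := pullback.lift (pullback.fst fA gW ≫ φ) (pullback.snd fA gW) (by
    rw [Category.assoc, hφ]; exact pullback.condition)
  have sqφ : IsPullback (pullback.fst fA gW) φW φ (pullback.fst πL gW) := by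
    refine IsPullback.of_bot ?_ (by simp [φW]) (IsPullback.of_hasPullback πL gW)
    rw [hφ, show φW ≫ pullback.snd πL gW = pullback.snd fA gW from pullback.lift_snd _ _ _]
    exact IsPullback.of_hasPullback fA gW
  haveI : IsFinite φW := MorphismProperty.of_isPullback sqφ ‹IsFinite φ›
  obtain ⟨hUI, hS⟩ := universallyInjective_of_not_bad sqφ fun z hz => by
    have h1 : a (pullback.snd πL gW z : O.toScheme).1 ∈ Bᶜ := (pullback.snd πL gW z : O.toScheme).2
    refine h1 (Or.inl ⟨_, hz, ?_⟩)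
    rw [← Scheme.Hom.comp_apply, pullback.condition]
    rfl
  haveI : IsFinite (pullback.snd fA gW) := MorphismProperty.pullback_snd _ _ inferInstance
  refine ⟨_, cT, O'.ι ≫ pullback.fst c₀ c₁, _, r, AW, _, g', φW, pullback.snd πL gW, inferInstance,
    Category.assoc _ _ _, hy, hC, inferInstance, inferInstance, inferInstance, hUI, hS, inferInstance, inferInstance,
    fun hyf => ⟨fun z => ?_⟩, ?_⟩
  · have hz : gW z ∈ Sd := by
      by_contra h
      exact (z.2 : a z.1 ∈ Bᶜ) (Or.inr h)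
    simp only [Sd, if_pos hyf] at hz
    obtain ⟨l, hl⟩ := hz
    obtain ⟨m, -, hm⟩ := Scheme.Pullback.exists_preimage_pullback (f := πL) (g := gW) l z hl
    exact ⟨m, hm⟩
  · rw [show φW ≫ pullback.snd πL gW = pullback.snd fA gW from pullback.lift_snd _ _ _, hgW]
    exact sq

theorem isConstructible_push {X Y : Scheme.{u}} (f : X ⟶ Y) [IsFinite f] [LocallyOfFinitePresentation f]
    {F : EtCoh.Ab X} (hF : EtPBC.IsConstructible F) : EtPBC.IsConstructible ((EtCoh.push f).obj F) := by
  rw [isConstructible_iff]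
  intro y
  obtain ⟨D, T₀, c₀, hD, hc₀, hyD, hyc₀, hC₀, hflc⟩ := exists_flc_stratum f hF y
  haveI := hc₀
  obtain ⟨T, cT, j, W, r, AW, LW, g', φW, πW, hcT, hj, hy, hC, hre, hrs, hφf, hUI, hS, hπf, hπe, -, sq⟩ :=
    exists_split_stratum f hD hyD c₀ hyc₀ hC₀
  haveI := hcT; haveI := hre; haveI := hrs; haveI := hφf; haveI := hUI; haveI := hS; haveI := hπf; haveI := hπe
  refine ⟨D, hD, hyD, _, cT, _, hcT, hC, ⟨hyD, hy⟩, Set.image_preimage_subset _ _, ?_⟩
  refine isFLC_of_pull_etale r ?_
  obtain ⟨e0⟩ := nonempty_pull_pull r cT (r ≫ cT) rfl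
  refine isFLC_of_iso (e0.app _).symm ?_
  have hG : EtCoh.IsFiniteLocallyConstant ((EtCoh.pull g').obj F) := by
    let l : AW ⟶ pullback f c₀ := pullback.lift g' ((φW ≫ πW) ≫ r ≫ j) (sq.w.trans (by simp only [Category.assoc, hj]))
    obtain ⟨e1⟩ := nonempty_pull_pull l (pullback.fst f c₀) g' (pullback.lift_fst _ _ _)
    exact isFLC_of_iso (e1.app F) (isFLC_pull l hflc)
  have hb := EtIntegral.isIso_baseChange0 (f := f) (g := r ≫ cT) (f' := φW ≫ πW) (g' := g') sq F
  refine isFLC_of_iso (asIso (EtCoh.baseChange0 f (r ≫ cT) (φW ≫ πW) g' sq.w F)).symm ?_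
  refine isFLC_of_iso ((EtCoh.pushComp πW φW).app _) ?_
  exact EtFLC.isFLC_push πW (isFLC_push_uh φW hG)

end Groth.Agent.EtCons
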