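import Mathlib
import Groth.Agent.EtCons.Basic
import Groth.Agent.EtPushStalk.Unit
import Groth.Agent.EtStalk.Pullback

/-! Supports of constructible sheaves. -/

universe u

open CategoryTheory CategoryTheory.Limits AlgebraicGeometry Opposite Topology TopologicalSpace

set_option backward.isDefEq.respectTransparency false
set_option backward.isDefEq.respectTransparency.types false

noncomputable section

namespace Groth.Agent.EtCons

theorem exists_point_lift {X T : Scheme.{u}} (g : T ⟶ X) [IsPreimmersion g] {Ω : Type u} [Field Ω]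
    (ξ : Spec (CommRingCat.of Ω) ⟶ X) (t : T) (ht : ξ (default : Spec (CommRingCat.of Ω)) = g t) :
    ∃ η : Spec (CommRingCat.of Ω) ⟶ T, η ≫ g = ξ ∧ η (default : Spec (CommRingCat.of Ω)) = t := by
  haveI : IsIso (g.residueFieldMap t) := by
    rw [ConcreteCategory.isIso_iff_bijective]
    refine ⟨RingHom.injective _, fun a => ?_⟩
    obtain ⟨b, rfl⟩ := T.residue_surjective t a
    obtain ⟨c, rfl⟩ := g.stalkMap_surjective t b
    exact ⟨X.residue (g t) c, ConcreteCategory.congr_hom (Scheme.residue_residueFieldMap g t) c⟩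
  let φ := Scheme.descResidueField (Scheme.stalkClosedPointTo ξ)
  have hp : g t = ξ (IsLocalRing.closedPoint Ω) :=
    ht.symm.trans (congrArg ξ (Subsingleton.elim _ _))
  let ψ : T.residueField t ⟶ CommRingCat.of Ω :=
    inv (g.residueFieldMap t) ≫ (X.residueFieldCongr hp).hom ≫ φ
  refine ⟨(Scheme.SpecToEquivOfField Ω T).symm ⟨t, ψ⟩, ?_, ?_⟩
  · show (Spec.map ψ ≫ T.fromSpecResidueField t) ≫ g = ξ
    rw [Category.assoc, ← Scheme.Hom.SpecMap_residueFieldMap_fromSpecResidueField, ← Spec.map_comp_assoc]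
    simp only [ψ, IsIso.hom_inv_id_assoc, Spec.map_comp, Category.assoc,
      Scheme.residueFieldCongr_fromSpecResidueField]
    exact Scheme.descResidueField_stalkClosedPointTo_fromSpecResidueField Ω X ξ
  · simp [Scheme.SpecToEquivOfField]

variable {X : Scheme.{u}}

theorem subsingleton_stalk_iff_of_isTriv (F : EtCoh.Ab X) {U : X.Etale} {M : Type} [AddCommGroup M]
    (σ : M →+ EtCoh.sect F U) (hσ : EtFLC.IsTriv F U σ) {Ω : Type u} [Field Ω] [IsSepClosed Ω]
    (ξ : Spec (CommRingCat.of Ω) ⟶ X) (y : (Scheme.pointSmallEtale ξ).fiber.obj U) :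
    IsZero ((EtCoh.stalk ξ).obj F) ↔ Subsingleton M := by
  constructor
  · intro hz
    haveI := AddCommGrpCat.subsingleton_of_isZero hz
    refine subsingleton_of_forall_eq 0 fun m => ?_
    have h0 : (Scheme.pointSmallEtale ξ).toPresheafFiber U y F.obj (σ m) = 0 :=
      Subsingleton.elim (α := (EtCoh.stalk ξ).obj F) _ _
    have hnot := (EtPushStalk.germ_eq_zero_iff F ξ U y (σ m)).1 h0
    obtain ⟨W, g, ⟨w, -⟩, hw⟩ : ∃ (W : X.Etale) (g : W ⟶ U), (∃ w, g.left w =
        (y : Over.mk ξ ⟶ (Scheme.Etale.forget X).obj U).left (default : Spec (CommRingCat.of Ω))) ∧ F.obj.map g.op (σ m) = 0 :=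
      by_contra fun h => hnot fun W g hw hz => h ⟨W, g, hw, hz⟩
    exact hσ.inj g m hw w
  · intro hM
    have : Subsingleton ((EtCoh.stalk ξ).obj F) := by
      refine subsingleton_of_forall_eq 0 fun p => ?_
      obtain ⟨V, v, s, rfl⟩ := (Scheme.pointSmallEtale ξ).toPresheafFiber_jointly_surjective (P := F.obj) p
      obtain ⟨W, a, b, -⟩ := IsCofilteredOrEmpty.cone_objs
        (Functor.elementsMk (Scheme.pointSmallEtale ξ).fiber V v)
        (Functor.elementsMk (Scheme.pointSmallEtale ξ).fiber U y)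
      have e : (Scheme.pointSmallEtale ξ).fiber.map a.1 W.2 = v := a.2
      rw [← e, ← GrothendieckTopology.Point.toPresheafFiber_w_apply]
      refine (EtPushStalk.germ_eq_zero_iff F ξ W.1 W.2 _).2 fun hmem => ?_
      obtain ⟨Z, h, z, m, hz, hm⟩ := hσ.surj b.1 (F.obj.map a.1.op s)
        ((W.2 : Over.mk ξ ⟶ (Scheme.Etale.forget X).obj W.1).left (default : Spec (CommRingCat.of Ω)))
      refine hmem Z h ⟨z, hz⟩ ?_
      rw [Subsingleton.elim m 0, map_zero, map_zero] at hm
      exact hm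
    exact AddCommGrpCat.isZero_of_subsingleton _

theorem exists_stalk_zero_locus (F : EtCoh.Ab X) (hF : EtCoh.IsFiniteLocallyConstant F) :
    ∃ Z : Set X, IsClopen Z ∧ ∀ (Ω : Type u) [Field Ω] [IsSepClosed Ω] (ξ : Spec (CommRingCat.of Ω) ⟶ X),
      IsZero ((EtCoh.stalk ξ).obj F) ↔ ξ (default : Spec (CommRingCat.of Ω)) ∈ Z := by
  choose U u M iM fM σ hu hσ using (EtFLC.isFLC_iff F).1 hF
  have key : ∀ (a : X) (Ω : Type u) [Field Ω] [IsSepClosed Ω] (ξ : Spec (CommRingCat.of Ω) ⟶ X),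
      ξ (default : Spec (CommRingCat.of Ω)) ∈ Set.range (U a).hom → (IsZero ((EtCoh.stalk ξ).obj F) ↔ Subsingleton (M a)) := by
    rintro a Ω _ _ ξ ⟨w, hw⟩
    obtain ⟨y, -⟩ := Scheme.pointSmallEtaleFiberObjToPreimage_surjective ξ rfl (U a) ⟨w, hw⟩
    exact subsingleton_stalk_iff_of_isTriv F (σ a) (hσ a) ξ y
  have hMM : ∀ a b : X, b ∈ Set.range (U a).hom → (Subsingleton (M a) ↔ Subsingleton (M b)) := by
    intro a b hb
    obtain ⟨Ω, _, _, ξ, -, hξ⟩ := EtStalk.covers_all (X := X) b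
    rw [← key a Ω ξ (hξ.symm ▸ hb), ← key b Ω ξ (hξ.symm ▸ ⟨u b, hu b⟩)]
  let Z : Set X := {a | Subsingleton (M a)}
  have hopen : ∀ a, IsOpen (Set.range (U a).hom) := fun a => by
    haveI : Etale (U a).hom := (U a).prop
    exact (Scheme.Hom.isOpenMap (U a).hom).isOpen_range
  refine ⟨Z, ⟨?_, ?_⟩, fun Ω _ _ ξ => key _ Ω ξ ⟨u _, hu _⟩⟩
  · rw [← isOpen_compl_iff, isOpen_iff_forall_mem_open]
    exact fun a ha => ⟨_, fun b hb hbZ => ha ((hMM a b hb).2 hbZ), hopen a, ⟨u a, hu a⟩⟩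
  · rw [isOpen_iff_forall_mem_open]
    exact fun a ha => ⟨_, fun b hb => (hMM a b hb).1 ha, hopen a, ⟨u a, hu a⟩⟩

theorem range_point_eq {Ω : Type u} [Field Ω] (ξ : Spec (CommRingCat.of Ω) ⟶ X) :
    Set.range ξ = {ξ (default : Spec (CommRingCat.of Ω))} :=
  Set.eq_singleton_iff_unique_mem.2 ⟨⟨_, rfl⟩, by rintro _ ⟨p, rfl⟩; rw [Subsingleton.elim p default]⟩

theorem stalk_zero_indep {F : EtCoh.Ab X} (hF : EtPBC.IsConstructible F) {Ω Ω' : Type u} [Field Ω] [IsSepClosed Ω]
    [Field Ω'] [IsSepClosed Ω'] (ξ : Spec (CommRingCat.of Ω) ⟶ X) (ξ' : Spec (CommRingCat.of Ω') ⟶ X)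
    (h : ξ (default : Spec (CommRingCat.of Ω)) = ξ' (default : Spec (CommRingCat.of Ω')))
    (hz : IsZero ((EtCoh.stalk ξ).obj F)) : IsZero ((EtCoh.stalk ξ').obj F) := by
  obtain ⟨U, hU, hxU, T, g, C, hg, hC, ⟨hh, hxC⟩, hCg, hflc⟩ :=
    (isConstructible_iff F).1 hF (ξ (default : Spec (CommRingCat.of Ω)))
  haveI := hg
  obtain ⟨t, ht⟩ := hCg ⟨_, hxC, rfl⟩
  obtain ⟨Z, -, hZ⟩ := exists_stalk_zero_locus _ hflc
  obtain ⟨η, hη, hηt⟩ := exists_point_lift g ξ t ht.symm
  obtain ⟨η', hη', hηt'⟩ := exists_point_lift g ξ' t (h.symm.trans ht.symm)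
  subst hη hη'
  have h1 := (hZ Ω η).1 (hz.of_iso ((EtStalk.stalkPullIso g η).app F).symm)
  exact ((hZ Ω' η').2 (by rw [hηt', ← hηt]; exact h1)).of_iso ((EtStalk.stalkPullIso g η').app F)

theorem isLocallyConstructible_supp {F : EtCoh.Ab X} (hF : EtPBC.IsConstructible F) :
    IsLocallyConstructible (EtPBC.supp F) := by
  intro x
  obtain ⟨U, hU, hxU, -⟩ := exists_affine_le (V := (⊤ : X.Opens)) (x := x) trivial
  refine ⟨U, U.isOpen.mem_nhds hxU, U.isOpen, ?_⟩
  haveI := qs_of_affine hU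
  haveI : QuasiSober (U : Set X) := (ConsTop.affine_instances hU).2.2.1
  haveI := compact_of_affine hU
  haveI : PrespectralSpace (U : Set X) := (ConsTop.affine_instances hU).2.2.2
  let E : Set (U : Set X) := Subtype.val ⁻¹' EtPBC.supp F
  show IsConstructible E
  obtain ⟨n, T, g, himm, hc, hdis, hun, hflc⟩ := hF U hU
  choose Z hZc hZ using fun i => exists_stalk_zero_locus _ (hflc i)
  have hiff : ∀ i (y : T i), g i y ∈ EtPBC.supp F ↔ y ∉ Z i := by
    intro i y
    haveI := himm i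
    constructor
    · rintro ⟨Ω, _, _, ξ, hξ, hnz⟩ hy
      have hξy : ξ (default : Spec (CommRingCat.of Ω)) = g i y := by
        have := hξ ▸ Set.mem_range_self (f := ξ) (default : Spec (CommRingCat.of Ω))
        exact this
      obtain ⟨η, rfl, hη⟩ := exists_point_lift (g i) ξ y hξy
      exact hnz (((hZ i Ω η).2 (hη.symm ▸ hy)).of_iso ((EtStalk.stalkPullIso (g i) η).app F))
    · intro hy
      obtain ⟨Ω, _, _, η, -, hη⟩ := EtStalk.covers_all (X := T i) y
      refine ⟨Ω, inferInstance, inferInstance, η ≫ g i, ?_, fun hz => hy ?_⟩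
      · rw [range_point_eq]
        show {g i (η default)} = _
        rw [hη]
      · rw [← hη]
        exact (hZ i Ω η).1 (hz.of_iso ((EtStalk.stalkPullIso (g i) η).app F).symm)
  have key : ∀ i, IsConstructible (Subtype.val ⁻¹' (g i '' (Z i)ᶜ) : Set (U : Set X)) := by
    intro i
    haveI := himm i
    let S : Set (U : Set X) := Subtype.val ⁻¹' Set.range (g i)
    have hS : IsConstructible S := hc i
    have hScc : IsCompact S := by
      refine ConsTop.isCompact_of_isCompact_cons ?_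
      exact @IsCompact.of_isClosed_subset _ (constructibleTopology (U : Set X)) _ _
        (ConsTop.isCompact_cons isOpen_univ isCompact_univ)
        (@IsClosed.mk _ (constructibleTopology (U : Set X)) _ (ConsTop.isClopen_of_isConstructible hS).2) (Set.subset_univ _)
    let B : Set (U : Set X) := Subtype.val ⁻¹' (g i '' (Z i)ᶜ)
    let B' : Set (U : Set X) := Subtype.val ⁻¹' (g i '' (Z i))
    obtain ⟨V, hVo, hV⟩ := (g i).isEmbedding.isInducing.isOpen_iff.1 (hZc i).compl.isOpen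
    obtain ⟨V', hV'o, hV'⟩ := (g i).isEmbedding.isInducing.isOpen_iff.1 (hZc i).isOpen
    have hB : B = S ∩ Subtype.val ⁻¹' V := by
      show Subtype.val ⁻¹' _ = _
      rw [← hV, Set.image_preimage_eq_range_inter, Set.preimage_inter]
    have hB' : B' = S ∩ Subtype.val ⁻¹' V' := by
      show Subtype.val ⁻¹' _ = _
      rw [← hV', Set.image_preimage_eq_range_inter, Set.preimage_inter]
    have hBc : IsCompact B := by
      have : B = S ∩ (Subtype.val ⁻¹' V')ᶜ := by
        ext z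
        rw [hB]
        constructor
        · rintro ⟨hz, hzV⟩
          refine ⟨hz, fun hzV' => ?_⟩
          obtain ⟨y, hy⟩ := hz
          have a1 : y ∈ (Z i)ᶜ := hV ▸ (show g i y ∈ V from hy ▸ hzV)
          have a2 : y ∈ Z i := hV' ▸ (show g i y ∈ V' from hy ▸ hzV')
          exact a1 a2
        · rintro ⟨hz, hzV'⟩
          obtain ⟨y, hy⟩ := hz
          refine ⟨⟨y, hy⟩, ?_⟩
          show z.1 ∈ V
          rw [← hy]
          have : y ∈ (Z i)ᶜ := fun hyZ => hzV' (show z.1 ∈ V' by rw [← hy]; exact (hV'.symm ▸ hyZ : y ∈ g i ⁻¹' V'))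
          exact (hV.symm ▸ this : y ∈ g i ⁻¹' V)
      rw [this]
      exact hScc.inter_right (hV'o.preimage continuous_subtype_val).isClosed_compl
    obtain ⟨K, hKc, hKo, hKV, hBK⟩ : ∃ K : Set (U : Set X), IsCompact K ∧ IsOpen K ∧ K ⊆ Subtype.val ⁻¹' V ∧ B ⊆ K := by
      obtain ⟨K, hKc, hKo, hBK, hKV⟩ := PrespectralSpace.exists_isCompact_and_isOpen_between hBc
        (hVo.preimage continuous_subtype_val) (hB ▸ Set.inter_subset_right)
      exact ⟨K, hKc, hKo, hKV, hBK⟩
    have : B = S ∩ K := Set.Subset.antisymm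
      (fun z hz => ⟨(hB ▸ hz : z ∈ S ∩ _).1, hBK hz⟩) (fun z hz => hB ▸ ⟨hz.1, hKV hz.2⟩)
    show IsConstructible B
    rw [this]
    exact hS.inter (hKc.isConstructible hKo)
  have hE : E = ⋃ i, Subtype.val ⁻¹' (g i '' (Z i)ᶜ) := by
    ext z
    constructor
    · intro hz
      have hz' : z.1 ∈ ⋃ i, Set.range (g i) := by rw [hun]; exact z.2
      obtain ⟨i, y, hy⟩ := Set.mem_iUnion.1 hz'
      exact Set.mem_iUnion.2 ⟨i, y, (hiff i y).1 (hy ▸ hz), hy⟩
    · intro hz
      obtain ⟨i, y, hy, e⟩ := Set.mem_iUnion.1 hz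
      show z.1 ∈ EtPBC.supp F
      rw [← e]
      exact (hiff i y).2 hy
  rw [hE]
  exact IsConstructible.iUnion key

end Groth.Agent.EtCons

namespace Groth.Agent.EtCons

theorem isConstructible_surjective_locus {X : Scheme.{u}} [CompactSpace X] [QuasiSeparatedSpace X]
    {F G : EtCoh.Ab X} (φ : F ⟶ G) (hF : EtPBC.IsConstructible F) (hG : EtPBC.IsConstructible G) :
    IsConstructible {x : X | ∀ (Ω : Type u) [Field Ω] [IsSepClosed Ω] (ξ : Spec (CommRingCat.of Ω) ⟶ X),
      Set.range ξ = {x} → Function.Surjective ((EtCoh.stalk ξ).map φ)} := by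
  have hK := (isConstructible_kernel_cokernel φ hF hG).2
  have hsupp : IsConstructible (EtPBC.supp (cokernel φ)) :=
    (isLocallyConstructible_supp hK).isConstructible
  refine (congrArg IsConstructible (Set.ext fun x => ?_)).mp hsupp.compl
  have key : ∀ (Ω : Type u) [Field Ω] [IsSepClosed Ω] (ξ : Spec (CommRingCat.of Ω) ⟶ X),
      Function.Surjective ((EtCoh.stalk ξ).map φ) ↔ IsZero ((EtCoh.stalk ξ).obj (cokernel φ)) := by
    intro Ω _ _ ξ
    let e : (EtCoh.stalk ξ).obj (cokernel φ) ≅ cokernel ((EtCoh.stalk ξ).map φ) :=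
      PreservesCokernel.iso (EtCoh.stalk ξ) φ
    rw [← AddCommGrpCat.epi_iff_surjective]
    constructor
    · intro h
      exact (isZero_cokernel_of_epi _).of_iso e
    · intro h
      exact Abelian.epi_of_cokernel_π_eq_zero _ ((h.of_iso e.symm).eq_of_tgt _ _)
  constructor
  · intro hx Ω _ _ ξ hξ
    exact (key Ω ξ).2 (by_contra fun hnz => hx ⟨Ω, inferInstance, inferInstance, ξ, hξ, hnz⟩)
  · rintro h ⟨Ω, _, _, ξ, hξ, hnz⟩
    exact hnz ((key Ω ξ).1 (h Ω ξ hξ))

end Groth.Agent.EtCons
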