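import Groth.Agent.EtCons.PullFLC
import Groth.Agent.EtCohDesc.Retract
import Groth.Agent.EtMV.Etale
import Groth.Prelude.Def_PBC
import Groth.Prelude.Def_EtShriek2
import Mathlib

/-! Comparison of the two extensions by zero of a constant sheaf. -/

universe u

open CategoryTheory CategoryTheory.Limits AlgebraicGeometry Opposite

set_option backward.isDefEq.respectTransparency false

namespace Groth.Agent.EtCons

variable {W X : Scheme.{u}}

/-- inverse image of a constant sheaf -/
noncomputable def pullConstM (g : W ⟶ X) (M : Type) [AddCommGroup M] :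
    (EtCoh.pull g).obj (EtCoh.const X M) ≅ EtCoh.const W M :=
  (Adjunction.leftAdjointUniq
    ((constantSheafAdj _ _ (EtCohDesc.topTerminal X)).comp (EtCoh.pullPushAdj g))
    ((constantSheafAdj _ _ ((EtCohDesc.topTerminal X).isTerminalObj (EtCoh.bc g))).ofNatIsoRight
      (Iso.refl _))).app _

theorem isFLC_const (M : Type) [AddCommGroup M] [Finite M] :
    EtCoh.IsFiniteLocallyConstant (EtCoh.const W M) :=
  (isFLC_iff_local _).2 fun x =>
    ⟨W, 𝟙 W, inferInstance, x, M, inferInstance, inferInstance, rfl, ⟨pullConstM (𝟙 W) M⟩⟩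

/-- sections over the top of `U` are sections over `U` -/
noncomputable def topIsoSelf (U : X.Etale) [Etale U.hom] :
    (EtShriek.compEtale U.hom).obj (EtCoh.top U.left) ≅ U :=
  MorphismProperty.Over.isoMk (Iso.refl U.left) (by
    show 𝟙 U.left ≫ U.hom = 𝟙 U.left ≫ U.hom
    rfl)

/-- the two extensions by zero of a constant sheaf agree -/
noncomputable def extZeroConstIso (U : X.Etale) [Etale U.hom] [EtShriek.JCont U.hom] (M : Type) [AddCommGroup M] :
    (EtShriek.extZero U.hom).obj (EtCoh.const U.left M) ≅ EtPBC.extZeroConst U M :=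
  (Adjunction.leftAdjointUniq
    (((constantSheafAdj U.left.smallEtaleTopology AddCommGrpCat.{u + 1} (EtCohDesc.topTerminal U.left)).comp
      (EtShriek.extZeroAdj U.hom)))
    (((constantSheafAdj (X.smallEtaleTopology.over U) AddCommGrpCat.{u + 1} Over.mkIdTerminal).comp
      (EtPBC.extZeroAdj U)).ofNatIsoRight
      (NatIso.ofComponents (fun F : EtCoh.Ab X => F.obj.mapIso (topIsoSelf U).op) (fun {F G} a =>
        (a.hom.naturality _).symm)))).app _

end Groth.Agent.EtCons
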