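import Groth.Agent.EtShriekStalk.ToPush
import Groth.Agent.EtIntegral.StalkFinite
import Groth.Agent.EtStalk.Sheaf
import Mathlib

/-! Extension by zero along a finite etale morphism is the direct image. -/

universe u

open CategoryTheory CategoryTheory.Limits AlgebraicGeometry Opposite

set_option backward.isDefEq.respectTransparency false

namespace Groth.Agent.EtCons

open Groth.Agent.EtShriekStalk

variable {U X : Scheme.{u}} (j : U ⟶ X) [Etale j] [IsFinite j] [EtShriek.JCont j]

theorem toPush_surjective (F : EtCoh.Ab U) (Ω : Type u) [Field Ω] [IsSepClosed Ω] [IsAlgClosed Ω]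
    (ξ : Spec (CommRingCat.of Ω) ⟶ X) :
    Function.Surjective ((EtCoh.stalk ξ).map ((toPush j).app F)) := by
  classical
  intro w
  have : Finite (EtIntegral.Lifts j ξ) := EtIntegral.finite_lifts j ξ
  let := Fintype.ofFinite (EtIntegral.Lifts j ξ)
  refine ⟨∑ u : EtIntegral.Lifts j ξ, incl j ξ F u (EtIntegral.stalkPushLift j ξ F u w), ?_⟩
  apply (EtIntegral.bijective_stalkPushLifts j ξ F).1
  funext k
  show toLift j ξ F k ((EtCoh.stalk ξ).map ((toPush j).app F) _) = EtIntegral.stalkPushLift j ξ F k w
  rw [map_sum, map_sum, Finset.sum_eq_single k]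
  · exact incl_toPush_lift j ξ F k _
  · exact fun u _ h => incl_toPush_ne j ξ F u k h _
  · exact fun h => absurd (Finset.mem_univ k) h

theorem isIso_toPush (F : EtCoh.Ab U) : IsIso ((toPush j).app F) := by
  have := mono_toPush j F
  have hP : EtStalk.Covers (X := X) fun Ω _ _ _ => IsAlgClosed Ω := fun s =>
    ⟨AlgebraicClosure (X.residueField s), inferInstance, inferInstance,
      (Scheme.SpecToEquivOfField (AlgebraicClosure (X.residueField s)) X).symm
        ⟨s, CommRingCat.ofHom (algebraMap (X.residueField s) _)⟩, inferInstance,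
      by simp [Scheme.SpecToEquivOfField]⟩
  have hs : Sheaf.IsLocallySurjective ((toPush j).app F) :=
    EtStalk.isLocallySurjective_of_covers _ hP fun Ω _ _ ξ hΩ => by
      haveI : IsAlgClosed Ω := hΩ
      exact toPush_surjective j F Ω ξ
  have : Epi ((toPush j).app F) := inferInstance
  exact isIso_of_mono_of_epi _

/-- extension by zero along a finite etale morphism is the direct image -/
noncomputable def shriekPushIso (F : EtCoh.Ab U) :
    (EtShriek.extZero j).obj F ≅ (EtCoh.push j).obj F :=
  haveI := isIso_toPush j F
  asIso ((toPush j).app F)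

end Groth.Agent.EtCons
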