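import Groth.Agent.SpQS.DegConstr
import Mathlib

/-! A quasi-compact quasi-separated quasi-finite morphism is finite over a constructible stratum through each point. -/

universe u

open CategoryTheory CategoryTheory.Limits AlgebraicGeometry Topology
open scoped TensorProduct

set_option backward.isDefEq.respectTransparency false

namespace Groth.Agent.EtCons

/-- restricting a finite morphism to a closed open -/
theorem isFinite_of_isClosed {P T : Scheme.{u}} (q : P ⟶ T) {V W : P.Opens} (h : W ≤ V)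
    (hW : IsClosed (V.ι ⁻¹' (W : Set P))) (hV : IsFinite (V.ι ≫ q)) : IsFinite (W.ι ≫ q) := by
  haveI : IsClosedImmersion (P.homOfLE h) := .of_isPreimmersion _ (by
    have : (P.homOfLE h).opensRange = V.ι ⁻¹ᵁ W := Scheme.opensRange_homOfLE _
    rw [← Scheme.Hom.coe_opensRange, this]; exact hW)
  rw [← Scheme.homOfLE_ι P h, Category.assoc]
  infer_instance

/-- finiteness glues along pieces whose overlaps are covered by finitely many finite pieces -/
theorem isFinite_of_cover {P T : Scheme.{u}} (q : P ⟶ T) {ι : Type u} [Finite ι] (V : ι → P.Opens)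
    (hcov : ⨆ i, V i = ⊤) (hV : ∀ i, IsFinite ((V i).ι ≫ q))
    (hij : ∀ i j, ∃ (κ : Type u) (_ : Finite κ) (W : κ → P.Opens),
      V i ⊓ V j = ⨆ k, W k ∧ ∀ k, IsFinite ((W k).ι ≫ q)) : IsFinite q := by
  classical
  have hcl : ∀ i j, IsClosed ((V i).ι ⁻¹' (V j : Set P)) := by
    intro i j
    obtain ⟨κ, hκ, W, hW, hWf⟩ := hij i j
    have hle : ∀ k, W k ≤ V i := fun k => (le_iSup W k).trans (hW ▸ inf_le_left)
    haveI := hV i
    have hm : ∀ k, IsFinite (P.homOfLE (hle k)) := fun k => by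
      haveI : IsFinite (P.homOfLE (hle k) ≫ (V i).ι ≫ q) := by rw [Scheme.homOfLE_ι_assoc]; exact hWf k
      exact IsFinite.of_comp _ ((V i).ι ≫ q)
    have e : (V i).ι ⁻¹' (V j : Set P) = ⋃ k, Set.range (P.homOfLE (hle k)) := by
      ext z
      have hh : ∀ k, Set.range (P.homOfLE (hle k)) = (V i).ι ⁻¹' (W k : Set P) := fun k =>
        congrArg SetLike.coe (Scheme.opensRange_homOfLE (hle k))
      simp only [Set.mem_iUnion, hh, Set.mem_preimage, SetLike.mem_coe]
      rw [← TopologicalSpace.Opens.mem_iSup, ← hW]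
      exact ⟨fun h => ⟨z.2, h⟩, fun h => h.2⟩
    rw [e]
    exact isClosed_iUnion_of_finite fun k =>
      haveI := hm k
      (P.homOfLE (hle k)).isClosedMap.isClosed_range
  have hclop : ∀ i, IsClosed (V i : Set P) := by
    intro i
    rw [← isOpen_compl_iff]
    have e : ((V i : Set P))ᶜ = ⋃ j, (V j).ι '' ((V j).ι ⁻¹' (V i : Set P))ᶜ := by
      ext z
      simp only [Set.mem_compl_iff, SetLike.mem_coe, Set.mem_iUnion]
      constructor
      · intro hz
        have : z ∈ ⨆ j, V j := by rw [hcov]; trivial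
        obtain ⟨j, hj⟩ := TopologicalSpace.Opens.mem_iSup.1 this
        exact ⟨j, ⟨z, hj⟩, hz, rfl⟩
      · rintro ⟨j, w, hw, rfl⟩
        exact hw
    rw [e]
    exact isOpen_iUnion fun j => (V j).ι.isOpenEmbedding.isOpenMap _ (hcl j i).isOpen_compl
  have key : ∀ s : Set ι, s.Finite → IsFinite ((⨆ i ∈ s, V i : P.Opens).ι ≫ q) ∧
      IsClosed ((⨆ i ∈ s, V i : P.Opens) : Set P) := by
    intro s hs
    induction s, hs using Set.Finite.induction_on with
    | empty =>
      have e : (⨆ i ∈ (∅ : Set ι), V i : P.Opens) = ⊥ := iSup_emptyset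
      rw [e]
      haveI : IsEmpty ↥((⊥ : P.Opens).toScheme) := ⟨fun x => x.2⟩
      exact ⟨inferInstance, isClosed_empty⟩
    | @insert a s _ _ ih =>
      let S : P.Opens := ⨆ i ∈ s, V i
      have e : (⨆ i ∈ insert a s, V i : P.Opens) = V a ⊔ S := iSup_insert
      rw [e]
      refine ⟨?_, (hclop a).union ih.2⟩
      let D : P.Opens := ⟨(V a : Set P) ∩ (S : Set P)ᶜ, (V a).isOpen.inter ih.2.isOpen_compl⟩
      have e2 : V a ⊔ S = D ⊔ S := by
        apply TopologicalSpace.Opens.ext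
        exact (Set.diff_union_self (s := (V a : Set P)) (t := (S : Set P))).symm
      rw [e2]
      refine SpQS.isFinite_sup q D S (disjoint_iff_inf_le.2 fun z hz => (hz.1.2 hz.2).elim) ?_ ih.1
      exact isFinite_of_isClosed q (V := V a) (fun z hz => hz.1)
        (((hclop a).inter S.isOpen.isClosed_compl).preimage (V a).ι.continuous) (hV a)
  have h := (key Set.univ Set.finite_univ).1
  rw [iSup_univ, hcov] at h
  exact (MorphismProperty.cancel_left_of_respectsIso @IsFinite P.topIso.hom q).1 (by rw [Scheme.topIso_hom]; exact h)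

/-- quasi-finite, quasi-compact and quasi-separated morphisms are finite over a stratum through each point -/
theorem exists_finite_stratum {X S : Scheme.{u}} [QuasiSeparatedSpace X] (f : X ⟶ S) [LocallyQuasiFinite f]
    [LocallyOfFiniteType f] {U : S.Opens} (hU : IsAffineOpen U) (hc : IsCompact ((f ⁻¹ᵁ U : X.Opens) : Set X))
    {x : S} (hx : x ∈ U) :
    ∃ (T : Scheme.{u}) (c : T ⟶ S), IsImmersion c ∧ IsAffine T ∧ IsFinite (pullback.snd f c) ∧
      x ∈ Set.range c ∧ Set.range c ⊆ U ∧ IsConstructible ((Subtype.val : ↥(U : Set S) → S) ⁻¹' Set.range c) := by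
  classical
  let Aff := {V : X.affineOpens // V.1 ≤ f ⁻¹ᵁ U}
  have hcov : ∀ O : X.Opens, IsCompact (O : Set X) → O ≤ f ⁻¹ᵁ U → ∃ t : Finset Aff, O = ⨆ V : t, V.1.1.1 := by
    intro O hO hOU
    obtain ⟨t, ht⟩ := hO.elim_finite_subcover
      (fun V : {V : Aff // V.1.1 ≤ O} => (V.1.1.1 : Set X)) (fun V => V.1.1.1.isOpen)
      (fun z hz => by
        obtain ⟨V, hV, hzV, hVO⟩ := exists_isAffineOpen_mem_and_subset (x := z) (U := O) hz
        exact Set.mem_iUnion.mpr ⟨⟨⟨⟨V, hV⟩, fun w hw => hOU (hVO hw)⟩, fun w hw => hVO hw⟩, hzV⟩)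
    refine ⟨t.image Subtype.val, le_antisymm (fun z hz => ?_) (iSup_le fun V => ?_)⟩
    · obtain ⟨V, hV, hzV⟩ := Set.mem_iUnion₂.mp (ht hz)
      exact TopologicalSpace.Opens.mem_iSup.2 ⟨⟨V.1, Finset.mem_image_of_mem _ hV⟩, hzV⟩
    · obtain ⟨V', -, e⟩ := Finset.mem_image.1 V.2
      rw [← e]; exact V'.2
  obtain ⟨t₀, ht₀⟩ := hcov (f ⁻¹ᵁ U) hc le_rfl
  have hint : ∀ V W : Aff, ∃ t : Finset Aff, V.1.1 ⊓ W.1.1 = ⨆ Z : t, Z.1.1.1 := fun V W =>
    hcov _ (QuasiSeparatedSpace.inter_isCompact _ _ V.1.1.isOpen V.1.2.isCompact W.1.1.isOpen W.1.2.isCompact)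
      (inf_le_left.trans V.2)
  choose t₁ ht₁ using hint
  let t : Finset Aff := t₀ ∪ t₀.biUnion fun V => t₀.biUnion fun W => t₁ V W
  let p : PrimeSpectrum Γ(S, U) := hU.primeIdealOf ⟨x, hx⟩
  letI : ∀ V : Aff, Algebra Γ(S, U) Γ(X, V.1.1) := fun V => (f.appLE U V.1.1 V.2).hom.toAlgebra
  have hstr : ∀ V : Aff, ∃ (a : Γ(S, U)) (I : Ideal Γ(S, U)), a ∉ p.asIdeal ∧
      I.FG ∧ I ≤ p.asIdeal ∧ ∀ (R : Type u) [CommRing R] [Algebra Γ(S, U) R],
      IsUnit (algebraMap Γ(S, U) R a) → (∀ b ∈ I, algebraMap Γ(S, U) R b = 0) →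
        Module.Finite R (R ⊗[Γ(S, U)] Γ(X, V.1.1)) := fun V => by
    haveI : Algebra.QuasiFinite Γ(S, U) Γ(X, V.1.1) := LocallyQuasiFinite.quasiFinite_appLE hU V.1.2 V.2
    haveI : Algebra.FiniteType Γ(S, U) Γ(X, V.1.1) := f.finiteType_appLE hU V.1.2 V.2
    exact SpQS.exists_finite_stratum p.asIdeal
  choose a I ha hI hIp hfin using hstr
  let b : Γ(S, U) := ∏ V ∈ t, a V
  let J : Ideal Γ(S, U) := t.sup I
  let R : Type u := Localization.Away (Ideal.Quotient.mk J b)
  let ρ : Γ(S, U) →+* R := algebraMap Γ(S, U) R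
  have hρ : ρ = (algebraMap (Γ(S, U) ⧸ J) R).comp (Ideal.Quotient.mk J) :=
    IsScalarTower.algebraMap_eq Γ(S, U) (Γ(S, U) ⧸ J) R
  have hfinR : ∀ V ∈ t, Module.Finite R (R ⊗[Γ(S, U)] Γ(X, V.1.1)) := fun V hV =>
    hfin V R (isUnit_of_dvd_unit (map_dvd _ (Finset.dvd_prod_of_mem a hV))
        (by rw [IsScalarTower.algebraMap_apply Γ(S, U) (Γ(S, U) ⧸ J) R]
            exact IsLocalization.Away.algebraMap_isUnit _))
      fun c hc => by
        rw [IsScalarTower.algebraMap_apply Γ(S, U) (Γ(S, U) ⧸ J) R, Ideal.Quotient.algebraMap_eq,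
          Ideal.Quotient.eq_zero_iff_mem.mpr ((Finset.le_sup (f := I) hV) hc), map_zero]
  let T := Spec (CommRingCat.of R)
  let g : T ⟶ Spec Γ(S, U) := Spec.map (CommRingCat.ofHom ρ)
  let c : T ⟶ S := g ≫ hU.fromSpec
  have himm : IsImmersion g := by
    have e : g = Spec.map (CommRingCat.ofHom (algebraMap (Γ(S, U) ⧸ J) R)) ≫
        Spec.map (CommRingCat.ofHom (Ideal.Quotient.mk J)) := by
      rw [← Spec.map_comp, ← CommRingCat.ofHom_comp, ← hρ]
    haveI : IsOpenImmersion (Spec.map (CommRingCat.ofHom (algebraMap (Γ(S, U) ⧸ J) R))) :=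
      IsOpenImmersion.of_isLocalization (Ideal.Quotient.mk J b)
    haveI : IsClosedImmersion (Spec.map (CommRingCat.ofHom (Ideal.Quotient.mk J))) :=
      IsClosedImmersion.spec_of_surjective (CommRingCat.ofHom (Ideal.Quotient.mk J)) Ideal.Quotient.mk_surjective
    rw [e]
    infer_instance
  let q := pullback.snd f c
  let P := pullback f c
  let O : Aff → P.Opens := fun V => pullback.fst f c ⁻¹ᵁ V.1.1
  have hO : ∀ V ∈ t, IsFinite ((O V).ι ≫ q) := by
    intro V hV
    have sq1 : IsPullback (pullback.fst f c ∣_ V.1.1) (O V).ι V.1.1.ι (pullback.fst f c) :=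
      (isPullback_morphismRestrict (pullback.fst f c) V.1.1)
    have sq2 : IsPullback (pullback.fst f c ∣_ V.1.1) ((O V).ι ≫ q) (V.1.1.ι ≫ f) c :=
      sq1.paste_vert (IsPullback.of_hasPullback f c)
    have e : V.1.1.ι ≫ f = (V.1.2.isoSpec.hom ≫ Spec.map (f.appLE U V.1.1 V.2)) ≫ hU.fromSpec := by
      rw [Category.assoc, IsAffineOpen.SpecMap_appLE_fromSpec f hU V.1.2 V.2]
      exact (V.1.2.isoSpec_hom_fromSpec_assoc f).symm
    have sq3 : IsPullback (pullback.fst f c ∣_ V.1.1) ((O V).ι ≫ q)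
        (V.1.2.isoSpec.hom ≫ Spec.map (f.appLE U V.1.1 V.2)) g := by
      refine .mk' ?_ (fun _ _ _ e₁ e₂ => sq2.hom_ext e₁ e₂) fun _ a b h => ?_
      · rw [← cancel_mono hU.fromSpec, Category.assoc, ← e]
        exact sq2.w.trans (Category.assoc _ _ _).symm
      · have h' : a ≫ V.1.1.ι ≫ f = b ≫ c := by rw [e]; simpa [c] using h =≫ hU.fromSpec
        exact ⟨sq2.lift a b h', sq2.lift_fst _ _ h', sq2.lift_snd _ _ h'⟩
    have sq4 : IsPullback ((pullback.fst f c ∣_ V.1.1) ≫ V.1.2.isoSpec.hom) ((O V).ι ≫ q)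
        (Spec.map (f.appLE U V.1.1 V.2)) g :=
      sq3.of_iso (Iso.refl _) V.1.2.isoSpec (Iso.refl _) (Iso.refl _) (by simp) (by simp) (by simp) (by simp)
    rw [← sq4.isoPullback_hom_snd, MorphismProperty.cancel_left_of_respectsIso @IsFinite]
    exact SpQS.isFinite_pullback_snd Γ(S, U) R Γ(X, V.1.1) (hfinR V hV)
  refine ⟨T, c, inferInstance, inferInstance, ?_, ?_, ?_, ?_⟩
  · refine isFinite_of_cover q (fun V : t₀ => O V.1) ?_ (fun V => hO V.1 (Finset.mem_union_left _ V.2))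
      fun V W => ⟨_, inferInstance, fun Z : t₁ V.1 W.1 => O Z.1, ?_, fun Z => hO Z.1 (Finset.mem_union_right _
        (Finset.mem_biUnion.2 ⟨V.1, V.2, Finset.mem_biUnion.2 ⟨W.1, W.2, Z.2⟩⟩))⟩
    · rw [← Scheme.Hom.preimage_iSup, ← ht₀, eq_top_iff]
      intro z _
      show f (pullback.fst f c z) ∈ (U : Set S)
      rw [← Scheme.Hom.comp_apply, pullback.condition, Scheme.Hom.comp_apply, ← hU.range_fromSpec]
      exact Set.mem_range_self _
    · rw [← Scheme.Hom.preimage_iSup, ← ht₁]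
      rfl
  · have hpJ : J ≤ p.asIdeal := Finset.sup_le fun V _ => hIp V
    have hb : b ∉ p.asIdeal := fun h => by
      obtain ⟨V, _, hV⟩ := Ideal.IsPrime.prod_mem_iff.mp h
      exact ha V hV
    let p' : PrimeSpectrum (Γ(S, U) ⧸ J) := ⟨p.asIdeal.map (Ideal.Quotient.mk J),
      Ideal.map_isPrime_of_surjective Ideal.Quotient.mk_surjective (by rwa [Ideal.mk_ker])⟩
    have hp' : p'.asIdeal.comap (Ideal.Quotient.mk J) = p.asIdeal := by
      rw [Ideal.comap_map_of_surjective' _ Ideal.Quotient.mk_surjective, Ideal.mk_ker, sup_eq_left]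
      exact hpJ
    have : p' ∈ Set.range (PrimeSpectrum.comap (algebraMap (Γ(S, U) ⧸ J) R)) := by
      rw [PrimeSpectrum.localization_away_comap_range R (Ideal.Quotient.mk J b)]
      intro h
      apply hb
      rw [← hp']
      exact h
    obtain ⟨r, hr⟩ := this
    refine ⟨r, ?_⟩
    show hU.fromSpec (PrimeSpectrum.comap ρ r) = x
    rw [hρ, PrimeSpectrum.comap_comp_apply, hr, show PrimeSpectrum.comap (Ideal.Quotient.mk J) p' = p from
      PrimeSpectrum.ext hp']
    exact hU.fromSpec_primeIdealOf ⟨x, hx⟩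
  · rw [← hU.range_fromSpec]
    rintro _ ⟨r, rfl⟩
    exact ⟨g r, rfl⟩
  · have hJfg : J.FG := Submodule.fg_finset_sup _ _ fun V _ => hI V
    have hg : IsConstructible (Set.range (PrimeSpectrum.comap ρ)) := by
      refine PrimeSpectrum.isConstructible_range_comap ?_
      rw [hρ]
      exact RingHom.FinitePresentation.comp
        (RingHom.finitePresentation_algebraMap.mpr (IsLocalization.Away.finitePresentation (Ideal.Quotient.mk J b)))
        (RingHom.FinitePresentation.of_surjective (Ideal.Quotient.mk J) Ideal.Quotient.mk_surjective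
          (by rw [Ideal.mk_ker]; exact hJfg))
    let e : ↥(U : Set S) ≃ₜ PrimeSpectrum Γ(S, U) := hU.isoSpec.hom.homeomorph
    have he : (Subtype.val : ↥(U : Set S) → S) ⁻¹' Set.range c = e ⁻¹' Set.range (PrimeSpectrum.comap ρ) := by
      ext y
      have hy : hU.fromSpec (e y) = y.1 := by
        show hU.fromSpec (hU.isoSpec.hom y) = y.1
        rw [← Scheme.Hom.comp_apply, IsAffineOpen.fromSpec, Iso.hom_inv_id_assoc]
        rfl
      simp only [Set.mem_preimage]
      constructor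
      · rintro ⟨r, hr⟩
        exact ⟨r, hU.fromSpec.isOpenEmbedding.injective (hr.trans hy.symm)⟩
      · rintro ⟨r, hr⟩
        refine ⟨r, ?_⟩
        show hU.fromSpec (PrimeSpectrum.comap ρ r) = y.1
        rw [hr, hy]
    rw [he]
    exact hg.preimage_of_isOpenEmbedding e.isOpenEmbedding

end Groth.Agent.EtCons
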