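import Groth.Agent.EtCons.NoethCons
import Groth.Agent.EtCons.ExtZeroConst
import Groth.Agent.EtFLC.Triv
import Groth.Agent.S0133
import Mathlib

/-! Constructible sheaves generate torsion sheaves. -/

universe u

open CategoryTheory CategoryTheory.Limits AlgebraicGeometry Opposite

set_option backward.isDefEq.respectTransparency false

noncomputable section

namespace Groth.Agent.EtCons

variable {X : Scheme.{u}}

theorem isConstructible_of_isFLC {F : EtCoh.Ab X} (h : EtCoh.IsFiniteLocallyConstant F) :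
    EtPBC.IsConstructible F := by
  rw [isConstructible_iff]
  intro x
  obtain ⟨D, hD, hxD, -⟩ := exists_affine_le (V := (⊤ : X.Opens)) (x := x) trivial
  exact ⟨D, hD, hxD, D.toScheme, D.ι, Set.univ, inferInstance, .univ, ⟨hxD, trivial⟩,
    by rw [Scheme.Opens.range_ι]; exact fun z ⟨w, _, hw⟩ => hw ▸ w.2, isFLC_pull _ h⟩

theorem exists_isConstructible : ∃ F : EtCoh.Ab X, EtPBC.IsConstructible F :=
  ⟨_, isConstructible_of_isFLC (isFLC_const (W := X) (ZMod 1))⟩

/-- sections over `U` as maps out of extensions by zero -/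
def extHomAdj (U : X.Etale) :
    constantSheaf (X.smallEtaleTopology.over U) AddCommGrpCat.{u + 1} ⋙ EtPBC.extZero U ⊣
      X.smallEtaleTopology.overPullback AddCommGrpCat.{u + 1} U ⋙
        (sheafSections (X.smallEtaleTopology.over U) AddCommGrpCat.{u + 1}).obj (op (Over.mk (𝟙 U))) :=
  (constantSheafAdj (X.smallEtaleTopology.over U) AddCommGrpCat.{u + 1} Over.mkIdTerminal).comp
    (EtPBC.extZeroAdj U)

/-- the map classified by a section killed by `n` -/
theorem exists_extHom {F : EtCoh.Ab X} (U : X.Etale) (n : ℕ) (t : EtCoh.sect F U) (ht : n • t = 0) :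
    ∃ (φ : EtPBC.extZeroConst U (ZMod n) ⟶ F) (z : EtCoh.sect (EtPBC.extZeroConst U (ZMod n)) U),
      φ.hom.app (op U) z = t := by
  let f : ZMod n →+ EtCoh.sect F U := ZMod.lift n ⟨zmultiplesHom _ t, by simpa using ht⟩
  let m : AddCommGrpCat.of (ULift.{u + 1} (ZMod n)) ⟶ F.obj.obj (op U) :=
    AddCommGrpCat.ofHom (f.comp AddEquiv.ulift.toAddMonoidHom)
  let φ : EtPBC.extZeroConst U (ZMod n) ⟶ F := ((extHomAdj U).homEquiv _ F).symm m
  let η : AddCommGrpCat.of (ULift.{u + 1} (ZMod n)) ⟶ (EtPBC.extZeroConst U (ZMod n)).obj.obj (op U) :=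
    (extHomAdj U).unit.app _
  refine ⟨φ, η ⟨((1 : ℤ) : ZMod n)⟩, ?_⟩
  have h : ((extHomAdj U).homEquiv _ F) φ = m := Equiv.apply_symm_apply _ _
  rw [Adjunction.homEquiv_unit] at h
  have h1 := ConcreteCategory.congr_hom h (ULift.up.{u + 1} ((1 : ℤ) : ZMod n))
  refine h1.trans ?_
  show f ((1 : ℤ) : ZMod n) = t
  exact (ZMod.lift_coe n _ 1).trans (one_zsmul t)

theorem isConstructible_extConst (U : X.Etale) [IsAffine U.left] [CompactSpace X] [QuasiSeparatedSpace X]
    (n : ℕ) (hn : 0 < n) : EtPBC.IsConstructible (EtPBC.extZeroConst U (ZMod n)) := by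
  haveI : NeZero n := ⟨hn.ne'⟩
  exact S0133.result X U (ZMod n)

/-- a torsion section is killed near each point on an affine neighbourhood -/
theorem exists_affine_killed_nhd {F : EtCoh.Ab X} (hF : EtCoh.IsTorsion F) (V : X.Etale) (s : EtCoh.sect F V)
    (v : V.left) : ∃ (W : X.Etale) (g : W ⟶ V) (w : W.left) (n : ℕ), IsAffine W.left ∧ g.left w = v ∧ 0 < n ∧
      n • F.obj.map g.op s = 0 := by
  obtain ⟨V₁, g₁, ⟨v₁, hv₁⟩, hfin⟩ := hF V s v
  obtain ⟨n, hn, hns⟩ := isOfFinAddOrder_iff_nsmul_eq_zero.1 hfin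
  obtain ⟨O, hO, hvO, -⟩ := exists_affine_le (V := (⊤ : V₁.left.Opens)) (x := v₁) trivial
  haveI := V₁.prop
  let W : X.Etale := Scheme.Etale.mk (O.ι ≫ V₁.hom)
  let k : W ⟶ V₁ := MorphismProperty.Over.homMk O.ι rfl
  refine ⟨W, k ≫ g₁, (⟨v₁, hvO⟩ : O), n, hO, ?_, hn, ?_⟩
  · exact hv₁
  · rw [op_comp, Functor.map_comp, ConcreteCategory.comp_apply, ← map_nsmul, hns, map_zero]

/-- the subsheaves which are constructible -/
theorem exists_sup_constructible [IsLocallyNoetherian X] [CompactSpace X] [QuasiSeparatedSpace X] {F : EtCoh.Ab X} (S : Subobject F)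
    (hS : EtPBC.IsConstructible (S : EtCoh.Ab X)) {G : EtCoh.Ab X} (φ : G ⟶ F) (hG : EtPBC.IsConstructible G) :
    ∃ S' : Subobject F, EtPBC.IsConstructible (S' : EtCoh.Ab X) ∧ S ≤ S' ∧ S'.Factors φ := by
  let d : (S : EtCoh.Ab X) ⊞ G ⟶ F := biprod.desc S.arrow φ
  refine ⟨imageSubobject d, ?_, ?_, ?_⟩
  · refine isConstructible_quotient (factorThruImageSubobject d) ?_
    exact isConstructible_middle (ShortComplex.mk (biprod.inl : (S : EtCoh.Ab X) ⟶ _) (biprod.snd : _ ⟶ G) biprod.inl_snd)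
      (ShortComplex.Splitting.ofHasBinaryBiproduct (S : EtCoh.Ab X) G).shortExact hS hG
  · exact Subobject.le_of_comm (biprod.inl ≫ factorThruImageSubobject d) (by simp [d])
  · exact (Subobject.factors_iff _ _).2 ⟨biprod.inr ≫ factorThruImageSubobject d, by
      show (biprod.inr ≫ factorThruImageSubobject d) ≫ (imageSubobject d).arrow = φ
      simp [d]⟩

theorem isConstructible_of_isNoetherianObject [IsNoetherian X] {F : EtCoh.Ab X} (hF : EtCoh.IsTorsion F)
    [IsNoetherianObject F] : EtPBC.IsConstructible F := by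
  let 𝒮 : Set (Subobject F) := {S | EtPBC.IsConstructible (S : EtCoh.Ab X)}
  have hne : 𝒮.Nonempty := by
    obtain ⟨G, hG⟩ := exists_isConstructible (X := X)
    exact ⟨imageSubobject (0 : G ⟶ F), isConstructible_quotient (factorThruImageSubobject (0 : G ⟶ F)) hG⟩
  obtain ⟨S, hS, hmax⟩ := WellFounded.has_min (wellFounded_gt (α := Subobject F)) 𝒮 hne
  suffices h : Epi S.arrow by
    haveI : IsIso S.arrow := isIso_of_mono_of_epi _
    exact isConstructible_of_iso (asIso S.arrow) hS
  haveI : Sheaf.IsLocallySurjective S.arrow := by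
    refine ⟨fun {V} s => (EtFLC.mem_iff _).2 fun v => ?_⟩
    obtain ⟨W, g, w, n, hW, hw, hn, hns⟩ := exists_affine_killed_nhd hF V s v
    haveI := hW
    obtain ⟨φ, z, hz⟩ := exists_extHom W n _ hns
    obtain ⟨S', hS', hle, hfac⟩ := exists_sup_constructible S hS φ (isConstructible_extConst W n hn)
    obtain rfl : S = S' := hle.eq_or_lt.resolve_right (hmax S' hS')
    refine ⟨W, g, w, ⟨(S.factorThru φ hfac).hom.app (op W) z, ?_⟩, hw⟩
    refine Eq.trans ?_ hz
    rw [← ConcreteCategory.comp_apply]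
    exact ConcreteCategory.congr_hom (congr_app (congrArg (fun k => k.hom) (Subobject.factorThru_arrow S φ hfac)) (op W)) z
  infer_instance

end Groth.Agent.EtCons
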