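import Groth.Agent.EtCons.RestrStalk
import Groth.Agent.EtCons.ExtZeroConst
import Groth.Agent.EtCons.Generate
import Groth.Agent.ConsEngine.ClosureFibre
import Mathlib

/-! Finite local constancy near a point by specialisations. -/

universe u

open CategoryTheory CategoryTheory.Limits AlgebraicGeometry Opposite Topology

set_option backward.isDefEq.respectTransparency false
set_option backward.isDefEq.respectTransparency.types false

noncomputable section

namespace Groth.Agent.EtCons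

/-- Restriction of sections. -/
local notation "rs" => Groth.Agent.EtFLC.res

variable {X : Scheme.{u}} (F : EtCoh.Ab X)

/-- a section family with bijective germs everywhere trivialises -/
theorem isTriv_of_bijective_germs {U : X.Etale} {M : Type} [AddCommGroup M] (σ : M →+ EtCoh.sect F U)
    (h : ∀ (Ω : Type u) [Field Ω] [IsSepClosed Ω] (ξ : Spec (CommRingCat.of Ω) ⟶ X)
      (y : (Scheme.pointSmallEtale ξ).fiber.obj U),
      Function.Bijective (fun m => (Scheme.pointSmallEtale ξ).toPresheafFiber U y F.obj (σ m))) :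
    EtFLC.IsTriv F U σ := by
  constructor
  · intro V k s v
    obtain ⟨Ω, _, _, ζ, -, hζ⟩ := EtStalk.covers_all (X := X) (V.hom v)
    obtain ⟨x, hx⟩ := Scheme.pointSmallEtaleFiberObjToPreimage_surjective ζ hζ V ⟨v, rfl⟩
    let x₁ : Over.mk ζ ⟶ (Scheme.Etale.forget X).obj V := x
    have hxv : x₁.left (default : Spec (CommRingCat.of Ω)) = v := congrArg Subtype.val hx
    obtain ⟨m, hm⟩ := (h Ω ζ ((Scheme.pointSmallEtale ζ).fiber.map k x)).2
      ((Scheme.pointSmallEtale ζ).toPresheafFiber V x F.obj s)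
    have hm' : (Scheme.pointSmallEtale ζ).toPresheafFiber V x F.obj (s - rs F k (σ m)) = 0 := by
      rw [map_sub, GrothendieckTopology.Point.toPresheafFiber_w_apply, sub_eq_zero]
      exact hm.symm
    have hv := (germ_zero_iff_notMem F ζ x _).1 hm'
    rw [hxv] at hv
    obtain ⟨W', h, ⟨w, hw⟩, hz⟩ := (EtSect.mem_iff F _ v).1 hv
    refine ⟨W', h, w, m, hw, ?_⟩
    rw [← EtFLC.res_res, ← sub_eq_zero, ← map_sub]
    exact hz
  · intro V k m hm v
    obtain ⟨Ω, _, _, ζ, -, hζ⟩ := EtStalk.covers_all (X := X) (V.hom v)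
    obtain ⟨x, -⟩ := Scheme.pointSmallEtaleFiberObjToPreimage_surjective ζ hζ V ⟨v, rfl⟩
    refine (h Ω ζ ((Scheme.pointSmallEtale ζ).fiber.map k x)).1 ?_
    show (Scheme.pointSmallEtale ζ).toPresheafFiber U _ F.obj (σ m) =
      (Scheme.pointSmallEtale ζ).toPresheafFiber U _ F.obj (σ 0)
    rw [← GrothendieckTopology.Point.toPresheafFiber_w_apply, ← GrothendieckTopology.Point.toPresheafFiber_w_apply]
    refine congrArg _ (hm.trans ?_)
    rw [map_zero]
    exact (map_zero _).symm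

theorem finite_stalk_of_isConstructible (hF : EtPBC.IsConstructible F) {Ω : Type u} [Field Ω] [IsSepClosed Ω]
    (ξ : Spec (CommRingCat.of Ω) ⟶ X) : Finite ((EtCoh.stalk ξ).obj F) := by
  obtain ⟨U, hU, hxU, T, g, C, hg, hC, ⟨hh, hxC⟩, hCg, hflc⟩ :=
    (isConstructible_iff F).1 hF (ξ (default : Spec (CommRingCat.of Ω)))
  haveI := hg
  obtain ⟨t, ht⟩ := hCg ⟨_, hxC, rfl⟩
  obtain ⟨η, hη, hηt⟩ := exists_point_lift g ξ t ht.symm
  subst hη
  obtain ⟨V, v, M, iM, fM, σ, hv, hσ⟩ := (EtFLC.isFLC_iff _).1 hflc t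
  obtain ⟨y, -⟩ := Scheme.pointSmallEtaleFiberObjToPreimage_surjective η hηt V ⟨v, hv⟩
  haveI : Finite ((EtCoh.stalk η).obj ((EtCoh.pull g).obj F)) :=
    Finite.of_equiv M (Equiv.ofBijective _ (bijective_germ_of_isTriv σ hσ η y))
  exact @Finite.of_equiv _ _ this ((EtStalk.stalkPullIso g η).app F).addCommGroupIsoToAddEquiv.toEquiv.symm

section

variable {W : Scheme.{u}} (M : Type) [AddCommGroup M] {Ω : Type u} [Field Ω] [IsSepClosed Ω]
  (η : Spec (CommRingCat.of Ω) ⟶ W)

/-- the lift to the top -/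
def ptTop : (Scheme.pointSmallEtale η).fiber.obj (EtCoh.top W) :=
  (Over.homMk η (Category.comp_id η) : Over.mk η ⟶ (Scheme.Etale.forget W).obj (EtCoh.top W))

theorem isTriv_cst : EtFLC.IsTriv (EtCoh.const W M) (EtCoh.top W) (EtMV.cstHom (EtCoh.top W)) where
  surj {V} g s v := by
    obtain ⟨Z, h, z, m, hz, hm⟩ := EtMV.exists_cst s v
    exact ⟨Z, h, z, m, hz, hm.trans (EtMV.res_cst (h ≫ g) m).symm⟩
  inj {V} g m hm v := by
    rw [EtMV.cstHom_apply, EtMV.res_cst] at hm
    exact EtMV.cst_inj v (hm.trans (map_zero (EtMV.cstHom (M := M) V)).symm)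

/-- germs of constant sections -/
def constGerm : M →+ (EtCoh.stalk η).obj (EtCoh.const W M) :=
  ((Scheme.pointSmallEtale η).toPresheafFiber (EtCoh.top W) (ptTop η) (EtCoh.const W M).obj).hom.comp
    (EtMV.cstHom (EtCoh.top W))

theorem constGerm_bijective : Function.Bijective (constGerm M η) :=
  bijective_germ_of_isTriv _ (isTriv_cst M) η (ptTop η)

end

section

variable (U : X.Etale) [Etale U.hom] [EtShriek.JCont U.hom]

/-- structure map as a morphism in the site -/
def toSelf (T : U.left.Etale) : (EtShriek.compEtale U.hom).obj T ⟶ U := MorphismProperty.Over.homMk T.hom rfl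

variable {M : Type} [AddCommGroup M] (σ : M →+ EtCoh.sect F U)

/-- the map from the constant presheaf -/
def psiPre : EtMV.cPre0 U.left M ⟶ ((EtShriek.restrAlong U.hom).obj F).obj where
  app T := AddCommGrpCat.ofHom (((rs F (toSelf U T.unop)).comp σ).comp AddEquiv.ulift.toAddMonoidHom)
  naturality T T' k := by
    ext m
    show rs F (toSelf U T'.unop) (σ m.down) =
      rs F ((EtShriek.compEtale U.hom).map k.unop) (rs F (toSelf U T.unop) (σ m.down))
    rw [EtFLC.res_res]
    congr 2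
    apply MorphismProperty.Over.Hom.ext
    exact (MorphismProperty.Over.w k.unop).symm

/-- the map from the constant sheaf -/
def psi : EtCoh.const U.left M ⟶ (EtShriek.restrAlong U.hom).obj F :=
  ⟨sheafifyLift U.left.smallEtaleTopology (psiPre F U σ) ((EtShriek.restrAlong U.hom).obj F).property⟩

theorem psi_cst (T : U.left.Etale) (m : M) :
    (psi F U σ).hom.app (op T) (EtMV.cst T m) = rs F (toSelf U T) (σ m) :=
  ConcreteCategory.congr_hom (congr_app (toSheafify_sheafifyLift U.left.smallEtaleTopology (psiPre F U σ)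
    ((EtShriek.restrAlong U.hom).obj F).property) (op T)) ⟨m⟩

variable {Ω : Type u} [Field Ω] [IsSepClosed Ω] (η : Spec (CommRingCat.of Ω) ⟶ U.left)

/-- the tautological lift to `U` -/
def ptU : (Scheme.pointSmallEtale (η ≫ U.hom)).fiber.obj U :=
  (Over.homMk η rfl : Over.mk (η ≫ U.hom) ⟶ (Scheme.Etale.forget X).obj U)

theorem map_ptTop : (Scheme.pointSmallEtale (η ≫ U.hom)).fiber.map (toSelf U (EtCoh.top U.left))
    (compPt U.hom η (ptTop η)) = ptU U η :=
  Over.OverMorphism.ext (Category.comp_id η)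

theorem psi_germ (m : M) :
    restrStalk U.hom η F ((EtCoh.stalk η).map (psi F U σ) (constGerm M η m)) =
      (Scheme.pointSmallEtale (η ≫ U.hom)).toPresheafFiber U (ptU U η) F.obj (σ m) := by
  refine (congrArg (restrStalk U.hom η F) ((GrothendieckTopology.Point.toPresheafFiber_naturality_apply
    (Scheme.pointSmallEtale η) (psi F U σ).hom (EtCoh.top U.left) (ptTop η) (EtMV.cst _ m)).trans
    (congrArg _ (psi_cst F U σ _ m)))).trans ?_
  refine (restrStalk_germ U.hom η F _ (ptTop η) _).trans ?_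
  rw [← map_ptTop]
  exact GrothendieckTopology.Point.toPresheafFiber_w_apply _ _ _ _ _

theorem isIso_stalk_psi_iff : IsIso ((EtCoh.stalk η).map (psi F U σ)) ↔
    Function.Bijective (fun m => (Scheme.pointSmallEtale (η ≫ U.hom)).toPresheafFiber U (ptU U η) F.obj (σ m)) := by
  rw [ConcreteCategory.isIso_iff_bijective]
  have e : (fun m => (Scheme.pointSmallEtale (η ≫ U.hom)).toPresheafFiber U (ptU U η) F.obj (σ m)) =
      restrStalk U.hom η F ∘ (EtCoh.stalk η).map (psi F U σ) ∘ constGerm M η :=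
    funext fun m => (psi_germ F U σ η m).symm
  rw [e, (bijective_restrStalk U.hom η F).of_comp_iff', Function.Bijective.of_comp_iff _ (constGerm_bijective M η)]

theorem ptU_spec {Ω' : Type u} [Field Ω'] [IsSepClosed Ω'] (η' : Spec (CommRingCat.of Ω') ⟶ U.left)
    (φ : Scheme.pointSmallEtale η' ⟶ Scheme.pointSmallEtale η) :
    (pushSpec U.hom η η' φ).hom.app U (ptU U η) = ptU U η' := by
  rw [← map_ptTop U η, ← map_ptTop U η']
  erw [NatTrans.naturality_apply (pushSpec U.hom η η' φ).hom (toSelf U (EtCoh.top U.left))]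
  rw [pushSpec_compPt]
  congr 2
  refine Over.OverMorphism.ext ?_
  exact (Category.comp_id _).symm.trans (Over.w (φ.hom.app (EtCoh.top U.left) (ptTop η) :
    Over.mk η' ⟶ (Scheme.Etale.forget U.left).obj (EtCoh.top U.left)))

end

/-- a point with zero stalk of kernel and cokernel -/
theorem isIso_stalk_iff {W : Scheme.{u}} {A B : EtCoh.Ab W} (ψ : A ⟶ B) {Ω : Type u} [Field Ω] [IsSepClosed Ω]
    (η : Spec (CommRingCat.of Ω) ⟶ W) :
    IsIso ((EtCoh.stalk η).map ψ) ↔
      IsZero ((EtCoh.stalk η).obj (kernel ψ)) ∧ IsZero ((EtCoh.stalk η).obj (cokernel ψ)) := by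
  haveI : PreservesColimitsOfSize.{u + 1, u + 1} (EtCoh.stalk η) :=
    ((Scheme.pointSmallEtale η).skyscraperSheafAdjunction (A := AddCommGrpCat.{u + 1})).leftAdjoint_preservesColimits
  constructor
  · intro h
    exact ⟨(isZero_kernel_of_mono _).of_iso (PreservesKernel.iso (EtCoh.stalk η) ψ),
      (isZero_cokernel_of_epi _).of_iso (PreservesCokernel.iso (EtCoh.stalk η) ψ)⟩
  · rintro ⟨h1, h2⟩
    haveI := Preadditive.mono_of_kernel_zero
      ((h1.of_iso (PreservesKernel.iso (EtCoh.stalk η) ψ).symm).eq_of_src (kernel.ι ((EtCoh.stalk η).map ψ)) 0)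
    haveI := Preadditive.epi_of_cokernel_zero
      ((h2.of_iso (PreservesCokernel.iso (EtCoh.stalk η) ψ).symm).eq_of_tgt (cokernel.π ((EtCoh.stalk η).map ψ)) 0)
    exact isIso_of_mono_of_epi _

theorem isConstructible_const {W : Scheme.{u}} (M : Type) [AddCommGroup M] [Finite M] :
    EtPBC.IsConstructible (EtCoh.const W M) :=
  isConstructible_of_isFLC (isFLC_const M)

theorem isZero_of_notMem_supp {W : Scheme.{u}} {A : EtCoh.Ab W} {Ω : Type u} [Field Ω] [IsSepClosed Ω]
    (η : Spec (CommRingCat.of Ω) ⟶ W) (h : η (default : Spec (CommRingCat.of Ω)) ∉ EtPBC.supp A) :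
    IsZero ((EtCoh.stalk η).obj A) :=
  by_contra fun hn => h ⟨Ω, inferInstance, inferInstance, η, range_point_eq η, hn⟩

theorem exists_flc_nhd_of_spec (hF : EtPBC.IsConstructible F) (x : X) {Ω : Type u} [Field Ω] [IsSepClosed Ω]
    (ξ : Spec (CommRingCat.of Ω) ⟶ X) (hξ : ξ (default : Spec (CommRingCat.of Ω)) = x)
    (h : ∀ (Ω' : Type u) [Field Ω'] [IsSepClosed Ω'] (ξ' : Spec (CommRingCat.of Ω') ⟶ X)
      (φ : Scheme.pointSmallEtale ξ' ⟶ Scheme.pointSmallEtale ξ),
      IsIso ((GrothendieckTopology.Point.Hom.sheafFiber (A := AddCommGrpCat.{u + 1}) φ).app F)) :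
    ∃ O : X.Opens, x ∈ O ∧ EtCoh.IsFiniteLocallyConstant ((EtCoh.pull O.ι).obj F) := by
  classical
  haveI := finite_stalk_of_isConstructible F hF ξ
  obtain ⟨U, y, M, iM, fM, σ, hcard, hinj⟩ := exists_hom_germs F ξ
  haveI : Etale U.hom := U.prop
  haveI := EtMV.jcont_etale U.hom
  let y₁ : Over.mk ξ ⟶ (Scheme.Etale.forget X).obj U := y
  obtain ⟨η, hη⟩ : ∃ η : Spec (CommRingCat.of Ω) ⟶ U.left, η = y₁.left := ⟨_, rfl⟩
  have hηξ : η ≫ U.hom = ξ := by rw [hη]; exact Over.w y₁
  subst hηξ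
  have hy : y = ptU U η := Over.OverMorphism.ext hη.symm
  subst hy
  have hbij : Function.Bijective
      (fun m => (Scheme.pointSmallEtale (η ≫ U.hom)).toPresheafFiber U (ptU U η) F.obj (σ m)) := by
    haveI : Finite (((Scheme.pointSmallEtale (η ≫ U.hom)).presheafFiber (A := AddCommGrpCat.{u + 1})).obj F.obj) :=
      (inferInstanceAs (Finite ((EtCoh.stalk (η ≫ U.hom)).obj F)))
    refine Function.Injective.bijective_of_nat_card_le (fun a b hab => ?_) hcard.ge
    refine sub_eq_zero.1 (hinj _ ?_)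
    rw [map_sub, map_sub]
    exact sub_eq_zero.2 hab
  let u₀ : U.left := η (default : Spec (CommRingCat.of Ω))
  let ψ := psi F U σ
  have hR : EtPBC.IsConstructible ((EtShriek.restrAlong U.hom).obj F) :=
    isConstructible_of_iso ((EtPushStalk.restrPullIso U.hom).app F).symm (isConstructible_pull U.hom hF)
  obtain ⟨hk, hc⟩ := isConstructible_kernel_cokernel ψ (isConstructible_const M) hR
  have hgen : ∀ v : U.left, v ⤳ u₀ → v ∉ EtPBC.supp (kernel ψ) ∧ v ∉ EtPBC.supp (cokernel ψ) := by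
    intro v hv
    have hiso : ∀ (Ω' : Type u) [Field Ω'] [IsSepClosed Ω'] (η' : Spec (CommRingCat.of Ω') ⟶ U.left),
        Set.range η' = {v} → IsIso ((EtCoh.stalk η').map ψ) := by
      intro Ω' _ _ η' hr
      rw [range_point_eq, Set.singleton_eq_singleton_iff] at hr
      obtain ⟨φ⟩ := exists_specialization η η' (by rw [hr]; exact hv)
      rw [isIso_stalk_psi_iff]
      have e : (fun m => (Scheme.pointSmallEtale (η' ≫ U.hom)).toPresheafFiber U (ptU U η') F.obj (σ m)) =
          (GrothendieckTopology.Point.Hom.sheafFiber (A := AddCommGrpCat.{u + 1}) (pushSpec U.hom η η' φ)).app F ∘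
            fun m => (Scheme.pointSmallEtale (η ≫ U.hom)).toPresheafFiber U (ptU U η) F.obj (σ m) := by
        funext m
        refine Eq.trans ?_ (sheafFiber_germ (pushSpec U.hom η η' φ) F U (ptU U η) (σ m)).symm
        rw [ptU_spec]
      rw [e]
      haveI := h Ω' (η' ≫ U.hom) (pushSpec U.hom η η' φ)
      exact ((ConcreteCategory.isIso_iff_bijective _).1 inferInstance).comp hbij
    constructor
    · rintro ⟨Ω', _, _, η', hr, hn⟩
      exact hn ((isIso_stalk_iff ψ η').1 (hiso Ω' η' hr)).1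
    · rintro ⟨Ω', _, _, η', hr, hn⟩
      exact hn ((isIso_stalk_iff ψ η').1 (hiso Ω' η' hr)).2
  have h1 : u₀ ∉ closure (EtPBC.supp (kernel ψ)) := fun hu => by
    obtain ⟨v, hv, hvu⟩ := ConsEngine.exists_specializes_of_mem_closure (isLocallyConstructible_supp hk) hu
    exact (hgen v hvu).1 hv
  have h2 : u₀ ∉ closure (EtPBC.supp (cokernel ψ)) := fun hu => by
    obtain ⟨v, hv, hvu⟩ := ConsEngine.exists_specializes_of_mem_closure (isLocallyConstructible_supp hc) hu
    exact (hgen v hvu).2 hv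
  let O : U.left.Opens := ⟨(closure (EtPBC.supp (kernel ψ)) ∪ closure (EtPBC.supp (cokernel ψ)))ᶜ,
    (isClosed_closure.union isClosed_closure).isOpen_compl⟩
  let g : U.left ⟶ X := U.hom
  haveI : Etale g := U.prop
  let U' : X.Etale := Scheme.Etale.mk (O.ι ≫ g)
  let i : U' ⟶ U := MorphismProperty.Over.homMk O.ι rfl
  let σ' : M →+ EtCoh.sect F U' := (rs F i).comp σ
  have htriv : EtFLC.IsTriv F U' σ' := by
    refine isTriv_of_bijective_germs F σ' fun Ω' _ _ ζ z => ?_
    let z₁ : Over.mk ζ ⟶ (Scheme.Etale.forget X).obj U' := z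
    obtain ⟨η', hη'⟩ : ∃ η' : Spec (CommRingCat.of Ω') ⟶ U.left, η' = z₁.left ≫ O.ι := ⟨_, rfl⟩
    have hw : η' ≫ U.hom = ζ := by rw [hη', Category.assoc]; exact Over.w z₁
    subst hw
    have hv : η' (default : Spec (CommRingCat.of Ω')) ∈ O := by rw [hη']; exact (z₁.left (default : Spec (CommRingCat.of Ω'))).2
    have hi : IsIso ((EtCoh.stalk η').map ψ) := (isIso_stalk_iff ψ η').2
      ⟨isZero_of_notMem_supp η' fun hm => hv (Or.inl (subset_closure hm)),
        isZero_of_notMem_supp η' fun hm => hv (Or.inr (subset_closure hm))⟩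
    have hz : (Scheme.pointSmallEtale (η' ≫ U.hom)).fiber.map i z = ptU U η' := Over.OverMorphism.ext hη'.symm
    have e : (fun m => (Scheme.pointSmallEtale (η' ≫ U.hom)).toPresheafFiber U' z F.obj (σ' m)) =
        fun m => (Scheme.pointSmallEtale (η' ≫ U.hom)).toPresheafFiber U (ptU U η') F.obj (σ m) := by
      funext m
      rw [← hz]
      exact GrothendieckTopology.Point.toPresheafFiber_w_apply _ _ _ _ _
    rw [e]
    exact (isIso_stalk_psi_iff F U σ η').1 hi
  haveI : Etale U'.hom := U'.prop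
  let O' : X.Opens := ⟨Set.range U'.hom, (Scheme.Hom.isOpenMap U'.hom).isOpen_range⟩
  refine ⟨O', ⟨⟨u₀, fun hu => hu.elim h1 h2⟩, ?_⟩, isFLC_pull_range F U' σ' htriv O' subset_rfl⟩
  exact hξ

theorem isIso_spec_of_flc_nhd {x : X} {O : X.Opens} (hxO : x ∈ O)
    (hflc : EtCoh.IsFiniteLocallyConstant ((EtCoh.pull O.ι).obj F)) {Ω : Type u} [Field Ω] [IsSepClosed Ω]
    (ξ : Spec (CommRingCat.of Ω) ⟶ X) (hξ : ξ (default : Spec (CommRingCat.of Ω)) = x)
    {Ω' : Type u} [Field Ω'] [IsSepClosed Ω'] (ξ' : Spec (CommRingCat.of Ω') ⟶ X)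
    (φ : Scheme.pointSmallEtale ξ' ⟶ Scheme.pointSmallEtale ξ) :
    IsIso ((GrothendieckTopology.Point.Hom.sheafFiber (A := AddCommGrpCat.{u + 1}) φ).app F) := by
  obtain ⟨W, g, hg, w, M, iM, fM, hw, ⟨e⟩⟩ := (isFLC_iff_local _).1 hflc ⟨x, hxO⟩
  haveI := hg
  let g' : W ⟶ X := g ≫ O.ι
  haveI := EtMV.jcont_etale g'
  obtain ⟨p⟩ := nonempty_pull_pull g O.ι g' rfl
  obtain ⟨σ, hσ⟩ := exists_isTriv_of_iso F g' ((EtPushStalk.restrPullIso g').app F ≪≫ (p.app F).symm ≪≫ e)
  obtain ⟨y, -⟩ := Scheme.pointSmallEtaleFiberObjToPreimage_surjective ξ hξ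
    ((EtShriek.compEtale g').obj (EtCoh.top W)) ⟨w, by
      show (𝟙 W ≫ g ≫ O.ι) w = x
      rw [Category.id_comp, Scheme.Hom.comp_apply, hw]; rfl⟩
  rw [ConcreteCategory.isIso_iff_bijective]
  have hb := bijective_germ_of_isTriv σ hσ ξ y
  refine (Function.Bijective.of_comp_iff _ hb).1 ?_
  have e' : ((GrothendieckTopology.Point.Hom.sheafFiber (A := AddCommGrpCat.{u + 1}) φ).app F ∘
      fun m => (Scheme.pointSmallEtale ξ).toPresheafFiber _ y F.obj (σ m)) =
      fun m => (Scheme.pointSmallEtale ξ').toPresheafFiber _ (φ.hom.app _ y) F.obj (σ m) :=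
    funext fun m => sheafFiber_germ φ F _ y (σ m)
  rw [e']
  exact bijective_germ_of_isTriv σ hσ ξ' _

end Groth.Agent.EtCons
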