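import Groth.Agent.EtCons.UHDescent
import Groth.Agent.EtCons.Supp
import Groth.Agent.EtCons.FinStratum
import Groth.Agent.EtIntegral.StalkFinite
import Groth.Agent.EtInvariance.Site
import Groth.Agent.LimDesc.FPCancel
import Mathlib

/-! Splitting a finite morphism into universal homeomorphisms and a finite etale map. -/

universe u

open CategoryTheory CategoryTheory.Limits AlgebraicGeometry Opposite

set_option backward.isDefEq.respectTransparency false

namespace Groth.Agent.EtCons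

theorem isFinite_codiag (Y : Scheme.{u}) (ι : Type u) [Finite ι] :
    IsFinite (Sigma.desc fun _ : ι => 𝟙 Y) := by
  let g : ι → Scheme.{u} := fun _ => Y
  refine isFinite_of_cover _ (fun i => (Sigma.ι g i).opensRange) ?_ (fun i => ?_) fun i j => ?_
  · refine eq_top_iff.2 fun z _ => ?_
    obtain ⟨i, x, hx⟩ := (sigmaOpenCover g).exists_eq z
    exact TopologicalSpace.Opens.mem_iSup.2 ⟨i, x, hx⟩
  · have e : (Sigma.ι g i).isoOpensRange.hom ≫ (Sigma.ι g i).opensRange.ι ≫ Sigma.desc (fun _ : ι => 𝟙 Y) = 𝟙 Y := by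
      rw [Scheme.Hom.isoOpensRange_hom_ι_assoc]
      exact Sigma.ι_desc _ _
    rw [← MorphismProperty.cancel_left_of_respectsIso @IsFinite (Sigma.ι g i).isoOpensRange.hom, e]
    infer_instance
  · by_cases h : i = j
    · subst h
      refine ⟨PUnit, inferInstance, fun _ => (Sigma.ι g i).opensRange, by simp, fun _ => ?_⟩
      have e : (Sigma.ι g i).isoOpensRange.hom ≫ (Sigma.ι g i).opensRange.ι ≫ Sigma.desc (fun _ : ι => 𝟙 Y) = 𝟙 Y := by
        rw [Scheme.Hom.isoOpensRange_hom_ι_assoc]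
        exact Sigma.ι_desc _ _
      rw [← MorphismProperty.cancel_left_of_respectsIso @IsFinite (Sigma.ι g i).isoOpensRange.hom, e]
      infer_instance
    · refine ⟨PEmpty, inferInstance, fun k => k.elim, ?_, fun k => k.elim⟩
      rw [iSup_of_empty, eq_bot_iff]
      rintro z ⟨⟨a, ha⟩, ⟨b, hb⟩⟩
      obtain ⟨rfl⟩ := (sigmaι_eq_iff g i j a b).1 (ha.trans hb.symm)
      exact (h rfl).elim

theorem etale_codiag (Y : Scheme.{u}) (ι : Type u) :
    Etale (Sigma.desc fun _ : ι => 𝟙 Y) :=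
  IsZariskiLocalAtSource.sigmaDesc fun _ => inferInstance

/-- the points of the base over which `φ` fails to be a universal homeomorphism -/
def badSet {A L : Scheme.{u}} (φ : A ⟶ L) : Set L :=
  (Set.range φ)ᶜ ∪ (pullback.fst φ φ ≫ φ) '' (Set.range (pullback.diagonal φ))ᶜ

theorem universallyInjective_of_not_bad {A L A' L' : Scheme.{u}} {φ : A ⟶ L} {φ' : A' ⟶ L'} {a : A' ⟶ A} {l : L' ⟶ L}
    (sq : IsPullback a φ' φ l) (h : ∀ z, l z ∉ badSet φ) : UniversallyInjective φ' ∧ Surjective φ' := by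
  constructor
  · refine ((tfae_universallyInjective φ').out 1 0).1 ?_
    intro K _ g₁ g₂ hg
    have hg' : g₁ ≫ φ' = g₂ ≫ φ' := hg
    have hw : (g₁ ≫ a) ≫ φ = (g₂ ≫ a) ≫ φ := by
      rw [Category.assoc, Category.assoc, sq.w, reassoc_of% hg']
    let m := pullback.lift (g₁ ≫ a) (g₂ ≫ a) hw
    have hm : m (default : Spec (CommRingCat.of K)) ∈ Set.range (pullback.diagonal φ) := by
      by_contra hne
      refine h (φ' (g₁ default)) (Or.inr ⟨_, hne, ?_⟩)
      have e : (g₁ ≫ φ') ≫ l = m ≫ pullback.fst φ φ ≫ φ := by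
        rw [pullback.lift_fst_assoc, Category.assoc, Category.assoc, sq.w]
      exact (congr($e (default : Spec (CommRingCat.of K)))).symm
    obtain ⟨t, ht⟩ := hm
    obtain ⟨η, hη, -⟩ := exists_point_lift (pullback.diagonal φ) m t ht.symm
    apply sq.hom_ext _ hg'
    have h1 := congrArg (· ≫ pullback.fst φ φ) hη
    have h2 := congrArg (· ≫ pullback.snd φ φ) hη
    simp only [Category.assoc, pullback.diagonal_fst, pullback.diagonal_snd, Category.comp_id, m, pullback.lift_fst, pullback.lift_snd] at h1 h2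
    exact h1.symm.trans h2
  · refine ⟨fun z => ?_⟩
    have hz : l z ∈ Set.range φ := by_contra fun hne => h z (Or.inl hne)
    obtain ⟨p, hp⟩ := hz
    obtain ⟨q, -, hq⟩ := Scheme.exists_preimage_of_isPullback sq p z hp
    exact ⟨q, hq⟩

theorem exists_split_uh {X Y : Scheme.{u}} (f : X ⟶ Y) [IsFinite f] [LocallyOfFinitePresentation f] (y : Y)
    {D : Y.Opens} (hyD : y ∈ D) :
    ∃ (V : Scheme.{u}) (p : V ⟶ Y) (L : Scheme.{u}) (φ : pullback p f ⟶ L) (πL : L ⟶ V) (v : V),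
      Etale p ∧ IsAffine V ∧ (∀ z, p z ∈ D) ∧ p v = y ∧ IsFinite πL ∧ Etale πL ∧ IsFinite φ ∧
      LocallyOfFinitePresentation φ ∧ φ ≫ πL = pullback.fst p f ∧ v ∉ πL '' badSet φ := by
  classical
  let Ω : Type u := AlgebraicClosure (Y.residueField y)
  let η : Spec (CommRingCat.of Ω) ⟶ Y := (Scheme.SpecToEquivOfField Ω Y).symm
    ⟨y, CommRingCat.ofHom (algebraMap (Y.residueField y) _)⟩
  have hη : η default = y := by simp [η, Scheme.SpecToEquivOfField]
  let ι := EtIntegral.Lifts f η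
  haveI : Finite ι := EtIntegral.finite_lifts f η
  let g : ι → Scheme.{u} := fun _ => X
  haveI : Etale (Sigma.desc fun _ : ι => 𝟙 X) := etale_codiag X ι
  obtain ⟨V₁, p₁, hp₁, v₁, hv₁, s₁, hs₁, hws⟩ := EtIntegral.exists_section_pointed f η
    (Sigma.desc fun _ : ι => 𝟙 X) (fun ξ => ξ.1 ≫ Sigma.ι g ξ) (fun ξ => by
      rw [Category.assoc]; erw [Sigma.ι_desc]; exact Category.comp_id _)
  haveI := hp₁
  obtain ⟨O, hO, hvO, hOD⟩ := exists_isAffineOpen_mem_and_subset (X := V₁) (x := v₁ default) (U := p₁ ⁻¹ᵁ D)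
    (show p₁ (v₁ default) ∈ D by rw [← Scheme.Hom.comp_apply, hv₁, hη]; exact hyD)
  let p : O.toScheme ⟶ Y := O.ι ≫ p₁
  let v₀ : Spec (CommRingCat.of Ω) ⟶ O.toScheme := IsOpenImmersion.lift O.ι v₁ (by
    rintro _ ⟨z, rfl⟩
    rw [Scheme.Opens.range_ι, Subsingleton.elim (α := Spec (CommRingCat.of Ω)) z default]
    exact hvO)
  have hv₀ : v₀ ≫ p = η := by rw [IsOpenImmersion.lift_fac_assoc]; exact hv₁
  let r : pullback p f ⟶ pullback p₁ f := pullback.map _ _ _ _ O.ι (𝟙 X) (𝟙 Y) (by simp [p]) (by simp)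
  let s : pullback p f ⟶ ∐ g := r ≫ s₁
  have hs : s ≫ Sigma.desc (fun _ : ι => 𝟙 X) = pullback.snd p f := by
    rw [Category.assoc]; erw [hs₁]; simp [r]
  let h : ι → Scheme.{u} := fun _ => Y
  let cd : ∐ h ⟶ Y := Sigma.desc fun _ : ι => 𝟙 Y
  let mf : ∐ g ⟶ ∐ h := Limits.Sigma.map fun _ => f
  have hmf : mf ≫ cd = Sigma.desc (fun _ : ι => 𝟙 X) ≫ f := Sigma.hom_ext _ _ fun i => by simp [mf, cd, g, h]
  let φ : pullback p f ⟶ pullback p cd := pullback.lift (pullback.fst p f) (s ≫ mf) (by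
    rw [pullback.condition, Category.assoc, hmf, reassoc_of% hs])
  let πL := pullback.fst p cd
  haveI : IsFinite cd := isFinite_codiag Y ι
  haveI : Etale cd := etale_codiag Y ι
  haveI : IsFinite πL := MorphismProperty.pullback_fst _ _ ‹_›
  haveI : Etale πL := MorphismProperty.pullback_fst _ _ ‹_›
  have hφ : φ ≫ πL = pullback.fst p f := pullback.lift_fst _ _ _
  haveI : IsFinite (φ ≫ πL) := by rw [hφ]; infer_instance
  haveI : LocallyOfFinitePresentation (φ ≫ πL) := by rw [hφ]; infer_instance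
  haveI : IsFinite φ := IsFinite.of_comp φ πL
  refine ⟨O, p, _, φ, πL, v₀ default, inferInstance, hO, fun z => hOD z.2, ?_, inferInstance, inferInstance,
    inferInstance, LimDesc.lfp_of_comp φ πL, hφ, ?_⟩
  · rw [← Scheme.Hom.comp_apply, hv₀, hη]
  -- lifts to the fibre
  have hlift : ∀ b : Spec (CommRingCat.of Ω) ⟶ pullback p f, b ≫ pullback.fst p f = v₀ →
      ∃ ξ : ι, b = pullback.lift v₀ ξ.1 (hv₀.trans ξ.2.symm) := fun b hb =>
    ⟨⟨b ≫ pullback.snd p f, by rw [Category.assoc, ← pullback.condition, reassoc_of% hb, hv₀]⟩,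
      pullback.hom_ext (hb.trans (pullback.lift_fst _ _ _).symm) (pullback.lift_snd _ _ _).symm⟩
  have hcomp : ∀ ξ : ι, pullback.lift v₀ ξ.1 (hv₀.trans ξ.2.symm) ≫ φ ≫ pullback.snd p cd = η ≫ Sigma.ι h ξ := by
    intro ξ
    rw [pullback.lift_snd]
    have e : pullback.lift v₀ ξ.1 (hv₀.trans ξ.2.symm) ≫ r = pullback.lift v₁ ξ.1 (hv₁.trans ξ.2.symm) := by
      apply pullback.hom_ext <;> simp [r, v₀]
    simp only [s, Category.assoc]
    rw [reassoc_of% e]
    erw [reassoc_of% (hws ξ)]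
    simp only [mf, g, h]
    erw [Limits.Sigma.ι_map]
    rw [reassoc_of% ξ.2]
  rintro ⟨l, hl, hlv⟩
  rcases hl with hl | ⟨z, hz, hzl⟩
  · refine hl ?_
    obtain ⟨⟨ζ, hζ⟩, hζl⟩ := EtIntegral.exists_lift_of_point πL v₀ l hlv
    obtain ⟨ξ, c, hc⟩ := (sigmaOpenCover h).exists_eq ((ζ ≫ pullback.snd p cd) default)
    obtain ⟨ε, hε, -⟩ := exists_point_lift (Sigma.ι h ξ) (ζ ≫ pullback.snd p cd) c hc.symm
    have hεη : ε = η := by
      have := congrArg (· ≫ cd) hε
      simp only [Category.assoc, cd] at this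
      erw [Sigma.ι_desc, Category.comp_id] at this
      rw [this, ← pullback.condition]
      erw [reassoc_of% hζ]
      exact hv₀
    refine ⟨pullback.lift v₀ ξ.1 (hv₀.trans ξ.2.symm) default, ?_⟩
    rw [← Scheme.Hom.comp_apply, ← hζl]
    refine congrArg (fun k : Spec (CommRingCat.of Ω) ⟶ pullback p cd => k default) ?_
    apply pullback.hom_ext
    · rw [Category.assoc, hφ, pullback.lift_fst]; exact hζ.symm
    · rw [Category.assoc, hcomp, ← hε, hεη]
  · refine hz ?_
    let q : pullback φ φ ⟶ O.toScheme := (pullback.fst φ φ ≫ φ) ≫ πL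
    have hq : q z = v₀ default := by rw [Scheme.Hom.comp_apply, hzl, hlv]
    obtain ⟨⟨m, hm⟩, hmz⟩ := EtIntegral.exists_lift_of_point q v₀ z hq
    have h1 : (m ≫ pullback.fst φ φ) ≫ pullback.fst p f = v₀ := by
      rw [← hφ, ← hm]; simp [q]
    have h2 : (m ≫ pullback.snd φ φ) ≫ pullback.fst p f = v₀ := by
      rw [← h1, ← hφ, Category.assoc, Category.assoc, pullback.condition_assoc]
    obtain ⟨ξ, hξ⟩ := hlift _ h1
    obtain ⟨ξ', hξ'⟩ := hlift _ h2
    have hh : η ≫ Sigma.ι h ξ = η ≫ Sigma.ι h ξ' := by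
      rw [← hcomp, ← hcomp, ← hξ, ← hξ', Category.assoc, Category.assoc, pullback.condition_assoc]
    have hξe : ξ = ξ' := by
      have := congr($hh (default : Spec (CommRingCat.of Ω)))
      exact congrArg Sigma.fst ((sigmaι_eq_iff h ξ ξ' _ _).1 this)
    subst hξe
    refine ⟨(m ≫ pullback.fst φ φ) default, ?_⟩
    rw [← hmz, ← Scheme.Hom.comp_apply]
    refine congrArg (fun k : Spec (CommRingCat.of Ω) ⟶ pullback φ φ => k default) ?_
    apply pullback.hom_ext
    · simp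
    · rw [Category.assoc, pullback.diagonal_snd, Category.comp_id, hξ, hξ']

end Groth.Agent.EtCons
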