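import Groth.Agent.DvrDom.ClosedProper
import Mathlib

/-! Locally closed sets as ranges of immersions of reduced schemes. -/

universe u

open CategoryTheory AlgebraicGeometry

namespace Groth.Agent.EtCons

/-- a locally closed set is the range of an immersion of a reduced scheme -/
theorem exists_reduced_immersion_range {Y : Scheme.{u}} {A : Set Y} (hA : IsLocallyClosed A) :
    ∃ (O : Scheme.{u}) (j : O ⟶ Y), IsImmersion j ∧ Set.range j = A ∧ IsReduced O := by
  let U : Y.Opens := ⟨coborder A, hA.isOpen_coborder⟩
  have hC : IsClosed (U.ι ⁻¹' A) := by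
    have : U.ι ⁻¹' A = U.ι ⁻¹' closure A := by
      ext y
      refine ⟨fun hy => subset_closure hy, fun hy => ?_⟩
      have h1 : U.ι y ∈ coborder A ∩ closure A := ⟨y.2, hy⟩
      rwa [coborder_inter_closure] at h1
    rw [this]
    exact isClosed_closure.preimage U.ι.continuous
  let I := Scheme.IdealSheafData.vanishingIdeal (⟨_, hC⟩ : TopologicalSpace.Closeds U)
  refine ⟨I.subscheme, I.subschemeι ≫ U.ι, inferInstance, ?_, DvrDom.isReduced_vanishingIdeal_subscheme _⟩
  rw [Scheme.Hom.comp_base, TopCat.coe_comp, Set.range_comp, Scheme.IdealSheafData.range_subschemeι,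
    Scheme.IdealSheafData.coe_support_vanishingIdeal]
  show U.ι '' (U.ι ⁻¹' A) = A
  rw [Set.image_preimage_eq_inter_range, Scheme.Opens.range_ι, Set.inter_eq_left]
  exact subset_coborder

end Groth.Agent.EtCons
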