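import Groth.Agent.EtIntegral.StalkFinite
import Groth.Agent.FpqcDescent.Sep
import Groth.Prelude.Def_EtBase
import Mathlib

/-! Specialisation morphisms between geometric points of the small etale site. -/

universe u

open CategoryTheory CategoryTheory.Limits AlgebraicGeometry Opposite Topology

set_option backward.isDefEq.respectTransparency false

noncomputable section

namespace Groth.Agent.EtCons

variable {X : Scheme.{u}} {Ω Ω' : Type u} [Field Ω] [IsSepClosed Ω] [Field Ω'] [IsSepClosed Ω']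

/-- lifts of a point to an affine etale neighbourhood inside an affine open are finitely many -/
theorem finite_fiber_of_affine (ξ' : Spec (CommRingCat.of Ω') ⟶ X) (W : X.Etale) [IsAffine W.left]
    {D : X.Opens} (hD : IsAffineOpen D) (hW : ∀ w : W.left, W.hom w ∈ D) :
    Finite ((Scheme.pointSmallEtale ξ').fiber.obj W) := by
  let g : W.left ⟶ X := W.hom
  haveI : Etale g := W.prop
  haveI : IsAffine D.toScheme := hD
  let k : W.left ⟶ D.toScheme := IsOpenImmersion.lift D.ι g (by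
    rintro _ ⟨w, rfl⟩; rw [Scheme.Opens.range_ι]; exact hW w)
  have hk : k ≫ D.ι = g := IsOpenImmersion.lift_fac _ _ _
  haveI : Etale (k ≫ D.ι) := by rw [hk]; infer_instance
  haveI : Etale k := Etale.of_comp k D.ι
  haveI := FpqcDescent.locallyQuasiFinite_of_etale k
  by_cases h : IsEmpty ((Scheme.pointSmallEtale ξ').fiber.obj W)
  · infer_instance
  obtain ⟨x₀⟩ := not_isEmpty_iff.1 h
  let x₁ : Over.mk ξ' ⟶ (Scheme.Etale.forget X).obj W := x₀
  have hx : x₁.left ≫ g = ξ' := Over.w x₁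
  let η : Spec (CommRingCat.of Ω') ⟶ D.toScheme := x₁.left ≫ k
  have hη : η ≫ D.ι = ξ' := by rw [Category.assoc, hk, hx]
  let q := pullback.snd k η
  haveI : QuasiCompact k := inferInstance
  haveI : IsFinite q := IsFinite.of_locallyQuasiFinite _
  haveI := EtIntegral.finite_lifts q (𝟙 (Spec (CommRingCat.of Ω')))
  refine Finite.of_injective (fun x : (Scheme.pointSmallEtale ξ').fiber.obj W =>
    (⟨pullback.lift (x : Over.mk ξ' ⟶ (Scheme.Etale.forget X).obj W).left (𝟙 _) (by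
      rw [← cancel_mono D.ι, Category.assoc, hk, Category.id_comp, hη]
      exact Over.w (x : Over.mk ξ' ⟶ (Scheme.Etale.forget X).obj W)), pullback.lift_snd _ _ _⟩ :
      EtIntegral.Lifts q (𝟙 _))) ?_
  intro a b e
  have := congrArg (fun z : EtIntegral.Lifts q (𝟙 _) => z.1 ≫ pullback.fst k η) e
  simp only [pullback.lift_fst] at this
  exact Over.OverMorphism.ext this

variable (ξ : Spec (CommRingCat.of Ω) ⟶ X) (ξ' : Spec (CommRingCat.of Ω') ⟶ X)

abbrev Nbhd := (Scheme.pointSmallEtale ξ).fiber.Elements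

def pt {e : Nbhd ξ} : e.1.left :=
  (e.2 : Over.mk ξ ⟶ (Scheme.Etale.forget X).obj e.1).left (default : Spec (CommRingCat.of Ω))

def lpt {W : X.Etale} (p : (Scheme.pointSmallEtale ξ').fiber.obj W) : W.left :=
  (p : Over.mk ξ' ⟶ (Scheme.Etale.forget X).obj W).left (default : Spec (CommRingCat.of Ω'))

/-- the lifts of `ξ'` generalising the given lift of `ξ` -/
def genLifts : Nbhd ξ ⥤ Type u where
  obj e := {p : (Scheme.pointSmallEtale ξ').fiber.obj e.1 // lpt ξ' p ⤳ pt ξ (e := e)}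
  map {e e'} a := TypeCat.ofHom fun p => ⟨(Scheme.pointSmallEtale ξ').fiber.map a.1 p.1, by
    have h1 : lpt ξ' ((Scheme.pointSmallEtale ξ').fiber.map a.1 p.1) = a.1.left (lpt ξ' p.1) := rfl
    have h2 : pt ξ (e := e') = a.1.left (pt ξ (e := e)) := by
      exact (congrArg (fun z => (z : Over.mk ξ ⟶ (Scheme.Etale.forget X).obj e'.1).left
        (default : Spec (CommRingCat.of Ω))) a.2).symm
    rw [h1, h2]
    exact p.2.map a.1.left.continuous⟩
  map_id e := by
    ext p
    exact ConcreteCategory.congr_hom ((Scheme.pointSmallEtale ξ').fiber.map_id e.1) p.1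
  map_comp a b := by
    ext p
    exact ConcreteCategory.congr_hom ((Scheme.pointSmallEtale ξ').fiber.map_comp a.1 b.1) p.1

/-- neighbourhoods to which `ξ'` has finitely many lifts -/
abbrev FinNbhd := ObjectProperty.FullSubcategory (fun e : Nbhd ξ => Finite ((Scheme.pointSmallEtale ξ').fiber.obj e.1))

variable (hsp : ξ' (default : Spec (CommRingCat.of Ω')) ⤳ ξ (default : Spec (CommRingCat.of Ω)))
include hsp

theorem exists_refine (e : Nbhd ξ) : ∃ (j : FinNbhd ξ ξ'), Nonempty (j.1 ⟶ e) := by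
  obtain ⟨W, x⟩ := e
  let x' : Over.mk ξ ⟶ (Scheme.Etale.forget X).obj W := x
  let w : W.left := x'.left (default : Spec (CommRingCat.of Ω))
  obtain ⟨D, hD, hyD, -⟩ := exists_isAffineOpen_mem_and_subset (X := X) (x := W.hom w) (U := ⊤) trivial
  let g : W.left ⟶ X := W.hom
  haveI : Etale g := W.prop
  obtain ⟨O, hO, hwO, hOD⟩ := exists_isAffineOpen_mem_and_subset (X := W.left) (x := w) (U := g ⁻¹ᵁ D) hyD
  let W' : X.Etale := Scheme.Etale.mk (O.ι ≫ g)
  let a : W' ⟶ W := MorphismProperty.Over.homMk O.ι rfl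
  have hr : Set.range x'.left ⊆ Set.range O.ι := by
    rintro _ ⟨c, rfl⟩
    rw [Scheme.Opens.range_ι, Subsingleton.elim (α := Spec (CommRingCat.of Ω)) c default]
    exact hwO
  let x'' : Over.mk ξ ⟶ (Scheme.Etale.forget X).obj W' := Over.homMk (IsOpenImmersion.lift O.ι x'.left hr) (by
    change IsOpenImmersion.lift O.ι x'.left hr ≫ O.ι ≫ g = ξ
    rw [IsOpenImmersion.lift_fac_assoc]; exact Over.w x')
  haveI : IsAffine W'.left := hO
  refine ⟨⟨Functor.elementsMk _ W' x'', finite_fiber_of_affine ξ' W' hD (fun z => hOD z.2)⟩,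
    ⟨⟨a, Over.OverMorphism.ext (IsOpenImmersion.lift_fac _ _ _)⟩⟩⟩

theorem isCofilteredOrEmpty_finNbhd : IsCofilteredOrEmpty (FinNbhd ξ ξ') where
  cone_objs a b := by
    obtain ⟨c, f, g, -⟩ := IsCofilteredOrEmpty.cone_objs a.1 b.1
    obtain ⟨j, ⟨h⟩⟩ := exists_refine ξ ξ' hsp c
    exact ⟨j, ⟨h ≫ f⟩, ⟨h ≫ g⟩, trivial⟩
  cone_maps {a b} f g := by
    obtain ⟨c, e, he⟩ := IsCofilteredOrEmpty.cone_maps f.hom g.hom
    obtain ⟨j, ⟨h⟩⟩ := exists_refine ξ ξ' hsp c
    exact ⟨j, ⟨h ≫ e⟩, ObjectProperty.hom_ext _ (by simp [he])⟩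

theorem nonempty_genLifts (e : Nbhd ξ) : Nonempty ((genLifts ξ ξ').obj e) := by
  let g : e.1.left ⟶ X := e.1.hom
  haveI : Etale g := e.1.prop
  have hw : g (pt ξ (e := e)) = ξ (default : Spec (CommRingCat.of Ω)) :=
    congr($(Over.w (e.2 : Over.mk ξ ⟶ (Scheme.Etale.forget X).obj e.1)) (default : Spec (CommRingCat.of Ω)))
  obtain ⟨w', hw', hgw'⟩ := (Flat.generalizingMap (f := g)) (show ξ' (default : Spec (CommRingCat.of Ω')) ⤳ g (pt ξ (e := e)) by
    rw [hw]; exact hsp)
  obtain ⟨p, hp⟩ := Scheme.pointSmallEtaleFiberObjToPreimage_surjective ξ' rfl e.1 ⟨w', hgw'⟩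
  refine ⟨⟨p, ?_⟩⟩
  have hp' : lpt ξ' p = w' := congrArg Subtype.val hp
  rw [hp']; exact hw'

/-- geometric points over specialising points are related by a morphism of points -/
theorem exists_specialization :
    Nonempty (Scheme.pointSmallEtale ξ' ⟶ Scheme.pointSmallEtale ξ) := by
  haveI := isCofilteredOrEmpty_finNbhd ξ ξ' hsp
  let F : FinNbhd ξ ξ' ⥤ Type u := ObjectProperty.ι _ ⋙ genLifts ξ ξ'
  haveI : ∀ j, Finite (F.obj j) := fun j => by
    haveI := j.2
    exact inferInstanceAs (Finite {p : (Scheme.pointSmallEtale ξ').fiber.obj j.1.1 // lpt ξ' p ⤳ pt ξ (e := j.1)})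
  haveI : ∀ j, Nonempty (F.obj j) := fun j => nonempty_genLifts ξ ξ' hsp j.1
  obtain ⟨s, hs⟩ := nonempty_sections_of_finite_cofiltered_system F
  choose ρ hρ using exists_refine ξ ξ' hsp
  let a : ∀ e, (ρ e).1 ⟶ e := fun e => (hρ e).some
  let val : ∀ e, (genLifts ξ ξ').obj e := fun e => (genLifts ξ ξ').map (a e) (s (ρ e))
  have key : ∀ (e : Nbhd ξ) (j : FinNbhd ξ ξ') (b : j.1 ⟶ e), (genLifts ξ ξ').map b (s j) = val e := by
    intro e j b
    obtain ⟨c, f, g, hfg⟩ := IsCofiltered.cospan b (a e)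
    obtain ⟨k, ⟨h⟩⟩ := exists_refine ξ ξ' hsp c
    have h1 : (genLifts ξ ξ').map (h ≫ f) (s k) = s j := hs (⟨h ≫ f⟩ : k ⟶ j)
    have h2 : (genLifts ξ ξ').map (h ≫ g) (s k) = s (ρ e) := hs (⟨h ≫ g⟩ : k ⟶ ρ e)
    rw [← h1]
    show _ = (genLifts ξ ξ').map (a e) (s (ρ e))
    rw [← h2, ← ConcreteCategory.comp_apply, ← ConcreteCategory.comp_apply, ← Functor.map_comp, ← Functor.map_comp,
      Category.assoc, Category.assoc, hfg]
  refine ⟨⟨{ app := fun W => TypeCat.ofHom fun x => (val (Functor.elementsMk _ W x)).1, naturality := fun W W' m => ?_ }⟩⟩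
  ext x
  show (val (Functor.elementsMk _ W' ((Scheme.pointSmallEtale ξ).fiber.map m x))).1 = (Scheme.pointSmallEtale ξ').fiber.map m (val (Functor.elementsMk _ W x)).1
  let m' : Functor.elementsMk _ W x ⟶ Functor.elementsMk _ W' ((Scheme.pointSmallEtale ξ).fiber.map m x) :=
    ⟨m, rfl⟩
  rw [← key _ (ρ (Functor.elementsMk _ W x)) (a _ ≫ m'), Functor.map_comp]
  rfl

end Groth.Agent.EtCons
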