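import Groth.Agent.EtCons.GenericTriv
import Groth.Agent.EtCons.Specialization
import Groth.Agent.EtCons.Supp
import Groth.Agent.EtCons.NoethCons
import Groth.Agent.EtStalk.Pullback
import Mathlib

/-! Cardinalities of geometric stalks. -/

universe u

open CategoryTheory CategoryTheory.Limits AlgebraicGeometry Opposite Topology TopologicalSpace

set_option backward.isDefEq.respectTransparency false
set_option backward.isDefEq.respectTransparency.types false

noncomputable section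

namespace Groth.Agent.EtCons

/-- Restriction of sections. -/
local notation "rs" => Groth.Agent.EtFLC.res

variable {X : Scheme.{u}}

theorem card_stalk_pull {T : Scheme.{u}} (j : T ⟶ X) (F : EtCoh.Ab X) {Ω : Type u} [Field Ω] [IsSepClosed Ω]
    (η : Spec (CommRingCat.of Ω) ⟶ T) :
    Nat.card ((EtCoh.stalk η).obj ((EtCoh.pull j).obj F)) = Nat.card ((EtCoh.stalk (η ≫ j)).obj F) :=
  Nat.card_congr ((EtStalk.stalkPullIso j η).app F).addCommGroupIsoToAddEquiv.toEquiv.symm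

theorem finite_stalk_pull {T : Scheme.{u}} (j : T ⟶ X) (F : EtCoh.Ab X) {Ω : Type u} [Field Ω] [IsSepClosed Ω]
    (η : Spec (CommRingCat.of Ω) ⟶ T) [Finite ((EtCoh.stalk (η ≫ j)).obj F)] :
    Finite ((EtCoh.stalk η).obj ((EtCoh.pull j).obj F)) :=
  Finite.of_equiv _ ((EtStalk.stalkPullIso j η).app F).addCommGroupIsoToAddEquiv.toEquiv

/-- reduced closure of a point, with its generic point -/
theorem exists_closure_scheme (x : X) :
    ∃ (T : Scheme.{u}) (j : T ⟶ X) (_ : IsImmersion j) (t : T), j t = x ∧ (∀ y : T, t ⤳ y) ∧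
      Set.range j = closure {x} := by
  obtain ⟨T, j, hj, hr⟩ := exists_immersion_range (isClosed_closure (s := ({x} : Set X))).isLocallyClosed
  haveI := hj
  obtain ⟨t, ht⟩ : x ∈ Set.range j := hr ▸ subset_closure rfl
  refine ⟨T, j, hj, t, ht, fun y => ?_, hr⟩
  rw [← j.isEmbedding.isInducing.specializes_iff, ht, specializes_iff_mem_closure, ← hr]
  exact ⟨y, rfl⟩

/-- germs at points of a neighbourhood trivialising the sheaf are bijective -/
theorem bijective_germ_of_isTriv {F : EtCoh.Ab X} {U : X.Etale} {M : Type} [AddCommGroup M]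
    (σ : M →+ EtCoh.sect F U) (hσ : EtFLC.IsTriv F U σ) {Ω : Type u} [Field Ω] [IsSepClosed Ω]
    (ξ : Spec (CommRingCat.of Ω) ⟶ X) (y : (Scheme.pointSmallEtale ξ).fiber.obj U) :
    Function.Bijective (fun m => (Scheme.pointSmallEtale ξ).toPresheafFiber U y F.obj (σ m)) := by
  refine ⟨injective_germs F ξ σ (fun m hm => Set.eq_univ_of_forall fun v => ?_) y, fun p => ?_⟩
  · by_contra hv
    obtain ⟨W, g, ⟨w, hw⟩, hz⟩ := (EtSect.mem_iff F _ v).1 hv
    exact hm (hσ.inj g m hz w)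
  · obtain ⟨V, v, s, rfl⟩ := (Scheme.pointSmallEtale ξ).toPresheafFiber_jointly_surjective (P := F.obj) p
    obtain ⟨W, a, b, -⟩ := IsCofilteredOrEmpty.cone_objs
      (Functor.elementsMk (Scheme.pointSmallEtale ξ).fiber V v)
      (Functor.elementsMk (Scheme.pointSmallEtale ξ).fiber U y)
    obtain ⟨Z, h, z, m, hz, hm⟩ := hσ.surj b.1 (F.obj.map a.1.op s)
      ((W.2 : Over.mk ξ ⟶ (Scheme.Etale.forget X).obj W.1).left (default : Spec (CommRingCat.of Ω)))
    refine ⟨m, ?_⟩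
    show (Scheme.pointSmallEtale ξ).toPresheafFiber U y F.obj (σ m) = _
    have e1 : (Scheme.pointSmallEtale ξ).fiber.map a.1 W.2 = v := a.2
    have e2 : (Scheme.pointSmallEtale ξ).fiber.map b.1 W.2 = y := b.2
    rw [← e1, ← e2, ← GrothendieckTopology.Point.toPresheafFiber_w_apply, ← GrothendieckTopology.Point.toPresheafFiber_w_apply,
      eq_comm, ← sub_eq_zero, ← map_sub]
    refine (EtPushStalk.germ_eq_zero_iff F ξ W.1 W.2 _).2 fun hmem => hmem Z h ⟨z, hz⟩ ?_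
    rw [map_sub, sub_eq_zero]
    exact hm.trans (EtFLC.res_res F h b.1 (σ m)).symm

theorem card_le_of_spec (F : EtCoh.Ab X) {Ω Ω' : Type u} [Field Ω] [IsSepClosed Ω] [Field Ω'] [IsSepClosed Ω']
    (ξ : Spec (CommRingCat.of Ω) ⟶ X) (ξ' : Spec (CommRingCat.of Ω') ⟶ X)
    (φ : Scheme.pointSmallEtale ξ' ⟶ Scheme.pointSmallEtale ξ) [Finite ((EtCoh.stalk ξ').obj F)]
    [Mono ((GrothendieckTopology.Point.Hom.sheafFiber (A := AddCommGrpCat.{u + 1}) φ).app F)] :
    Nat.card ((EtCoh.stalk ξ).obj F) ≤ Nat.card ((EtCoh.stalk ξ').obj F) :=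
  Nat.card_le_card_of_injective _ ((AddCommGrpCat.mono_iff_injective
    ((GrothendieckTopology.Point.Hom.sheafFiber (A := AddCommGrpCat.{u + 1}) φ).app F)).1 inferInstance)

theorem exists_card_nhd {T : Scheme.{u}} {G : EtCoh.Ab T} (hG : EtCoh.IsFiniteLocallyConstant G) (y : T) :
    ∃ (O : T.Opens) (m : ℕ), y ∈ O ∧ ∀ (Ω : Type u) [Field Ω] [IsSepClosed Ω] (η : Spec (CommRingCat.of Ω) ⟶ T),
      η (default : Spec (CommRingCat.of Ω)) ∈ O → Nat.card ((EtCoh.stalk η).obj G) = m := by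
  obtain ⟨U, u, M, iM, fM, σ, hu, hσ⟩ := (EtFLC.isFLC_iff G).1 hG y
  haveI : Etale U.hom := U.prop
  refine ⟨⟨Set.range U.hom, (Scheme.Hom.isOpenMap U.hom).isOpen_range⟩, Nat.card M, ⟨u, hu⟩, ?_⟩
  rintro Ω _ _ η ⟨w, hw⟩
  obtain ⟨x, -⟩ := Scheme.pointSmallEtaleFiberObjToPreimage_surjective η rfl U ⟨w, hw⟩
  exact (Nat.card_congr (Equiv.ofBijective _ (bijective_germ_of_isTriv σ hσ η x))).symm

variable [IsLocallyNoetherian X] (F : EtCoh.Ab X)

theorem isLocallyConstructible_card (hF : EtPBC.IsConstructible F) (n : ℕ) :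
    IsLocallyConstructible {x : X | ∃ (Ω : Type u) (_ : Field Ω) (_ : IsSepClosed Ω)
      (ξ : Spec (CommRingCat.of Ω) ⟶ X), Set.range ξ = {x} ∧ Nat.card ((EtCoh.stalk ξ).obj F) = n} := by
  intro x
  obtain ⟨U, hU, hxU, -⟩ := exists_affine_le (V := (⊤ : X.Opens)) (x := x) trivial
  haveI : IsAffine U.toScheme := hU
  haveI : IsLocallyNoetherian U.toScheme := LocallyOfFiniteType.isLocallyNoetherian U.ι
  haveI : IsNoetherian U.toScheme := {}
  haveI : NoetherianSpace (U : Set X) := (inferInstance : NoetherianSpace U.toScheme)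
  refine ⟨U, U.isOpen.mem_nhds hxU, U.isOpen, ?_⟩
  obtain ⟨m, T, g, hg, hc, hd, hun, hflc⟩ := hF U hU
  let E : Set X := {x : X | ∃ (Ω : Type u) (_ : Field Ω) (_ : IsSepClosed Ω)
      (ξ : Spec (CommRingCat.of Ω) ⟶ X), Set.range ξ = {x} ∧ Nat.card ((EtCoh.stalk ξ).obj F) = n}
  show IsConstructible ((Subtype.val : ↥(U : Set X) → X) ⁻¹' E)
  have hZ : ∀ i, IsOpen (g i ⁻¹' E) := by
    intro i
    haveI := hg i
    rw [isOpen_iff_forall_mem_open]
    intro y hy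
    obtain ⟨O, c, hyO, hO⟩ := exists_card_nhd (hflc i) y
    refine ⟨O, fun z hz => ?_, O.isOpen, hyO⟩
    obtain ⟨Ω', _, _, ξ', hξ', hn⟩ := hy
    have hξ'y : ξ' (default : Spec (CommRingCat.of Ω')) = g i y := by
      rw [range_point_eq] at hξ'; exact Set.singleton_eq_singleton_iff.1 hξ'
    obtain ⟨η', rfl, hη'⟩ := exists_point_lift (g i) ξ' y hξ'y
    obtain ⟨Ω, _, _, η, -, hη⟩ := EtStalk.covers_all (X := T i) z
    refine ⟨Ω, inferInstance, inferInstance, η ≫ g i, by rw [range_point_eq, Scheme.Hom.comp_apply, hη], ?_⟩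
    rw [← card_stalk_pull, hO Ω η (by rw [hη]; exact hz), ← hO Ω' η' (by rw [hη']; exact hyO), card_stalk_pull]
    exact hn
  have e : (Subtype.val : ↥(U : Set X) → X) ⁻¹' E = ⋃ i, Subtype.val ⁻¹' (g i '' (g i ⁻¹' E)) := by
    ext z
    constructor
    · intro hz
      obtain ⟨i, y, hy⟩ := Set.mem_iUnion.1 (hun.ge z.2)
      exact Set.mem_iUnion.2 ⟨i, y, (show g i y ∈ E by rw [hy]; exact hz), hy⟩
    · intro hz
      obtain ⟨i, y, hy, hyz⟩ := Set.mem_iUnion.1 hz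
      show z.1 ∈ E
      rw [← hyz]; exact hy
  rw [e]
  refine IsConstructible.iUnion fun i => isConstructible_of_lc ?_
  haveI := hg i
  obtain ⟨V, hVo, hV⟩ := (g i).isEmbedding.isInducing.isOpen_iff.1 (hZ i)
  rw [← hV, Set.image_preimage_eq_range_inter]
  exact ((g i).isLocallyClosed_range.inter hVo.isLocallyClosed).preimage continuous_subtype_val

variable (hfin : ∀ (Ω : Type u) [Field Ω] [IsSepClosed Ω] (ξ : Spec (CommRingCat.of Ω) ⟶ X), Finite ((EtCoh.stalk ξ).obj F))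
include hfin

/-- a finite stalk only depends on the image point, up to cardinality -/
theorem card_stalk_eq_of_eq {Ω Ω' : Type u} [Field Ω] [IsSepClosed Ω] [Field Ω'] [IsSepClosed Ω']
    (ξ : Spec (CommRingCat.of Ω) ⟶ X) (ξ' : Spec (CommRingCat.of Ω') ⟶ X)
    (h : ξ (default : Spec (CommRingCat.of Ω)) = ξ' (default : Spec (CommRingCat.of Ω'))) :
    Nat.card ((EtCoh.stalk ξ).obj F) = Nat.card ((EtCoh.stalk ξ').obj F) := by
  suffices H : ∀ (Ω Ω' : Type u) [Field Ω] [IsSepClosed Ω] [Field Ω'] [IsSepClosed Ω']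
      (ξ : Spec (CommRingCat.of Ω) ⟶ X) (ξ' : Spec (CommRingCat.of Ω') ⟶ X),
      ξ (default : Spec (CommRingCat.of Ω)) = ξ' (default : Spec (CommRingCat.of Ω')) →
      Nat.card ((EtCoh.stalk ξ).obj F) ≤ Nat.card ((EtCoh.stalk ξ').obj F) from
    le_antisymm (H Ω Ω' ξ ξ' h) (H Ω' Ω ξ' ξ h.symm)
  intro Ω Ω' _ _ _ _ ξ ξ' h
  obtain ⟨T, j, hj, t, hjt, ht, -⟩ := exists_closure_scheme (ξ (default : Spec (CommRingCat.of Ω)))
  haveI := hj
  haveI : IsLocallyNoetherian T := LocallyOfFiniteType.isLocallyNoetherian j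
  obtain ⟨η, hη, hηt⟩ := exists_point_lift j ξ t hjt.symm
  obtain ⟨η', hη', hηt'⟩ := exists_point_lift j ξ' t (h.symm.trans hjt.symm)
  subst hη hη'
  haveI := hfin Ω (η ≫ j); haveI := hfin Ω' (η' ≫ j)
  haveI := finite_stalk_pull j F η; haveI := finite_stalk_pull j F η'
  obtain ⟨U, u, M, iM, fM, σ, hu, hM, hsupp⟩ := exists_irr_germs ((EtCoh.pull j).obj F) ht η hηt
  obtain ⟨y, -⟩ := Scheme.pointSmallEtaleFiberObjToPreimage_surjective η' hηt' U ⟨u, hu⟩
  have : Nat.card M ≤ Nat.card ((EtCoh.stalk η').obj ((EtCoh.pull j).obj F)) :=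
    @Nat.card_le_card_of_injective M ((EtCoh.stalk η').obj ((EtCoh.pull j).obj F)) (finite_stalk_pull j F η') _
      (injective_germs ((EtCoh.pull j).obj F) η' σ hsupp y)
  rw [hM] at this
  rwa [card_stalk_pull, card_stalk_pull] at this

/-- constructibility from a bound on stalks near every point of its closure -/
theorem isConstructible_of_card_le
    (h : ∀ (x : X) (T : Scheme.{u}) (j : T ⟶ X) [IsImmersion j] (t : T), j t = x → (∀ y, t ⤳ y) →
      ∃ O : T.Opens, t ∈ O ∧ ∀ (Ω Ω' : Type u) [Field Ω] [IsSepClosed Ω] [Field Ω'] [IsSepClosed Ω']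
        (η : Spec (CommRingCat.of Ω) ⟶ T) (ζ : Spec (CommRingCat.of Ω') ⟶ T),
        η (default : Spec (CommRingCat.of Ω)) = t → ζ (default : Spec (CommRingCat.of Ω')) ∈ O →
        Nat.card ((EtCoh.stalk (ζ ≫ j)).obj F) ≤ Nat.card ((EtCoh.stalk (η ≫ j)).obj F)) :
    EtPBC.IsConstructible F := by
  rw [isConstructible_iff]
  intro x
  obtain ⟨T, j, hj, t, hjt, ht, -⟩ := exists_closure_scheme x
  haveI := hj
  haveI : IsLocallyNoetherian T := LocallyOfFiniteType.isLocallyNoetherian j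
  obtain ⟨O, htO, hO⟩ := h x T j t hjt ht
  obtain ⟨Ω, _, _, η, -, hη⟩ := EtStalk.covers_all (X := T) t
  obtain ⟨O', htO', hflc⟩ := exists_flc_open_of_card_le ((EtCoh.pull j).obj F) ht
    (fun Ω' _ _ ζ => by haveI := hfin Ω' (ζ ≫ j); exact finite_stalk_pull j F ζ) η hη O htO
    (fun Ω' _ _ ζ hζ => by rw [card_stalk_pull, card_stalk_pull]; exact hO Ω Ω' η ζ hη hζ)
  obtain ⟨e⟩ := nonempty_pull_pull O'.ι j (O'.ι ≫ j) rfl
  rw [← hjt]
  exact goodAt_of_open_stratum j htO' (isFLC_of_iso (e.app F) hflc)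

theorem isConstructible_of_spec_mono
    (hmono : ∀ (Ω Ω' : Type u) [Field Ω] [IsSepClosed Ω] [Field Ω'] [IsSepClosed Ω']
        (ξ : Spec (CommRingCat.of Ω) ⟶ X) (ξ' : Spec (CommRingCat.of Ω') ⟶ X)
        (φ : Scheme.pointSmallEtale ξ' ⟶ Scheme.pointSmallEtale ξ),
        Mono ((GrothendieckTopology.Point.Hom.sheafFiber (A := AddCommGrpCat.{u + 1}) φ).app F)) :
    EtPBC.IsConstructible F := by
  refine isConstructible_of_card_le F hfin fun x T j _ t hjt ht => ⟨⊤, trivial, ?_⟩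
  intro Ω Ω' _ _ _ _ η ζ hη _
  haveI := hfin Ω (η ≫ j)
  obtain ⟨φ⟩ := exists_specialization (ζ ≫ j) (η ≫ j) (by
    rw [Scheme.Hom.comp_apply, Scheme.Hom.comp_apply, hη]
    exact (ht _).map j.continuous)
  haveI := hmono Ω' Ω (ζ ≫ j) (η ≫ j) φ
  exact card_le_of_spec F (ζ ≫ j) (η ≫ j) φ

theorem isConstructible_of_card_loci
    (h : ∀ n : ℕ, IsLocallyConstructible {x : X | ∃ (Ω : Type u) (_ : Field Ω) (_ : IsSepClosed Ω)
      (ξ : Spec (CommRingCat.of Ω) ⟶ X), Set.range ξ = {x} ∧ Nat.card ((EtCoh.stalk ξ).obj F) = n}) :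
    EtPBC.IsConstructible F := by
  refine isConstructible_of_card_le F hfin fun x T j _ t hjt ht => ?_
  haveI : IsLocallyNoetherian T := LocallyOfFiniteType.isLocallyNoetherian j
  obtain ⟨Ω₀, _, _, η₀, -, hη₀⟩ := EtStalk.covers_all (X := T) t
  let N := Nat.card ((EtCoh.stalk (η₀ ≫ j)).obj F)
  obtain ⟨V, hV, hVo, hVc⟩ := h N x
  obtain ⟨D, hD, htD, hDV⟩ := exists_affine_le (V := (⟨j ⁻¹' V, hVo.preimage j.continuous⟩ : T.Opens)) (x := t)
    (show j t ∈ V by rw [hjt]; exact mem_of_mem_nhds hV)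
  haveI : IsAffine D.toScheme := hD
  haveI : IsLocallyNoetherian D.toScheme := LocallyOfFiniteType.isLocallyNoetherian D.ι
  haveI : IsNoetherian D.toScheme := {}
  haveI : NoetherianSpace (D : Set T) := (inferInstance : NoetherianSpace D.toScheme)
  let r : ↥(D : Set T) → ↥V := fun z => ⟨j z.1, hDV z.2⟩
  have hr : Continuous r := Continuous.subtype_mk (j.continuous.comp continuous_subtype_val) _
  have hC := hVc.preimage hr (fun s hs _ _ _ _ => NoetherianSpace.isCompact _)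
  obtain ⟨𝒪, hfin𝒪, hopen, hdet⟩ := exists_determining hC
  classical
  let W : Set ↥(D : Set T) := ⋂ s ∈ hfin𝒪.toFinset.filter (fun s => (⟨t, htD⟩ : ↥(D : Set T)) ∈ s), s
  have hW : IsOpen W := isOpen_biInter_finset fun s hs => (hopen s (hfin𝒪.mem_toFinset.1 (Finset.mem_filter.1 hs).1)).1
  have hmem : ∀ (Ω : Type u) [Field Ω] [IsSepClosed Ω] (ξ : Spec (CommRingCat.of Ω) ⟶ X) (z : ↥(D : Set T)),
      z ∈ W → ξ (default : Spec (CommRingCat.of Ω)) = j z.1 → Nat.card ((EtCoh.stalk ξ).obj F) = N := by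
    intro Ω _ _ ξ z hz hξ
    have hz' := hdet (⟨t, htD⟩ : ↥(D : Set T)) z (fun s hs => ⟨fun h => Set.mem_iInter₂.1 hz s
        (Finset.mem_filter.2 ⟨hfin𝒪.mem_toFinset.2 hs, h⟩), fun h =>
          (((IsInducing.subtypeVal.specializes_iff).1 (ht z.1) : (⟨t, htD⟩ : ↥(D : Set T)) ⤳ z)).mem_open (hopen s hs).1 h⟩)
      ⟨Ω₀, inferInstance, inferInstance, η₀ ≫ j, by
        rw [range_point_eq, Scheme.Hom.comp_apply, hη₀], rfl⟩
    obtain ⟨Ω', _, _, ξ', hξ', hn⟩ := hz'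
    rw [← hn]
    refine card_stalk_eq_of_eq F hfin ξ ξ' (hξ.trans ?_)
    rw [range_point_eq] at hξ'
    exact (Set.singleton_eq_singleton_iff.1 hξ').symm
  obtain ⟨O₀, hO₀, hWO⟩ := IsInducing.subtypeVal.isOpen_iff.1 hW
  refine ⟨⟨O₀ ∩ (D : Set T), hO₀.inter D.isOpen⟩, ⟨?_, htD⟩, ?_⟩
  · have : (⟨t, htD⟩ : ↥(D : Set T)) ∈ W := Set.mem_iInter₂.2 fun s hs => (Finset.mem_filter.1 hs).2
    rw [← hWO] at this
    exact this
  intro Ω Ω' _ _ _ _ η ζ hη hζ
  have h1 : (⟨ζ (default : Spec (CommRingCat.of Ω')), hζ.2⟩ : ↥(D : Set T)) ∈ W := by rw [← hWO]; exact hζ.1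
  have h2 : (⟨t, htD⟩ : ↥(D : Set T)) ∈ W := Set.mem_iInter₂.2 fun s hs => (Finset.mem_filter.1 hs).2
  rw [hmem Ω' (ζ ≫ j) _ h1 rfl, hmem Ω (η ≫ j) _ h2 (by rw [Scheme.Hom.comp_apply, hη])]

end Groth.Agent.EtCons
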