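import Groth.Agent.EtInvariance.Site
import Groth.Agent.EtInvariance.SchemeCase
import Groth.Agent.EtCons.PullFLC
import Groth.Agent.EtCons.ExtZeroConst
import Mathlib

/-! Finite local constancy descends along universal homeomorphisms and glues from clopen covers. -/

universe u

open CategoryTheory CategoryTheory.Limits AlgebraicGeometry Opposite

set_option backward.isDefEq.respectTransparency false

namespace Groth.Agent.EtCons

variable {X₀ X : Scheme.{u}}

theorem isFLC_of_pull_uh (i : X₀ ⟶ X) [IsIntegralHom i] [UniversallyInjective i] [Surjective i]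
    {F : EtCoh.Ab X} (h : EtCoh.IsFiniteLocallyConstant ((EtCoh.pull i).obj F)) :
    EtCoh.IsFiniteLocallyConstant F := by
  rw [isFLC_iff_local] at h ⊢
  intro x
  obtain ⟨x₀, hx₀⟩ := i.surjective x
  obtain ⟨W₀, g₀, hg₀, w₀, M, iM, fM, hw₀, ⟨e⟩⟩ := h x₀
  haveI := hg₀
  obtain ⟨W, a, c, ha, sq⟩ := EtInvariance.exists_descend_scheme i g₀
  haveI := ha
  haveI : IsIntegralHom c := MorphismProperty.of_isPullback sq ‹IsIntegralHom i›
  haveI : UniversallyInjective c := MorphismProperty.of_isPullback sq ‹UniversallyInjective i›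
  haveI : Surjective c := MorphismProperty.of_isPullback sq ‹Surjective i›
  haveI := EtInvariance.pull_isEquivalence c
  obtain ⟨e1⟩ := nonempty_pull_pull c a (c ≫ a) rfl
  obtain ⟨e2⟩ := nonempty_pull_pull g₀ i (c ≫ a) sq.w
  refine ⟨W, a, ha, c w₀, M, iM, fM, ?_, ⟨(EtCoh.pull c).preimageIso
    (e1.app F ≪≫ (e2.app F).symm ≪≫ e ≪≫ (pullConstM c M).symm)⟩⟩
  rw [← Scheme.Hom.comp_apply, ← sq.w, Scheme.Hom.comp_apply, hw₀, hx₀]

theorem isFLC_of_openCover {F : EtCoh.Ab X} {ι : Type*} (U : ι → X.Opens) (hU : ⨆ i, U i = ⊤)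
    (h : ∀ i, EtCoh.IsFiniteLocallyConstant ((EtCoh.pull (U i).ι).obj F)) :
    EtCoh.IsFiniteLocallyConstant F := by
  rw [isFLC_iff_local]
  intro x
  have hx : x ∈ ⨆ i, U i := by rw [hU]; trivial
  obtain ⟨i, hi⟩ := TopologicalSpace.Opens.mem_iSup.1 hx
  obtain ⟨W, g, hg, w, M, iM, fM, hw, ⟨e⟩⟩ := (isFLC_iff_local _).1 (h i) ⟨x, hi⟩
  haveI := hg
  obtain ⟨e1⟩ := nonempty_pull_pull g (U i).ι (g ≫ (U i).ι) rfl
  refine ⟨W, g ≫ (U i).ι, inferInstance, w, M, iM, fM, ?_, ⟨(e1.app F).symm ≪≫ e⟩⟩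
  rw [Scheme.Hom.comp_apply, hw]
  rfl

/-- finite local constancy glues from finitely many disjoint closed pieces covering the space -/
theorem isFLC_of_closed_partition {F : EtCoh.Ab X} {ι : Type*} [Finite ι] (P : ι → Scheme.{u})
    (g : ∀ i, P i ⟶ X) [∀ i, IsClosedImmersion (g i)]
    (hd : Pairwise fun i j => Disjoint (Set.range (g i)) (Set.range (g j)))
    (hcov : (⋃ i, Set.range (g i)) = Set.univ)
    (h : ∀ i, EtCoh.IsFiniteLocallyConstant ((EtCoh.pull (g i)).obj F)) :
    EtCoh.IsFiniteLocallyConstant F := by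
  have ho : ∀ i, IsOpen (Set.range (g i)) := by
    intro i
    have e : Set.range (g i) = (⋃ j : {j // j ≠ i}, Set.range (g j.1))ᶜ := by
      ext z
      simp only [Set.mem_compl_iff, Set.mem_iUnion, not_exists]
      refine ⟨fun hz j hj => Set.disjoint_left.1 (hd (Ne.symm j.2)) hz hj, fun hz => ?_⟩
      have : z ∈ ⋃ k, Set.range (g k) := by rw [hcov]; trivial
      obtain ⟨k, hk⟩ := Set.mem_iUnion.1 this
      by_cases hki : k = i
      · exact hki ▸ hk
      · exact (hz ⟨k, hki⟩ hk).elim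
    rw [e]
    exact (isClosed_iUnion_of_finite fun j : {j // j ≠ i} => (g j.1).isClosedEmbedding.isClosed_range).isOpen_compl
  refine isFLC_of_openCover (fun i => ⟨Set.range (g i), ho i⟩) ?_ fun i => ?_
  · apply TopologicalSpace.Opens.ext
    simpa using hcov
  · let O : X.Opens := ⟨Set.range (g i), ho i⟩
    let k : P i ⟶ O.toScheme := IsOpenImmersion.lift O.ι (g i) (by rw [Scheme.Opens.range_ι]; rfl)
    have hk : k ≫ O.ι = g i := IsOpenImmersion.lift_fac _ _ _
    haveI : IsClosedImmersion (k ≫ O.ι) := by rw [hk]; infer_instance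
    haveI : IsClosedImmersion k := IsClosedImmersion.of_comp k O.ι
    haveI : Surjective k := ⟨fun z => by
      obtain ⟨p, hp⟩ : z.1 ∈ Set.range (g i) := z.2
      refine ⟨p, O.ι.isOpenEmbedding.injective ?_⟩
      rw [← Scheme.Hom.comp_apply, hk]
      exact hp⟩
    obtain ⟨e⟩ := nonempty_pull_pull k O.ι (g i) hk
    exact isFLC_of_pull_uh k (isFLC_of_iso (e.app F).symm (h i))

end Groth.Agent.EtCons
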