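import Groth.Agent.EtCons.FinStratum
import Groth.Agent.EtCons.UHDescent
import Groth.Agent.EtCons.Basic
import Mathlib

/-! Finitely many strata become clopen over a stratum of the base. -/

universe u

open CategoryTheory CategoryTheory.Limits AlgebraicGeometry Topology

set_option backward.isDefEq.respectTransparency false

namespace Groth.Agent.EtCons

theorem isCompact_of_constructible {W : Scheme.{u}} [IsAffine W] {C : Set W} (hC : IsConstructible C) :
    IsCompact C := by
  obtain ⟨R, _, φ, hφ⟩ := PrimeSpectrum.exists_range_eq_of_isConstructible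
    (hC.preimage_of_isOpenEmbedding W.isoSpec.inv.isOpenEmbedding)
  have hc : IsCompact (W.isoSpec.inv ⁻¹' C) := hφ ▸ isCompact_range (PrimeSpectrum.continuous_comap φ)
  have h2 := hc.image W.isoSpec.inv.continuous
  rwa [Set.image_preimage_eq _ W.isoSpec.inv.surjective] at h2

/-- finitely many quasi-finite maps are finite over a common stratum through a point -/
theorem exists_common_stratum {Y : Scheme.{u}} {n : ℕ} (Q : Fin n → Scheme.{u}) (h : ∀ i, Q i ⟶ Y)
    [∀ i, QuasiSeparatedSpace (Q i)] [∀ i, LocallyQuasiFinite (h i)] [∀ i, LocallyOfFiniteType (h i)]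
    {D : Y.Opens} (hD : IsAffineOpen D) (hc : ∀ i, IsCompact (((h i) ⁻¹ᵁ D : (Q i).Opens) : Set (Q i)))
    {y : Y} (hy : y ∈ D) :
    ∃ (T : Scheme.{u}) (c : T ⟶ Y), IsImmersion c ∧ y ∈ Set.range c ∧ Set.range c ⊆ D ∧
      IsConstructible ((Subtype.val : ↥(D : Set Y) → Y) ⁻¹' Set.range c) ∧
      ∀ i, IsFinite (pullback.snd (h i) c) := by
  classical
  suffices H : ∀ s : Finset (Fin n), ∃ (T : Scheme.{u}) (c : T ⟶ Y), IsImmersion c ∧ y ∈ Set.range c ∧
      Set.range c ⊆ D ∧
      IsConstructible ((Subtype.val : ↥(D : Set Y) → Y) ⁻¹' Set.range c) ∧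
      ∀ i ∈ s, IsFinite (pullback.snd (h i) c) by
    obtain ⟨T, c, h1, h2, h0, h3, h4⟩ := H Finset.univ
    exact ⟨T, c, h1, h2, h0, h3, fun i => h4 i (Finset.mem_univ i)⟩
  intro s
  induction s using Finset.induction_on with
  | empty =>
    refine ⟨D, D.ι, inferInstance, ⟨⟨y, hy⟩, rfl⟩, by rw [Scheme.Opens.range_ι], ?_, by simp⟩
    rw [Scheme.Opens.range_ι, show (Subtype.val : ↥(D : Set Y) → Y) ⁻¹' (D : Set Y) = Set.univ from
      Set.eq_univ_of_forall fun z => z.2]
    exact IsConstructible.univ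
  | @insert a s _ ih =>
    obtain ⟨T, c, hc', hyc, hcD, hC, hfin⟩ := ih
    obtain ⟨T', c', hi', -, hfin', hyc', -, hC'⟩ := exists_finite_stratum (h a) hD (hc a) hy
    haveI := hc'; haveI := hi'
    have hr : Set.range (pullback.fst c c' ≫ c) = Set.range c ∩ Set.range c' := by
      ext z
      constructor
      · rintro ⟨p, rfl⟩
        refine ⟨⟨pullback.fst c c' p, rfl⟩, pullback.snd c c' p, ?_⟩
        rw [pullback.condition]
        rfl
      · rintro ⟨⟨p, hp⟩, ⟨q, hq⟩⟩
        obtain ⟨r, hr, -⟩ := Scheme.Pullback.exists_preimage_pullback p q (hp.trans hq.symm)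
        refine ⟨r, ?_⟩
        rw [Scheme.Hom.comp_apply, hr, hp]
    refine ⟨_, pullback.fst c c' ≫ c, inferInstance, by rw [hr]; exact ⟨hyc, hyc'⟩,
      by rw [hr]; exact Set.inter_subset_left.trans hcD, ?_, fun i hi => ?_⟩
    · rw [hr, Set.preimage_inter]; exact hC.inter hC'
    · rcases Finset.mem_insert.1 hi with rfl | hi
      · have e : pullback.fst c c' ≫ c = pullback.snd c c' ≫ c' := pullback.condition
        rw [e, ← pullbackLeftPullbackSndIso_inv_snd_snd (h i) c' (pullback.snd c c')]
        infer_instance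
      · haveI := hfin i hi
        rw [← pullbackLeftPullbackSndIso_inv_snd_snd (h i) c (pullback.fst c c')]
        infer_instance

end Groth.Agent.EtCons
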