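import Mathlib

/-! A quasi-finite slice of finite presentation through the fibre over a point. -/

universe u

open CategoryTheory CategoryTheory.Limits AlgebraicGeometry TopologicalSpace
open scoped TensorProduct

set_option backward.isDefEq.respectTransparency false

namespace Groth.Agent.EtCons

/-- finitely many functions cut out a single point of a non-empty fibre -/
theorem exists_cut_point {A B : Type u} [CommRing A] [CommRing B] [Algebra A B] [Algebra.FiniteType A B]
    (p : PrimeSpectrum A) (hne : (PrimeSpectrum.comap (algebraMap A B) ⁻¹' {p}).Nonempty) :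
    ∃ (q : PrimeSpectrum B) (s : Finset B), PrimeSpectrum.comap (algebraMap A B) q = p ∧ (s : Set B) ⊆ q.asIdeal ∧
      ∀ q', PrimeSpectrum.comap (algebraMap A B) q' = p → (s : Set B) ⊆ q'.asIdeal → q' = q := by
  classical
  let e := PrimeSpectrum.preimageHomeomorphFiber A B p
  let Fb := PrimeSpectrum.comap (algebraMap A B) ⁻¹' {p}
  haveI : IsNoetherianRing (p.asIdeal.Fiber B) := Algebra.FiniteType.isNoetherianRing p.asIdeal.ResidueField _
  haveI : NoetherianSpace Fb := e.isEmbedding.isInducing.noetherianSpace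
  haveI : Nonempty Fb := hne.to_subtype
  obtain ⟨x, -, hx⟩ := IsClosed.exists_closed_singleton (isClosed_univ (X := Fb)) Set.univ_nonempty
  have hK : IsCompact (({x} : Set Fb)ᶜ) := NoetherianSpace.isCompact _
  obtain ⟨C, hCo, hC⟩ := Topology.IsInducing.subtypeVal.isOpen_iff.1 hx.isOpen_compl
  have hcov : ∀ z : (({x} : Set Fb)ᶜ : Set Fb), ∃ g : B, g ∈ x.1.asIdeal ∧ g ∉ z.1.1.asIdeal := by
    intro z
    have hz : z.1.1 ∈ C := by
      have : z.1 ∈ Subtype.val ⁻¹' C := hC.symm ▸ z.2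
      exact this
    obtain ⟨_, ⟨g, rfl⟩, hzg, hgC⟩ :=
      PrimeSpectrum.isTopologicalBasis_basic_opens.exists_subset_of_mem_open hz hCo
    refine ⟨g, ?_, hzg⟩
    by_contra hg
    have : x ∈ Subtype.val ⁻¹' C := hgC hg
    rw [hC] at this
    exact this rfl
  choose g hgx hgz using hcov
  obtain ⟨t, ht⟩ := hK.elim_finite_subcover
    (fun z => (Subtype.val : Fb → PrimeSpectrum B) ⁻¹' (PrimeSpectrum.basicOpen (g z) : Set (PrimeSpectrum B)))
    (fun z => (PrimeSpectrum.basicOpen (g z)).isOpen.preimage continuous_subtype_val)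
    (fun z hz => Set.mem_iUnion.2 ⟨⟨z, hz⟩, hgz ⟨z, hz⟩⟩)
  refine ⟨x.1, t.image g, x.2, ?_, fun q' hq' hs => ?_⟩
  · rintro _ hb
    obtain ⟨z, -, rfl⟩ := Finset.mem_image.1 hb
    exact hgx z
  · by_contra hne'
    have hmem : (⟨q', hq'⟩ : Fb) ∈ (({x} : Set Fb)ᶜ) := fun h => hne' (congrArg Subtype.val h)
    obtain ⟨z, hzt, hz⟩ := Set.mem_iUnion₂.1 (ht hmem)
    exact hz (hs (Finset.mem_image_of_mem g hzt))

theorem exists_qf_slice {X Y : Scheme.{u}} (f : X ⟶ Y) [Surjective f] [LocallyOfFinitePresentation f] (y : Y)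
    {D : Y.Opens} (hD : IsAffineOpen D) (hy : y ∈ D) :
    ∃ (Z : Scheme.{u}) (h : Z ⟶ X) (z : Z), IsAffine Z ∧ f (h z) = y ∧ (∀ w, f (h w) ∈ D) ∧
      LocallyQuasiFinite (h ≫ f) ∧ LocallyOfFinitePresentation (h ≫ f) := by
  obtain ⟨x₀, hx₀⟩ := f.surjective y
  obtain ⟨U, hU, hxU, hUD⟩ := exists_isAffineOpen_mem_and_subset (X := X) (x := x₀) (U := f ⁻¹ᵁ D)
    (show f x₀ ∈ D by rw [hx₀]; exact hy)
  let A := Γ(Y, D)
  let B := Γ(X, U)
  letI : Algebra A B := (f.appLE D U hUD).hom.toAlgebra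
  haveI : Algebra.FinitePresentation A B := f.finitePresentation_appLE hD hU hUD
  let p : PrimeSpectrum A := hD.primeIdealOf ⟨y, hy⟩
  have hp : hD.fromSpec p = y := hD.fromSpec_primeIdealOf ⟨y, hy⟩
  have hsq : Spec.map (f.appLE D U hUD) ≫ hD.fromSpec = hU.fromSpec ≫ f :=
    IsAffineOpen.SpecMap_appLE_fromSpec f hD hU hUD
  have hne : (PrimeSpectrum.comap (algebraMap A B) ⁻¹' {p}).Nonempty := by
    refine ⟨hU.primeIdealOf ⟨x₀, hxU⟩, hD.fromSpec.isOpenEmbedding.injective ?_⟩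
    rw [hp]
    exact ((congr($hsq (hU.primeIdealOf ⟨x₀, hxU⟩))).trans (by
      rw [Scheme.Hom.comp_apply, hU.fromSpec_primeIdealOf]; exact hx₀))
  obtain ⟨q, s, hqp, hsq', huniq⟩ := exists_cut_point p hne
  let I : Ideal B := Ideal.span (s : Set B)
  haveI : Algebra.FinitePresentation A (B ⧸ I) := Algebra.FinitePresentation.quotient ⟨s, rfl⟩
  let ψ : CommRingCat.of A ⟶ CommRingCat.of (B ⧸ I) := CommRingCat.ofHom (algebraMap A (B ⧸ I))
  haveI : LocallyOfFinitePresentation (Spec.map ψ) :=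
    (HasRingHomProperty.Spec_iff (P := @LocallyOfFinitePresentation)).2
      (RingHom.finitePresentation_algebraMap.2 inferInstance)
  let π : Spec (CommRingCat.of (B ⧸ I)) ⟶ Spec (CommRingCat.of B) := Spec.map (CommRingCat.ofHom (Ideal.Quotient.mk I))
  have hπ : π ≫ Spec.map (f.appLE D U hUD) = Spec.map ψ := by
    rw [← Spec.map_comp]; rfl
  have hIq : I ≤ q.asIdeal := Ideal.span_le.2 hsq'
  obtain ⟨r, hr⟩ : q ∈ Set.range (PrimeSpectrum.comap (Ideal.Quotient.mk I)) := by
    rw [range_comap_of_surjective _ _ Ideal.Quotient.mk_surjective, Ideal.mk_ker]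
    exact hIq
  have hrp : Spec.map ψ r = p := by
    rw [← hπ, Scheme.Hom.comp_apply]
    exact (congrArg _ hr).trans hqp
  have hqf : (Spec.map ψ).QuasiFiniteAt r := by
    rw [Scheme.Hom.quasiFiniteAt_iff_isOpen_singleton_asFiber]
    haveI : Subsingleton ↥((Spec.map ψ).fiber (Spec.map ψ r)) := by
      refine ⟨fun a b => ?_⟩
      have key : ∀ c : (Spec.map ψ) ⁻¹' {Spec.map ψ r}, c.1 = r := by
        intro c
        apply PrimeSpectrum.comap_injective_of_surjective _ Ideal.Quotient.mk_surjective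
        rw [hr]
        refine huniq _ ?_ ?_
        · have h1 : Spec.map ψ c.1 = p := c.2.trans hrp
          exact (congr($hπ c.1)).trans h1
        · intro g hg
          show Ideal.Quotient.mk I g ∈ c.1.asIdeal
          rw [Ideal.Quotient.eq_zero_iff_mem.2 (Ideal.subset_span hg)]
          exact zero_mem _
      apply ((Spec.map ψ).fiberHomeo _).injective
      exact Subtype.ext ((key _).trans (key _).symm)
    exact isOpen_discrete _
  obtain ⟨O, hO, hrO, hOl⟩ := exists_isAffineOpen_mem_and_subset (x := r) (U := (Spec.map ψ).quasiFiniteLocus) hqf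
  haveI : IsAffine O.toScheme := hO
  have e : (O.ι ≫ π ≫ hU.fromSpec) ≫ f = (O.ι ≫ Spec.map ψ) ≫ hD.fromSpec := by
    rw [Category.assoc, Category.assoc, ← hsq, ← hπ]; simp
  haveI : LocallyQuasiFinite (O.ι ≫ Spec.map ψ) := by
    rw [← Scheme.Hom.quasiFiniteLocus_eq_top_iff, Scheme.Hom.quasiFiniteLocus_comp, eq_top_iff]
    exact fun w _ => hOl w.2
  refine ⟨O, O.ι ≫ π ≫ hU.fromSpec, ⟨r, hrO⟩, inferInstance, ?_, fun w => ?_, ?_, ?_⟩
  · rw [← Scheme.Hom.comp_apply, e]
    show hD.fromSpec (Spec.map ψ r) = y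
    rw [hrp, hp]
  · show f _ ∈ (D : Set Y)
    rw [← Scheme.Hom.comp_apply, e, ← hD.range_fromSpec]
    exact ⟨_, rfl⟩
  · rw [e]; infer_instance
  · rw [e]; infer_instance

end Groth.Agent.EtCons
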