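import Groth.Agent.EtCons.PushFinite
import Groth.Agent.EtCons.QFSlice
import Mathlib

/-! Descent of constructibility along surjective morphisms locally of finite presentation. -/

universe u

open CategoryTheory CategoryTheory.Limits AlgebraicGeometry Topology

set_option backward.isDefEq.respectTransparency false

namespace Groth.Agent.EtCons

theorem goodAt_of_iso {X : Scheme.{u}} {F G : EtCoh.Ab X} (e : F ≅ G) {x : X} (h : GoodAt F x) : GoodAt G x := by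
  obtain ⟨U, hU, hxU, T, g, C, hg, hC, hx, hCg, hF⟩ := h
  exact ⟨U, hU, hxU, T, g, C, hg, hC, hx, hCg, isFLC_of_iso ((EtCoh.pull g).mapIso e) hF⟩

/-- goodness passes from a constructible stratum of an affine open to the whole scheme -/
theorem goodAt_of_stratum {Y T : Scheme.{u}} {D : Y.Opens} (hD : IsAffineOpen D) (c : T ⟶ Y) [IsImmersion c]
    (hcD : Set.range c ⊆ D) (hC : IsConstructible ((Subtype.val : ↥(D : Set Y) → Y) ⁻¹' Set.range c))
    {F : EtCoh.Ab Y} {t : T} (h : GoodAt ((EtCoh.pull c).obj F) t) : GoodAt F (c t) := by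
  haveI : IsAffine D.toScheme := hD
  let i : T ⟶ D.toScheme := IsOpenImmersion.lift D.ι c (by rw [Scheme.Opens.range_ι]; exact hcD)
  have hi : i ≫ D.ι = c := IsOpenImmersion.lift_fac _ _ _
  haveI : IsImmersion (i ≫ D.ι) := by rw [hi]; infer_instance
  haveI : IsImmersion i := IsImmersion.of_comp _ D.ι
  have hr : Set.range i = (Subtype.val : ↥(D : Set Y) → Y) ⁻¹' Set.range c := by
    ext z
    constructor
    · rintro ⟨w, rfl⟩; exact ⟨w, (congr($hi w)).symm⟩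
    · rintro ⟨w, hw⟩
      exact ⟨w, Subtype.ext ((congr($hi w)).trans hw)⟩
  obtain ⟨e⟩ := nonempty_pull_pull i D.ι c hi
  have h2 := goodAt_of_immersion (X := D.toScheme) i (hr ▸ hC) (F := (EtCoh.pull D.ι).obj F)
    (goodAt_of_iso (e.app F).symm h)
  have h3 := goodAt_of_openImmersion D.ι h2
  rwa [← Scheme.Hom.comp_apply, hi] at h3

theorem isConstructible_of_pull {X Y : Scheme.{u}} (f : X ⟶ Y) [Surjective f] [LocallyOfFinitePresentation f]
    {F : EtCoh.Ab Y} (hF : EtPBC.IsConstructible ((EtCoh.pull f).obj F)) : EtPBC.IsConstructible F := by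
  rw [isConstructible_iff]
  intro y
  obtain ⟨D, hD, hyD, -⟩ := exists_affine_le (V := (⊤ : Y.Opens)) (x := y) trivial
  obtain ⟨Z, h, z, hZ, hzy, hhD, hqf, hfp⟩ := exists_qf_slice f y hD hyD
  haveI := hZ; haveI := hqf; haveI := hfp
  have hcpt : IsCompact (((h ≫ f) ⁻¹ᵁ D : Z.Opens) : Set Z) := by
    rw [show (((h ≫ f) ⁻¹ᵁ D : Z.Opens) : Set Z) = Set.univ from Set.eq_univ_of_forall fun w => hhD w]
    exact isCompact_univ
  obtain ⟨T₁, c₁, hc₁, hT₁, hfin, hyc₁, hc₁D, hC₁⟩ := exists_finite_stratum (h ≫ f) hD hcpt hyD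
  haveI := hc₁; haveI := hfin
  let π := pullback.snd (h ≫ f) c₁
  let q := pullback.fst (h ≫ f) c₁ ≫ h
  have hq : q ≫ f = π ≫ c₁ := by rw [Category.assoc]; exact pullback.condition
  have hG : EtPBC.IsConstructible ((EtCoh.pull q).obj ((EtCoh.pull f).obj F)) := isConstructible_pull q hF
  obtain ⟨y₁, hy₁⟩ := hyc₁
  have hyπ : y₁ ∈ Set.range π := by
    obtain ⟨w, -, hw⟩ := Scheme.Pullback.exists_preimage_pullback (f := h ≫ f) (g := c₁) z y₁ (hzy.trans hy₁.symm)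
    exact ⟨w, hw⟩
  obtain ⟨D₁, T₂, c₂, hD₁, hc₂, hyD₁, hyc₂, hC₂, hflc⟩ := exists_flc_stratum π hG y₁
  haveI := hc₂
  obtain ⟨T, cT, j, W, r, AW, LW, g', φW, πW, hcT, hj, hy, hC, hre, hrs, hφf, hUI, hS, hπf, hπe, hπs, sq⟩ :=
    exists_split_stratum π hD₁ hyD₁ c₂ hyc₂ hC₂
  haveI := hcT; haveI := hre; haveI := hrs; haveI := hφf; haveI := hUI; haveI := hS; haveI := hπe
  haveI := hπs hyπ
  rw [← hy₁]
  refine goodAt_of_stratum hD c₁ hc₁D hC₁ ?_
  refine ⟨D₁, hD₁, hyD₁, T, cT, _, hcT, hC, ⟨hyD₁, hy⟩, Set.image_preimage_subset _ _, ?_⟩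
  refine isFLC_of_pull_etale r (isFLC_of_pull_etale πW (isFLC_of_pull_uh φW ?_))
  let l : AW ⟶ pullback π c₂ := pullback.lift g' ((φW ≫ πW) ≫ r ≫ j) (sq.w.trans (by simp only [Category.assoc, hj]))
  have hl : l ≫ pullback.fst π c₂ = g' := pullback.lift_fst _ _ _
  let m := l ≫ pullback.fst π c₂
  have hm : m ≫ q ≫ f = φW ≫ πW ≫ r ≫ cT ≫ c₁ := by
    rw [hq]
    simp only [m, hl, reassoc_of% sq.w, Category.assoc]
  obtain ⟨e1⟩ := nonempty_pull_pull l (pullback.fst π c₂) m rfl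
  obtain ⟨e2⟩ := nonempty_pull_pull q f (q ≫ f) rfl
  obtain ⟨e3⟩ := nonempty_pull_pull m (q ≫ f) (φW ≫ πW ≫ r ≫ cT ≫ c₁) hm
  obtain ⟨e4⟩ := nonempty_pull_pull cT c₁ (cT ≫ c₁) rfl
  obtain ⟨e5⟩ := nonempty_pull_pull r (cT ≫ c₁) (r ≫ cT ≫ c₁) rfl
  obtain ⟨e6⟩ := nonempty_pull_pull πW (r ≫ cT ≫ c₁) (πW ≫ r ≫ cT ≫ c₁) rfl
  obtain ⟨e7⟩ := nonempty_pull_pull φW (πW ≫ r ≫ cT ≫ c₁) (φW ≫ πW ≫ r ≫ cT ≫ c₁) rfl
  refine isFLC_of_iso ?_ (isFLC_pull l hflc)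
  exact e1.app _ ≪≫ (EtCoh.pull m).mapIso (e2.app F) ≪≫ e3.app F ≪≫ (e7.app F).symm ≪≫
    (EtCoh.pull φW).mapIso ((e6.app F).symm ≪≫ (EtCoh.pull πW).mapIso ((e5.app F).symm ≪≫
      (EtCoh.pull r).mapIso (e4.app F).symm))

end Groth.Agent.EtCons
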