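import Groth.Agent.EtPBC.RatDim
import Groth.Agent.EtPBC.TopShriek
import Groth.Agent.EtCons.Basic
import Groth.Agent.EtConsShriek.Main
import Mathlib

/-!
# Constructible sheaves are filtered by extensions by zero of finite locally constant sheaves
-/

set_option autoImplicit false
set_option backward.isDefEq.respectTransparency false
set_option backward.isDefEq.respectTransparency.types false
set_option linter.auxLemma false
set_option linter.style.haveILetI false
set_option linter.unusedSectionVars false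
set_option maxHeartbeats 1000000

universe u

open CategoryTheory CategoryTheory.Limits AlgebraicGeometry Opposite TopologicalSpace
open Groth.Agent.EtPBC (ZeroAt zeroAt_of_mono zeroAt_of_epi isZero_of_zeroAt zeroAt_pull)

noncomputable section

namespace Groth.Agent.EtCons.FlcFiltration

variable {X : Scheme.{u}}

/-- an increasing chain of opens with constant membership in given constructible sets on each step -/
theorem exists_chain [CompactSpace X] [QuasiSeparatedSpace X] {n : ℕ} (C : Fin n → Set X)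
    (hC : ∀ i, Topology.IsConstructible (C i)) :
    ∃ (N : ℕ) (U : ℕ → X.Opens), U 0 = ⊥ ∧ U N = ⊤ ∧ Monotone U ∧
      (∀ k, Topology.IsConstructible (U k : Set X)) ∧
      ∀ k x y, x ∈ (U (k + 1) : Set X) \ U k → y ∈ (U (k + 1) : Set X) \ U k → ∀ i, x ∈ C i → y ∈ C i := by
  classical
  choose O hO hOp hdet using fun i => exists_determining (hC i)
  let 𝒪 : Set (Set X) := ⋃ i, O i
  haveI : Fintype 𝒪 := (Set.finite_iUnion hO).fintype
  have hp : ∀ s : 𝒪, IsOpen (s : Set X) ∧ IsRetrocompact (s : Set X) := fun s => by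
    obtain ⟨i, hi⟩ := Set.mem_iUnion.1 s.2
    exact hOp i _ hi
  let pat : X → Finset 𝒪 := fun x => Finset.univ.filter fun s => x ∈ (s : Set X)
  let M := Fintype.card (Finset 𝒪)
  let e := Fintype.equivFin (Finset 𝒪)
  let r : Finset 𝒪 → ℕ := fun J => (Fintype.card 𝒪 - J.card) * M + e J
  have hr : ∀ J J', J ⊆ J' → r J' ≤ r J := fun J J' h => by
    by_cases hJ : J = J'
    · rw [hJ]
    have h1 : J.card < J'.card := Finset.card_lt_card (Finset.ssubset_iff_subset_ne.2 ⟨h, hJ⟩)
    have h2 : J'.card ≤ Fintype.card 𝒪 := Finset.card_le_univ _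
    have h3 : (Fintype.card 𝒪 - J'.card + 1) * M ≤ (Fintype.card 𝒪 - J.card) * M :=
      Nat.mul_le_mul_right M (by omega)
    have h4 : (e J' : ℕ) < M := (e J').2
    simp only [r]
    rw [add_mul, one_mul] at h3
    omega
  have hinj : Function.Injective r := fun J J' h => by
    have h1 : r J % M = r J' % M := by rw [h]
    simp only [r, Nat.mul_add_mod', Nat.mod_eq_of_lt (e J).2, Nat.mod_eq_of_lt (e J').2, M] at h1
    exact e.injective (Fin.ext h1)
  let A : ℕ → Set X := fun k => ⋃ J ∈ Finset.univ.filter (fun J => r J < k), ⋂ s ∈ J, (s : Set X)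
  have hA : ∀ k x, x ∈ A k ↔ r (pat x) < k := fun k x => by
    simp only [A, Set.mem_iUnion, Finset.mem_filter, Finset.mem_univ, true_and, Set.mem_iInter]
    refine ⟨fun ⟨J, hJ, hx⟩ => lt_of_le_of_lt (hr J _ fun s hs => by simp [pat, hx s hs]) hJ,
      fun h => ⟨pat x, h, fun s hs => (Finset.mem_filter.1 hs).2⟩⟩
  have hAo : ∀ k, IsOpen (A k) := fun k =>
    isOpen_biUnion fun J _ => isOpen_biInter_finset fun s _ => (hp s).1
  refine ⟨(Fintype.card 𝒪 + 1) * M, fun k => ⟨A k, hAo k⟩, Opens.ext ?_, Opens.ext ?_, fun k l h x hx => ?_,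
    fun k => Topology.IsConstructible.biUnion (Finset.finite_toSet _) fun J _ =>
      Topology.IsConstructible.biInter J.finite_toSet fun s _ => (hp s).2.isConstructible (hp s).1,
    fun k x y hx hy i hxi => ?_⟩
  · exact Set.eq_empty_of_forall_notMem fun x hx => Nat.not_lt_zero _ ((hA 0 x).1 hx)
  · refine Set.eq_univ_of_forall fun x => (hA _ x).2 ?_
    have h4 : (e (pat x) : ℕ) < M := (e (pat x)).2
    have h3 : (Fintype.card 𝒪 - (pat x).card) * M ≤ Fintype.card 𝒪 * M := Nat.mul_le_mul_right M (by omega)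
    simp only [r]
    rw [add_mul, one_mul]
    omega
  · exact (hA l x).2 (lt_of_lt_of_le ((hA k x).1 hx) h)
  · have hx1 := (hA (k + 1) x).1 hx.1
    have hx2 := not_lt.1 (mt (hA k x).2 hx.2)
    have hy1 := (hA (k + 1) y).1 hy.1
    have hy2 := not_lt.1 (mt (hA k y).2 hy.2)
    have hpat : pat x = pat y := hinj (by omega)
    refine hdet i x y (fun s hs => ?_) hxi
    simpa [pat] using Finset.ext_iff.1 hpat ⟨s, Set.mem_iUnion.2 ⟨i, hs⟩⟩

variable (F : EtCoh.Ab X)

/-- the subsheaf supported on an open -/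
def sub (U : X.Opens) : EtCoh.Ab X := (EtShriek.extZero U.ι).obj ((EtShriek.restrAlong U.ι).obj F)

/-- its inclusion -/
def subι (U : X.Opens) : sub F U ⟶ F := (EtShriek.extZeroAdj U.ι).counit.app F

instance (U : X.Opens) : Mono (subι F U) := EtPBC.mono_counit U.ι F

theorem zeroAt_sub (U : X.Opens) {x : X} (hx : x ∉ U) : ZeroAt (sub F U) x :=
  EtPBC.Lam.zeroAt_extZero U.ι _ (by rw [Scheme.Opens.range_ι]; exact hx)

theorem zeroAt_cokernel_sub (U : X.Opens) {x : X} (hx : x ∈ U) : ZeroAt (cokernel (subι F U)) x :=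
  EtPBC.zeroAt_cokernel_counit U.ι F (by rw [Scheme.Opens.range_ι]; exact hx)

theorem exists_trans {U V : X.Opens} (h : U ≤ V) : ∃ t : sub F U ⟶ sub F V, t ≫ subι F V = subι F U := by
  have h0 : subι F U ≫ cokernel.π (subι F V) = 0 := by
    apply ((EtShriek.extZeroAdj U.ι).homEquiv _ _).injective
    refine IsZero.eq_of_tgt ?_ _ _
    exact (isZero_of_zeroAt _ fun z => zeroAt_pull U.ι _ z (zeroAt_cokernel_sub F V (h z.2))).of_iso
      ((EtPushStalk.restrPullIso U.ι).app _)
  exact ⟨Abelian.monoLift (subι F V) (subι F U) h0, Abelian.monoLift_comp _ _ h0⟩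

theorem zeroAt_cokernel_trans {U V : X.Opens} (t : sub F U ⟶ sub F V) (ht : t ≫ subι F V = subι F U) {x : X}
    (hx : x ∈ U) : ZeroAt (cokernel t) x := by
  haveI : Mono (cokernel.map t (subι F U) (𝟙 _) (subι F V) (by rw [Category.id_comp]; exact ht)) := by
    refine Preadditive.mono_of_cancel_zero _ fun {G} g hg => ?_
    obtain ⟨G', p, hp, g', hg'⟩ := (epi_iff_surjective_up_to_refinements (cokernel.π t)).1 inferInstance g
    have h1 : (g' ≫ subι F V) ≫ cokernel.π (subι F U) = 0 := by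
      rw [Category.assoc, ← cokernel.π_desc t (subι F V ≫ cokernel.π (subι F U))
        (by rw [reassoc_of% ht, cokernel.condition]), ← reassoc_of% hg']
      exact (congrArg (p ≫ ·) hg).trans comp_zero
    obtain ⟨G'', p', hp', b, hb⟩ := (ShortComplex.exact_iff_exact_up_to_refinements _).1
      (ShortComplex.exact_of_g_is_cokernel (ShortComplex.mk (subι F U) (cokernel.π _) (cokernel.condition _))
        (cokernelIsCokernel _)) (g' ≫ subι F V) h1
    have hb' : p' ≫ g' = b ≫ t := by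
      rw [← cancel_mono (subι F V), Category.assoc, Category.assoc, ht]
      exact hb
    rw [← cancel_epi p, ← cancel_epi p', comp_zero, comp_zero, hg', reassoc_of% hb', cokernel.condition]
    exact comp_zero
  exact zeroAt_of_mono (cokernel.map t (subι F U) (𝟙 _) (subι F V) _)
    (zeroAt_cokernel_sub F U hx)

/-- **one step of the filtration** -/
theorem exists_step {U V : X.Opens} (t : sub F U ⟶ sub F V) (ht : t ≫ subι F V = subι F U) :
    ∃ (W : Scheme.{u}) (c : W ⟶ V) (_ : IsClosedImmersion c)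
      (π : sub F V ⟶ (EtShriek.extZero V.ι).obj ((EtCoh.push c).obj ((EtCoh.pull (c ≫ V.ι)).obj F)))
      (hz : t ≫ π = 0), IsReduced W ∧ Set.range (c ≫ V.ι) = (V : Set X) \ U ∧
        (ShortComplex.mk t π hz).ShortExact := by
  haveI : Mono t := mono_of_mono_fac ht
  let Z : Closeds (V : Scheme.{u}) := (V.ι ⁻¹ᵁ U).compl
  let c := (Scheme.IdealSheafData.vanishingIdeal Z).subschemeι
  have hrc : Set.range c = (Z : Set (V : Scheme.{u})) := by
    rw [Scheme.IdealSheafData.range_subschemeι, Scheme.IdealSheafData.coe_support_vanishingIdeal]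
  have hcU : ∀ w, (c ≫ V.ι) w ∉ U := fun w hw => (hrc.subset ⟨w, rfl⟩ : c w ∈ (Z : Set (V : Scheme.{u}))) hw
  let Q := cokernel t
  haveI := EtPullExact.pull_preservesFiniteLimits (c ≫ V.ι)
  haveI : (EtCoh.pull (c ≫ V.ι)).IsLeftAdjoint := (EtCoh.pullPushAdj _).isLeftAdjoint
  haveI : (EtCoh.pull (c ≫ V.ι)).PreservesZeroMorphisms := inferInstance
  haveI : IsIso ((EtCoh.pull (c ≫ V.ι)).map (cokernel.π t)) := by
    haveI : Mono ((EtCoh.pull (c ≫ V.ι)).map (cokernel.π t)) :=
      ((ShortComplex.exact_of_g_is_cokernel (ShortComplex.mk t (cokernel.π t) (cokernel.condition t))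
        (cokernelIsCokernel _)).map (EtCoh.pull (c ≫ V.ι))).mono_g
        ((isZero_of_zeroAt _ fun w => zeroAt_pull (c ≫ V.ι) _ w (zeroAt_sub F U (hcU w))).eq_of_src _ _)
    exact isIso_of_mono_of_epi _
  haveI : IsIso ((EtCoh.pull (c ≫ V.ι)).map (subι F V)) := by
    haveI : Epi ((EtCoh.pull (c ≫ V.ι)).map (subι F V)) :=
      ((ShortComplex.exact_of_g_is_cokernel (ShortComplex.mk (subι F V) (cokernel.π _) (cokernel.condition _))
        (cokernelIsCokernel _)).map (EtCoh.pull (c ≫ V.ι))).epi_f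
        ((isZero_of_zeroAt _ fun w => zeroAt_pull (c ≫ V.ι) _ w (zeroAt_cokernel_sub F V (c w).2)).eq_of_tgt _ _)
    exact isIso_of_mono_of_epi _
  haveI : IsIso ((EtShriek.extZeroAdj V.ι).counit.app Q) := by
    haveI := EtPBC.mono_counit V.ι Q
    haveI : Epi ((EtShriek.extZeroAdj V.ι).counit.app Q) := Preadditive.epi_of_isZero_cokernel _
      (isZero_of_zeroAt _ fun x => by
        by_cases hx : x ∈ V
        · exact EtPBC.zeroAt_cokernel_counit V.ι Q (by rw [Scheme.Opens.range_ι]; exact hx)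
        · exact zeroAt_of_epi (cokernel.π _) (zeroAt_of_epi (cokernel.π t) (zeroAt_sub F V hx)))
    exact isIso_of_mono_of_epi _
  haveI := EtPBC.RatDim.isIso_unit_closedImmersion c ((EtCoh.pull V.ι).obj Q) fun v hv =>
    zeroAt_pull V.ι _ v (zeroAt_cokernel_trans F t ht (by_contra fun hU => hv (hrc.ge hU)))
  let eG : (EtCoh.pull c).obj ((EtCoh.pull V.ι).obj Q) ≅ (EtCoh.pull (c ≫ V.ι)).obj F :=
    (EtCore.pullComp c V.ι).symm.app Q ≪≫ (asIso ((EtCoh.pull (c ≫ V.ι)).map (cokernel.π t))).symm ≪≫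
      asIso ((EtCoh.pull (c ≫ V.ι)).map (subι F V))
  let e : Q ≅ (EtShriek.extZero V.ι).obj ((EtCoh.push c).obj ((EtCoh.pull (c ≫ V.ι)).obj F)) :=
    (asIso ((EtShriek.extZeroAdj V.ι).counit.app Q)).symm ≪≫
      (EtShriek.extZero V.ι).mapIso ((EtPushStalk.restrPullIso V.ι).app Q ≪≫
        asIso ((EtCoh.pullPushAdj c).unit.app ((EtCoh.pull V.ι).obj Q)) ≪≫ (EtCoh.push c).mapIso eG)
  refine ⟨_, c, inferInstance, cokernel.π t ≫ e.hom, by rw [← Category.assoc, cokernel.condition, zero_comp],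
    DvrDom.isReduced_vanishingIdeal_subscheme Z, ?_, ?_⟩
  · rw [Scheme.Hom.comp_base, TopCat.coe_comp, Set.range_comp, hrc]
    ext x
    exact ⟨fun ⟨v, hv, hvx⟩ => hvx ▸ ⟨v.2, hv⟩, fun ⟨hV, hU⟩ => ⟨⟨x, hV⟩, hU, rfl⟩⟩
  · refine ShortComplex.shortExact_of_iso ?_
      ({ exact := ShortComplex.exact_of_g_is_cokernel _ (cokernelIsCokernel t) } :
        (ShortComplex.mk t (cokernel.π t) (cokernel.condition t)).ShortExact)
    exact ShortComplex.isoMk (Iso.refl _) (Iso.refl _) e (by simp) (by simp)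

/-- **the filtration** -/
theorem exists_filtration [CompactSpace X] [QuasiSeparatedSpace X] (hF : EtPBC.IsConstructible F) :
    ∃ (n : ℕ) (E : Fin (n + 1) → EtCoh.Ab X) (ι : ∀ k : Fin n, E k.castSucc ⟶ E k.succ),
      IsZero (E 0) ∧ Nonempty (E (Fin.last n) ≅ F) ∧
      ∀ k : Fin n, ∃ (U W : Scheme.{u}) (j : U ⟶ X) (_ : IsOpenImmersion j) (c : W ⟶ U)
        (_ : IsClosedImmersion c) (G : EtCoh.Ab W)
        (π : E k.succ ⟶ (EtShriek.extZero j).obj ((EtCoh.push c).obj G)) (hz : ι k ≫ π = 0),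
        Topology.IsConstructible (Set.range (c ≫ j)) ∧ EtCoh.IsFiniteLocallyConstant G ∧
        (ShortComplex.mk (ι k) π hz).ShortExact := by
  obtain ⟨m, T, g, hg, hgc, -, hgU, hflc⟩ := (isConstructible_iff_adapted F).1 hF
  haveI := hg
  rcases isEmpty_or_nonempty X with hX | hX
  · exact ⟨0, fun _ => F, fun k => k.elim0, isZero_of_zeroAt F fun x => isEmptyElim x, ⟨Iso.refl _⟩, fun k => k.elim0⟩
  obtain ⟨i₀, -⟩ := Set.mem_iUnion.1 (hgU.ge (Set.mem_univ hX.some))
  obtain ⟨N, U, h0, hN, hmono, hcons, hdet⟩ := exists_chain (fun i => Set.range (g i)) fun i => by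
    have h1 := Topology.IsConstructible.preimage_of_isOpenEmbedding
      (f := fun x : X => (⟨x, trivial⟩ : (Set.univ : Set X))) (Homeomorph.Set.univ X).symm.isOpenEmbedding (hgc i)
    exact h1
  choose t ht using fun k : ℕ => exists_trans F (hmono (Nat.le_succ k))
  refine ⟨N, fun k => sub F (U k), fun k => t k, isZero_of_zeroAt _ fun x => zeroAt_sub F _ (by
    rw [Fin.val_zero, h0]; exact id), ?_, fun k => ?_⟩
  · haveI : Epi (subι F (U N)) := Preadditive.epi_of_isZero_cokernel _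
      (isZero_of_zeroAt _ fun x => zeroAt_cokernel_sub F _ (by rw [hN]; trivial))
    haveI := isIso_of_mono_of_epi (subι F (U N))
    exact ⟨asIso (subι F (U N))⟩
  obtain ⟨W, c, hc, π, hz, hW, hrange, hse⟩ := exists_step F (t k) (ht k)
  haveI := hc
  refine ⟨_, W, (U (k + 1)).ι, inferInstance, c, hc, (EtCoh.pull (c ≫ (U (k + 1)).ι)).obj F, π, hz, ?_, ?_, hse⟩
  · rw [hrange]
    exact (hcons _).sdiff (hcons _)
  · obtain ⟨i, hi⟩ : ∃ i, Set.range (c ≫ (U (k + 1)).ι) ⊆ Set.range (g i) := by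
      rcases Set.eq_empty_or_nonempty (Set.range (c ≫ (U (k + 1)).ι)) with h | ⟨x, hx⟩
      · exact ⟨i₀, h ▸ Set.empty_subset _⟩
      obtain ⟨i, hi⟩ := Set.mem_iUnion.1 (hgU.ge (Set.mem_univ x))
      exact ⟨i, fun y hy => hdet k x y (hrange.subset hx) (hrange.subset hy) i hi⟩
    haveI := hW
    obtain ⟨b, hb⟩ := EtConsShriek.exists_factor (c ≫ (U (k + 1)).ι) (g i) hi
    obtain ⟨e⟩ := nonempty_pull_pull b (g i) _ hb
    exact isFLC_of_iso (e.app F) (isFLC_pull b (hflc i))

end Groth.Agent.EtCons.FlcFiltration
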