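import Groth.Agent.EtCons.Generic
import Groth.Agent.EtPushStalk.Unit
import Groth.Agent.EtStalk.Sheaf
import Mathlib

/-! Triviality of a sheaf with finite stalks near a generic point when stalks do not grow. -/

universe u

open CategoryTheory CategoryTheory.Limits AlgebraicGeometry Opposite Topology TopologicalSpace

set_option backward.isDefEq.respectTransparency false
set_option backward.isDefEq.respectTransparency.types false

noncomputable section

namespace Groth.Agent.EtCons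

/-- Restriction of sections. -/
local notation "rs" => Groth.Agent.EtFLC.res

variable {X : Scheme.{u}} (F : EtCoh.Ab X) {Ω : Type u} [Field Ω] [IsSepClosed Ω] (ξ : Spec (CommRingCat.of Ω) ⟶ X)

theorem germ_zero_iff_notMem {U : X.Etale} (y : (Scheme.pointSmallEtale ξ).fiber.obj U) (s : EtCoh.sect F U) :
    (Scheme.pointSmallEtale ξ).toPresheafFiber U y F.obj s = 0 ↔
      (y : Over.mk ξ ⟶ (Scheme.Etale.forget X).obj U).left (default : Spec (CommRingCat.of Ω)) ∉ EtShriek.sectSupp F U s :=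
  EtPushStalk.germ_eq_zero_iff F ξ U y s

/-- a finite stalk is the image of a homomorphism into sections over a neighbourhood -/
theorem exists_hom_germs [Finite ((EtCoh.stalk ξ).obj F)] :
    ∃ (U : X.Etale) (y : (Scheme.pointSmallEtale ξ).fiber.obj U) (M : Type) (_ : AddCommGroup M) (_ : Finite M)
      (σ : M →+ EtCoh.sect F U), Nat.card M = Nat.card ((EtCoh.stalk ξ).obj F) ∧
      ∀ m, (Scheme.pointSmallEtale ξ).toPresheafFiber U y F.obj (σ m) = 0 → m = 0 := by
  classical
  let Φ := Scheme.pointSmallEtale ξ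
  let A : Type (u + 1) := (EtCoh.stalk ξ).obj F
  obtain ⟨n, ⟨e₀⟩⟩ := Finite.exists_equiv_fin A
  let M : Type := {_k : Fin n // True}
  let e : A ≃ M := e₀.trans (Equiv.subtypeUnivEquiv fun _ => trivial).symm
  letI : AddCommGroup M := e.symm.addCommGroup
  let ε : M ≃+ A := { e.symm with map_add' := fun a b => e.symm_apply_apply (e.symm a + e.symm b) }
  choose V v s hs using fun m : M => Φ.toPresheafFiber_jointly_surjective (P := F.obj) (ε m)
  let O : Finset Φ.fiber.Elements := Finset.univ.image fun m => Functor.elementsMk Φ.fiber (V m) (v m)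
  haveI : IsCofiltered Φ.fiber.Elements := inferInstanceAs (IsCofiltered (Scheme.Etale.forget X ⋙ coyoneda.obj (op (Over.mk ξ))).Elements)
  obtain ⟨c, hc⟩ := IsCofiltered.inf_objs_exists O
  have a : ∀ m : M, Nonempty (c ⟶ Functor.elementsMk Φ.fiber (V m) (v m)) := fun m => hc (Finset.mem_image_of_mem (fun m => Functor.elementsMk Φ.fiber (V m) (v m)) (Finset.mem_univ m))
  let t : M → EtCoh.sect F c.1 := fun m => F.obj.map (a m).some.1.op (s m)
  have ht : ∀ m, Φ.toPresheafFiber c.1 c.2 F.obj (t m) = ε m := fun m => by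
    rw [GrothendieckTopology.Point.toPresheafFiber_w_apply, (a m).some.2]
    exact hs m
  let K : Set c.1.left := ⋃ p : M × M, EtShriek.sectSupp F c.1 (t (p.1 + p.2) - t p.1 - t p.2)
  have hK : IsClosed K := isClosed_iUnion_of_finite fun p => EtSect.isClosed_sectSupp F _
  let c₂ : Over.mk ξ ⟶ (Scheme.Etale.forget X).obj c.1 := c.2
  have hcK : c₂.left (default : Spec (CommRingCat.of Ω)) ∉ K := by
    intro h
    obtain ⟨p, hp⟩ := Set.mem_iUnion.1 h
    refine (germ_zero_iff_notMem F ξ c.2 _).1 ?_ hp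
    rw [map_sub, map_sub]
    erw [ht, ht, ht]
    rw [map_add]
    show ((ε p.1 : A) + ε p.2) - ε p.1 - ε p.2 = (0 : A)
    rw [add_sub_cancel_left, sub_self]
  let W : c.1.left.Opens := ⟨Kᶜ, hK.isOpen_compl⟩
  haveI : Etale c.1.hom := c.1.prop
  let g : c.1.left ⟶ X := c.1.hom
  haveI : Etale g := c.1.prop
  let U : X.Etale := Scheme.Etale.mk (W.ι ≫ g)
  let i : U ⟶ c.1 := MorphismProperty.Over.homMk W.ι rfl
  have hr : Set.range c₂.left ⊆ Set.range W.ι := by
    rintro _ ⟨z, rfl⟩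
    rw [Scheme.Opens.range_ι, Subsingleton.elim (α := Spec (CommRingCat.of Ω)) z default]
    exact hcK
  let y₂ : Over.mk ξ ⟶ (Scheme.Etale.forget X).obj U := Over.homMk (IsOpenImmersion.lift W.ι c₂.left hr) (by
    change IsOpenImmersion.lift W.ι c₂.left hr ≫ W.ι ≫ g = ξ
    rw [IsOpenImmersion.lift_fac_assoc]; exact Over.w c₂)
  have hadd : ∀ p q, rs F i (t (p + q)) = rs F i (t p) + rs F i (t q) := fun p q => by
    have h0 : rs F i (t (p + q) - t p - t q) = 0 := (EtSect.map_eq_zero_iff F _ i).2 (by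
      rintro _ ⟨z, rfl⟩ hz
      exact z.2 (Set.mem_iUnion.2 ⟨(p, q), hz⟩))
    rw [map_sub, map_sub, sub_sub, sub_eq_zero] at h0
    exact h0
  refine ⟨U, y₂, M, inferInstance, inferInstance, AddMonoidHom.mk' (fun m => rs F i (t m)) hadd,
    Nat.card_congr ε.toEquiv, fun m hm => ?_⟩
  have h1 : Φ.fiber.map i y₂ = c.2 := Over.OverMorphism.ext (IsOpenImmersion.lift_fac _ _ _)
  have h2 : Φ.toPresheafFiber c.1 c.2 F.obj (t m) = 0 := by
    rw [← h1, ← GrothendieckTopology.Point.toPresheafFiber_w_apply]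
    exact hm
  rw [ht] at h2
  exact ε.injective (h2.trans (map_zero ε).symm)

variable {T : Scheme.{u}} (G : EtCoh.Ab T)

/-- near a generic point, the germ maps of a homomorphism injective at that point are injective -/
theorem exists_irr_germs [IsLocallyNoetherian T] {t : T} (ht : ∀ z : T, t ⤳ z) (η : Spec (CommRingCat.of Ω) ⟶ T)
    (hη : η (default : Spec (CommRingCat.of Ω)) = t) [Finite ((EtCoh.stalk η).obj G)] :
    ∃ (U : T.Etale) (u : U.left) (M : Type) (_ : AddCommGroup M) (_ : Finite M) (σ : M →+ EtCoh.sect G U),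
      U.hom u = t ∧ Nat.card M = Nat.card ((EtCoh.stalk η).obj G) ∧
      ∀ m, m ≠ 0 → EtShriek.sectSupp G U (σ m) = Set.univ := by
  obtain ⟨U₀, y, M, iM, fM, σ, hcard, hinj⟩ := exists_hom_germs G η
  let y₁ : Over.mk η ⟶ (Scheme.Etale.forget T).obj U₀ := y
  have hu₀ : U₀.hom (y₁.left (default : Spec (CommRingCat.of Ω))) = t :=
    (congr($(Over.w y₁) (default : Spec (CommRingCat.of Ω)))).trans hη
  obtain ⟨U, g, u, hgu, hirr⟩ := exists_irr_nhd ht (U := U₀) (y₁.left (default : Spec (CommRingCat.of Ω))) hu₀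
  refine ⟨U, u, M, iM, fM, (rs G g).comp σ, by rw [← hu₀, ← hgu, EtFLC.hom_comp_left], hcard, fun m hm => ?_⟩
  have h0 : y₁.left (default : Spec (CommRingCat.of Ω)) ∈ EtShriek.sectSupp G U₀ (σ m) :=
    by_contra fun h => hm (hinj m ((germ_zero_iff_notMem G η y (σ m)).2 h))
  have h1 : u ∈ EtShriek.sectSupp G U (rs G g (σ m)) := by
    by_contra hu
    obtain ⟨W, k, ⟨w, hw⟩, hz⟩ := (EtSect.mem_iff G _ u).1 hu
    refine ((EtSect.map_eq_zero_iff G (σ m) (k ≫ g)).1 (by rw [op_comp, Functor.map_comp]; exact hz)) ?_ h0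
    exact ⟨w, by rw [EtFLC.comp_left_apply, hw, hgu]⟩
  exact Set.eq_univ_of_forall fun v => (hirr v).mem_closed (EtSect.isClosed_sectSupp G _) h1

theorem injective_germs {U : X.Etale} {M : Type} [AddCommGroup M] (σ : M →+ EtCoh.sect F U)
    (hσ : ∀ m, m ≠ 0 → EtShriek.sectSupp F U (σ m) = Set.univ) (y : (Scheme.pointSmallEtale ξ).fiber.obj U) :
    Function.Injective (fun m => (Scheme.pointSmallEtale ξ).toPresheafFiber U y F.obj (σ m)) := by
  intro a b hab
  by_contra hne
  refine (germ_zero_iff_notMem F ξ y (σ (a - b))).1 ?_ (by rw [hσ _ (sub_ne_zero.2 hne)]; trivial)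
  rw [map_sub, map_sub, sub_eq_zero]
  exact hab

/-- triviality near the generic point when the stalks are no larger than the generic one -/
theorem exists_flc_open_of_card_le [IsLocallyNoetherian T] {t : T} (ht : ∀ z : T, t ⤳ z)
    (hfin : ∀ (Ω : Type u) [Field Ω] [IsSepClosed Ω] (ξ : Spec (CommRingCat.of Ω) ⟶ T), Finite ((EtCoh.stalk ξ).obj G))
    (η : Spec (CommRingCat.of Ω) ⟶ T) (hη : η (default : Spec (CommRingCat.of Ω)) = t)
    (O : T.Opens) (htO : t ∈ O)
    (hcard : ∀ (Ω' : Type u) [Field Ω'] [IsSepClosed Ω'] (ζ : Spec (CommRingCat.of Ω') ⟶ T),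
      ζ (default : Spec (CommRingCat.of Ω')) ∈ O → Nat.card ((EtCoh.stalk ζ).obj G) ≤ Nat.card ((EtCoh.stalk η).obj G)) :
    ∃ O' : T.Opens, t ∈ O' ∧ EtCoh.IsFiniteLocallyConstant ((EtCoh.pull O'.ι).obj G) := by
  classical
  haveI := hfin Ω η
  obtain ⟨U₀, u₀, M, iM, fM, σ₀, hu₀, hM, hsupp⟩ := exists_irr_germs G ht η hη
  let g₀ : U₀.left ⟶ T := U₀.hom
  haveI : Etale g₀ := U₀.prop
  let W : U₀.left.Opens := g₀ ⁻¹ᵁ O
  let U : T.Etale := Scheme.Etale.mk (W.ι ≫ g₀)
  let i : U ⟶ U₀ := MorphismProperty.Over.homMk W.ι rfl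
  let σ : M →+ EtCoh.sect G U := (rs G i).comp σ₀
  have hσ : ∀ m, m ≠ 0 → EtShriek.sectSupp G U (σ m) = Set.univ := fun m hm =>
    Set.eq_univ_of_forall fun v => by
      by_contra hv
      obtain ⟨V, k, ⟨w, hw⟩, hz⟩ := (EtSect.mem_iff G _ v).1 hv
      have h1 := (EtSect.map_eq_zero_iff G (σ₀ m) (k ≫ i)).1 (by rw [op_comp, Functor.map_comp]; exact hz)
      exact h1 ⟨w, rfl⟩ (by rw [hsupp m hm]; trivial)
  have htriv : EtFLC.IsTriv G U σ := by
    constructor
    · intro V k s v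
      obtain ⟨Ω', _, _, ζ, -, hζ⟩ := EtStalk.covers_all (X := T) (V.hom v)
      obtain ⟨x, hx⟩ := Scheme.pointSmallEtaleFiberObjToPreimage_surjective ζ hζ V ⟨v, rfl⟩
      let x₁ : Over.mk ζ ⟶ (Scheme.Etale.forget T).obj V := x
      have hxv : x₁.left (default : Spec (CommRingCat.of Ω')) = v := congrArg Subtype.val hx
      haveI := hfin Ω' ζ
      let f : M → (EtCoh.stalk ζ).obj G := fun m =>
        (Scheme.pointSmallEtale ζ).toPresheafFiber U ((Scheme.pointSmallEtale ζ).fiber.map k x) G.obj (σ m)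
      have hf : Function.Injective f := injective_germs G ζ σ hσ _
      have hO : ζ (default : Spec (CommRingCat.of Ω')) ∈ O := by
        rw [hζ, ← EtFLC.hom_comp_left k]
        exact (k.left v).2
      have hbij : Function.Bijective f := hf.bijective_of_nat_card_le (by rw [hM]; exact hcard Ω' ζ hO)
      obtain ⟨m, hm⟩ := hbij.2 ((Scheme.pointSmallEtale ζ).toPresheafFiber V x G.obj s)
      have hm' : (Scheme.pointSmallEtale ζ).toPresheafFiber V x G.obj (s - rs G k (σ m)) = 0 := by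
        rw [map_sub, GrothendieckTopology.Point.toPresheafFiber_w_apply, sub_eq_zero]
        exact hm.symm
      have hv := (germ_zero_iff_notMem G ζ x _).1 hm'
      rw [hxv] at hv
      obtain ⟨W', h, ⟨w, hw⟩, hz⟩ := (EtSect.mem_iff G _ v).1 hv
      refine ⟨W', h, w, m, hw, ?_⟩
      rw [← EtFLC.res_res, ← sub_eq_zero, ← map_sub]
      exact hz
    · intro V k m hm v
      by_contra hne
      exact (EtSect.map_eq_zero_iff G (σ m) k).1 hm ⟨v, rfl⟩ (by rw [hσ m hne]; trivial)
  haveI : Etale U.hom := U.prop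
  let O' : T.Opens := ⟨Set.range U.hom, (Scheme.Hom.isOpenMap U.hom).isOpen_range⟩
  refine ⟨O', ⟨⟨u₀, ?_⟩, hu₀⟩, isFLC_pull_range G U σ htriv O' subset_rfl⟩
  show g₀ u₀ ∈ O
  exact hu₀.symm ▸ htO

end Groth.Agent.EtCons
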