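import Groth.Agent.EtCons.FlcNear
import Groth.Agent.Recoll.Etale
import Groth.Agent.ConsTop.Maps
import Mathlib

/-! Finite generation and finite presentation of constructible sheaves. -/

universe u

open CategoryTheory CategoryTheory.Limits AlgebraicGeometry Opposite Topology

set_option backward.isDefEq.respectTransparency false
set_option backward.isDefEq.respectTransparency.types false

noncomputable section

namespace Groth.Agent.EtCons

/-- Restriction of sections. -/
local notation "rs" => Groth.Agent.EtFLC.res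

variable {X : Scheme.{u}}

/-- the tautological section -/
def gen (U : X.Etale) (n : ℕ) : EtCoh.sect (EtPBC.extZeroConst U (ZMod n)) U :=
  ((extHomAdj U).unit.app (AddCommGrpCat.of (ULift.{u + 1} (ZMod n)))) ⟨((1 : ℤ) : ZMod n)⟩

variable {F G : EtCoh.Ab X}

/-- the homomorphism from `ℤ/n` -/
def torHom {U : X.Etale} {n : ℕ} (t : EtCoh.sect F U) (ht : n • t = 0) : ZMod n →+ EtCoh.sect F U :=
  ZMod.lift n ⟨zmultiplesHom _ t, by simpa using ht⟩

/-- the map classified by a torsion section -/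
def extHom (U : X.Etale) (n : ℕ) (t : EtCoh.sect F U) (ht : n • t = 0) : EtPBC.extZeroConst U (ZMod n) ⟶ F :=
  ((extHomAdj U).homEquiv _ F).symm (AddCommGrpCat.ofHom ((torHom t ht).comp AddEquiv.ulift.toAddMonoidHom))

theorem extHom_gen (U : X.Etale) (n : ℕ) (t : EtCoh.sect F U) (ht : n • t = 0) :
    (extHom U n t ht).hom.app (op U) (gen U n) = t := by
  have h := ((extHomAdj U).homEquiv (AddCommGrpCat.of (ULift.{u + 1} (ZMod n))) F).apply_symm_apply
    (AddCommGrpCat.ofHom ((torHom t ht).comp AddEquiv.ulift.toAddMonoidHom))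
  rw [Adjunction.homEquiv_unit] at h
  refine (ConcreteCategory.congr_hom h (ULift.up.{u + 1} ((1 : ℤ) : ZMod n))).trans ?_
  show torHom t ht ((1 : ℤ) : ZMod n) = t
  exact (ZMod.lift_coe n _ 1).trans (one_zsmul t)

theorem nsmul_gen (U : X.Etale) (n : ℕ) : n • gen U n = 0 := by
  show n • ((extHomAdj U).unit.app (AddCommGrpCat.of (ULift.{u + 1} (ZMod n)))) ⟨((1 : ℤ) : ZMod n)⟩ = _
  rw [← map_nsmul]
  refine (congrArg _ ?_).trans (map_zero _)
  apply ULift.ext
  show n • ((1 : ℤ) : ZMod n) = 0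
  simp

theorem ext_hom_ext {U : X.Etale} {n : ℕ} {φ ψ : EtPBC.extZeroConst U (ZMod n) ⟶ F}
    (h : φ.hom.app (op U) (gen U n) = ψ.hom.app (op U) (gen U n)) : φ = ψ := by
  apply ((extHomAdj U).homEquiv (AddCommGrpCat.of (ULift.{u + 1} (ZMod n))) F).injective
  refine ConcreteCategory.hom_ext _ _ fun x => ?_
  obtain ⟨x⟩ := x
  obtain ⟨k, rfl⟩ := ZMod.intCast_surjective x
  have e : (ULift.up.{u + 1} ((k : ℤ) : ZMod n)) = k • (ULift.up ((1 : ℤ) : ZMod n)) := by
    apply ULift.ext
    show ((k : ℤ) : ZMod n) = k • ((1 : ℤ) : ZMod n)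
    simp
  rw [e, map_zsmul, map_zsmul]
  congr 1

theorem app_sum {ι : Type*} (s : Finset ι) (f : ι → (F ⟶ G)) (V : X.Etale) (x : EtCoh.sect F V) :
    (∑ i ∈ s, f i).hom.app (op V) x = ∑ i ∈ s, (f i).hom.app (op V) x := by
  classical
  induction s using Finset.induction_on with
  | empty => simp
  | insert a s ha ih => rw [Finset.sum_insert ha, Finset.sum_insert ha, ← ih]; rfl

theorem killedBy_biproduct {m : ℕ} (A : Fin m → EtCoh.Ab X) (n : ℕ) (h : ∀ j, EtCoh.KilledBy n (A j)) :
    EtCoh.KilledBy n (⨁ A) := by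
  intro V s
  have e : (∑ j, biproduct.π A j ≫ biproduct.ι A j).hom.app (op V) (n • s) = n • s := by
    rw [biproduct.total]; rfl
  rw [← e, app_sum]
  refine Finset.sum_eq_zero fun j _ => ?_
  show (biproduct.ι A j).hom.app (op V) ((biproduct.π A j).hom.app (op V) (n • s)) = 0
  rw [map_nsmul, h j V, map_zero]

theorem killedBy_of_mono (f : F ⟶ G) [Mono f] {n : ℕ} (h : EtCoh.KilledBy n G) : EtCoh.KilledBy n F := by
  intro V s
  haveI : Mono f.hom := (inferInstance : Mono ((sheafToPresheaf _ _).map f))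
  have hi : Function.Injective (f.hom.app (op V)) := (AddCommGrpCat.mono_iff_injective _).1 inferInstance
  refine hi ?_
  rw [map_zero, map_nsmul, h V]

theorem killedBy_extConst (U : X.Etale) (n : ℕ) : EtCoh.KilledBy n (EtPBC.extZeroConst U (ZMod n)) := by
  have h : n • 𝟙 (EtPBC.extZeroConst U (ZMod n)) = 0 := by
    refine ext_hom_ext ?_
    show (n • 𝟙 (EtPBC.extZeroConst U (ZMod n)) : _ ⟶ _).hom.app (op U) (gen U n) = 0
    have : (n • 𝟙 (EtPBC.extZeroConst U (ZMod n)) : _ ⟶ _).hom.app (op U) (gen U n) = n • gen U n := rfl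
    rw [this, nsmul_gen]
  intro V s
  exact ConcreteCategory.congr_hom (congr_app (congrArg (fun k => k.hom) h) (op V)) s

variable [CompactSpace X] [QuasiSeparatedSpace X]

theorem isConstructible_biproduct : ∀ {m : ℕ} (A : Fin m → EtCoh.Ab X),
    (∀ j, EtPBC.IsConstructible (A j)) → EtPBC.IsConstructible (⨁ A) := by
  intro m
  induction m with
  | zero =>
    intro A _
    obtain ⟨G, hG⟩ := exists_isConstructible (X := X)
    refine isConstructible_of_iso ?_ (isConstructible_kernel_cokernel (𝟙 G) hG hG).1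
    exact (isZero_kernel_of_mono (𝟙 G)).iso ((IsZero.iff_id_eq_zero _).2 (biproduct.hom_ext _ _ fun j => j.elim0))
  | succ m ih =>
    intro A hA
    let A' : Fin m → EtCoh.Ab X := fun j => A j.succ
    let i₁ : A 0 ⟶ ⨁ A := biproduct.ι A 0
    let p₂ : ⨁ A ⟶ ⨁ A' := biproduct.lift fun j => biproduct.π A j.succ
    let s₂ : ⨁ A' ⟶ ⨁ A := biproduct.desc fun j => biproduct.ι A j.succ
    have h0 : i₁ ≫ p₂ = 0 := by
      refine biproduct.hom_ext _ _ fun j => ?_
      rw [Category.assoc, biproduct.lift_π, zero_comp]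
      exact biproduct.ι_π_ne A (Fin.succ_ne_zero j).symm
    refine isConstructible_middle (ShortComplex.mk i₁ p₂ h0) (ShortComplex.Splitting.shortExact ?_) (hA 0)
      (ih A' fun j => hA _)
    refine
      { r := biproduct.π A 0
        s := s₂
        f_r := biproduct.ι_π_self A 0
        s_g := ?_
        id := ?_ }
    · refine biproduct.hom_ext' _ _ fun j => biproduct.hom_ext _ _ fun k => ?_
      simp only [s₂, p₂, biproduct.ι_desc_assoc, Category.assoc, biproduct.lift_π, Category.comp_id]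
      by_cases hjk : j = k
      · subst hjk
        rw [biproduct.ι_π_self, biproduct.ι_π_self]
      · rw [biproduct.ι_π_ne _ hjk, biproduct.ι_π_ne A (fun e => hjk (Fin.succ_injective _ e))]
    · have h1 : ∑ j : Fin (m + 1), biproduct.π A j ≫ biproduct.ι A j = 𝟙 _ := biproduct.total
      rw [Fin.sum_univ_succ] at h1
      refine Eq.trans ?_ h1
      congr 1
      rw [biproduct.lift_desc]

/-- finitely many constructible subsets covering the space suffice -/
theorem finite_subcover_cons {ι : Type*} (C : ι → Set X) (hC : ∀ i, IsLocallyConstructible (C i))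
    (hcov : ∀ x, ∃ i, x ∈ C i) : ∃ s : Finset ι, ∀ x, ∃ i ∈ s, x ∈ C i := by
  have hc : @IsCompact X (constructibleTopology X) Set.univ := ConsTop.isCompact_cons isOpen_univ isCompact_univ
  obtain ⟨s, hs⟩ := @IsCompact.elim_finite_subcover X (constructibleTopology X) Set.univ ι hc C
    (fun i => (ConsTop.isClopen_of_isLocallyConstructible (hC i)).1)
    (fun x _ => Set.mem_iUnion.2 (hcov x))
  exact ⟨s, fun x => by simpa using hs (Set.mem_univ x)⟩

/-- surjectivity on stalks at one geometric point by sections over one affine neighbourhood -/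
theorem exists_local_generators (F : EtCoh.Ab X) (hF : EtPBC.IsConstructible F) {Ω : Type u} [Field Ω]
    [IsSepClosed Ω] (ξ : Spec (CommRingCat.of Ω) ⟶ X) :
    ∃ (W : X.Etale) (_ : IsAffine W.left) (b : ℕ) (N : ℕ) (_ : 0 < N)
      (f : (⨁ fun _ : Fin b => EtPBC.extZeroConst W (ZMod N)) ⟶ F),
      IsZero ((EtCoh.stalk ξ).obj (cokernel f)) := by
  classical
  haveI := finite_stalk_of_isConstructible F hF ξ
  obtain ⟨U, y, M, iM, fM, σ, hcard, hinj⟩ := exists_hom_germs F ξ
  have hsurj : Function.Surjective (fun m => (Scheme.pointSmallEtale ξ).toPresheafFiber U y F.obj (σ m)) := by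
    haveI : Finite (((Scheme.pointSmallEtale ξ).presheafFiber (A := AddCommGrpCat.{u + 1})).obj F.obj) :=
      (inferInstanceAs (Finite ((EtCoh.stalk ξ).obj F)))
    refine (Function.Injective.bijective_of_nat_card_le (fun a b hab => ?_) hcard.ge).2
    refine sub_eq_zero.1 (hinj _ ?_)
    rw [map_sub, map_sub]
    exact sub_eq_zero.2 hab
  let y₁ : Over.mk ξ ⟶ (Scheme.Etale.forget X).obj U := y
  obtain ⟨O, hO, hyO, -⟩ := exists_affine_le (V := (⊤ : U.left.Opens))
    (x := y₁.left (default : Spec (CommRingCat.of Ω))) trivial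
  let g : U.left ⟶ X := U.hom
  haveI : Etale g := U.prop
  let W : X.Etale := Scheme.Etale.mk (O.ι ≫ g)
  haveI : IsAffine W.left := hO
  let i : W ⟶ U := MorphismProperty.Over.homMk O.ι rfl
  have hr : Set.range y₁.left ⊆ Set.range O.ι := by
    rintro _ ⟨z, rfl⟩
    rw [Scheme.Opens.range_ι, Subsingleton.elim (α := Spec (CommRingCat.of Ω)) z default]
    exact hyO
  let y₂ : Over.mk ξ ⟶ (Scheme.Etale.forget X).obj W := Over.homMk (IsOpenImmersion.lift O.ι y₁.left hr) (by
    change IsOpenImmersion.lift O.ι y₁.left hr ≫ O.ι ≫ g = ξ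
    rw [IsOpenImmersion.lift_fac_assoc]; exact Over.w y₁)
  have hy : (Scheme.pointSmallEtale ξ).fiber.map i y₂ = y := Over.OverMorphism.ext (IsOpenImmersion.lift_fac _ _ _)
  haveI : Fintype M := Fintype.ofFinite M
  let e : Fin (Fintype.card M) ≃ M := (Fintype.equivFin M).symm
  let N := Nat.card M
  have hN : 0 < N := Nat.card_pos
  have ht : ∀ k, N • rs F i (σ (e k)) = 0 := fun k => by
    rw [← map_nsmul, ← map_nsmul, card_nsmul_eq_zero', map_zero, map_zero]
  let f : (⨁ fun _ : Fin (Fintype.card M) => EtPBC.extZeroConst W (ZMod N)) ⟶ F :=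
    biproduct.desc fun k => extHom W N (rs F i (σ (e k))) (ht k)
  refine ⟨W, inferInstance, Fintype.card M, N, hN, f, ?_⟩
  have hs : Function.Surjective ((EtCoh.stalk ξ).map f) := by
    intro p
    obtain ⟨m, rfl⟩ := hsurj p
    let z : EtCoh.sect (⨁ fun _ : Fin (Fintype.card M) => EtPBC.extZeroConst W (ZMod N)) W :=
      (biproduct.ι (fun _ : Fin (Fintype.card M) => EtPBC.extZeroConst W (ZMod N)) (e.symm m)).hom.app (op W) (gen W N)
    refine ⟨(Scheme.pointSmallEtale ξ).toPresheafFiber W y₂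
      (⨁ fun _ : Fin (Fintype.card M) => EtPBC.extZeroConst W (ZMod N)).obj z, ?_⟩
    refine (GrothendieckTopology.Point.toPresheafFiber_naturality_apply (Scheme.pointSmallEtale ξ) f.hom W y₂ z).trans ?_
    have hz : f.hom.app (op W) z = rs F i (σ m) := by
      refine (ConcreteCategory.congr_hom (congr_app (congrArg (fun k => k.hom)
        (biproduct.ι_desc (fun k => extHom W N (rs F i (σ (e k))) (ht k)) (e.symm m))) (op W)) (gen W N)).trans ?_
      rw [extHom_gen, Equiv.apply_symm_apply]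
    rw [hz]
    refine (GrothendieckTopology.Point.toPresheafFiber_w_apply (Scheme.pointSmallEtale ξ) i y₂ F.obj (σ m)).trans ?_
    rw [hy]
  haveI : PreservesColimitsOfSize.{u + 1, u + 1} (EtCoh.stalk ξ) :=
    ((Scheme.pointSmallEtale ξ).skyscraperSheafAdjunction (A := AddCommGrpCat.{u + 1})).leftAdjoint_preservesColimits
  haveI : Epi ((EtCoh.stalk ξ).map f) := (AddCommGrpCat.epi_iff_surjective _).2 hs
  exact (isZero_cokernel_of_epi _).of_iso (PreservesCokernel.iso (EtCoh.stalk ξ) f)

/-- constructible sheaves are finitely generated -/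
theorem exists_generators (F : EtCoh.Ab X) (hF : EtPBC.IsConstructible F) :
    ∃ (b : ℕ) (U : Fin b → X.Etale) (_ : ∀ i, IsAffine (U i).left) (N : Fin b → ℕ) (_ : ∀ i, 0 < N i)
      (f : (⨁ fun i => EtPBC.extZeroConst (U i) (ZMod (N i))) ⟶ F), Epi f := by
  classical
  choose Ω iF iS ξ hξ₀ hξ using EtStalk.covers_all (X := X)
  choose W hW b N hN f hf using fun x : X => @exists_local_generators X _ _ F hF (Ω x) (iF x) (iS x) (ξ x)
  have hP : ∀ x, EtPBC.IsConstructible (⨁ fun _ : Fin (b x) => EtPBC.extZeroConst (W x) (ZMod (N x))) := fun x =>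
    isConstructible_biproduct _ fun _ => by haveI := hW x; exact isConstructible_extConst (W x) (N x) (hN x)
  have hQ : ∀ x, EtPBC.IsConstructible (cokernel (f x)) := fun x =>
    (isConstructible_kernel_cokernel (f x) (hP x) hF).2
  have hx : ∀ x, x ∈ (EtPBC.supp (cokernel (f x)))ᶜ := fun x hmem => by
    obtain ⟨Ω', _, _, η, hr, hn⟩ := hmem
    rw [range_point_eq, Set.singleton_eq_singleton_iff] at hr
    letI := iF x
    letI := iS x
    exact hn (stalk_zero_indep (hQ x) (ξ x) η (by rw [hξ x, hr]) (hf x))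
  obtain ⟨s, hs⟩ := finite_subcover_cons (fun x => (EtPBC.supp (cokernel (f x)))ᶜ)
    (fun x => ConsTop.isLocallyConstructible_compl (isLocallyConstructible_supp (hQ x))) (fun x => ⟨x, hx x⟩)
  let e : Fin (Fintype.card (Σ x : s, Fin (b x.1))) ≃ (Σ x : s, Fin (b x.1)) := (Fintype.equivFin _).symm
  let U := fun k => W (e k).1.1
  let N' := fun k => N (e k).1.1
  let A := fun k => EtPBC.extZeroConst (U k) (ZMod (N' k))
  let q : ∀ i : Σ x : s, Fin (b x.1), EtPBC.extZeroConst (W i.1.1) (ZMod (N i.1.1)) ⟶ F := fun i =>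
    biproduct.ι (fun _ : Fin (b i.1.1) => EtPBC.extZeroConst (W i.1.1) (ZMod (N i.1.1))) i.2 ≫ f i.1.1
  let g : ⨁ A ⟶ F := biproduct.desc fun k => q (e k)
  refine ⟨_, U, fun k => hW _, N', fun k => hN _, g, Preadditive.epi_of_cokernel_zero ?_⟩
  refine IsZero.eq_of_tgt ?_ _ _
  refine Recoll.isZero_of_stalks _ fun Ω' _ _ η => ?_
  obtain ⟨x, hxs, hηx⟩ := hs (η (default : Spec (CommRingCat.of Ω')))
  have hz := isZero_of_notMem_supp η hηx
  have hfac : f x ≫ cokernel.π g = 0 := by
    refine biproduct.hom_ext' _ _ fun l => ?_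
    rw [comp_zero, ← Category.assoc]
    have key : ∀ i, q i ≫ cokernel.π g = 0 := by
      intro i
      obtain ⟨k, rfl⟩ := e.surjective i
      rw [← biproduct.ι_desc (fun k => q (e k)) k, Category.assoc]
      show biproduct.ι A k ≫ g ≫ cokernel.π g = 0
      rw [cokernel.condition, comp_zero]
    exact key ⟨⟨x, hxs⟩, l⟩
  haveI : Epi (cokernel.desc (f x) (cokernel.π g) hfac) := by
    apply epi_of_epi_fac (cokernel.π_desc (f x) (cokernel.π g) hfac)
  haveI : PreservesColimitsOfSize.{u + 1, u + 1} (EtCoh.stalk η) :=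
    ((Scheme.pointSmallEtale η).skyscraperSheafAdjunction (A := AddCommGrpCat.{u + 1})).leftAdjoint_preservesColimits
  exact IsZero.of_epi ((EtCoh.stalk η).map (cokernel.desc (f x) (cokernel.π g) hfac)) hz

/-- constructible sheaves are killed by a positive integer -/
theorem exists_killedBy (F : EtCoh.Ab X) (hF : EtPBC.IsConstructible F) :
    ∃ n, 0 < n ∧ EtCoh.KilledBy n F := by
  obtain ⟨b, U, hU, N, hN, f, hf⟩ := exists_generators F hF
  refine ⟨∏ i, N i, Finset.prod_pos fun i _ => hN i, ?_⟩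
  have h : ((∏ i, N i) • 𝟙 F : F ⟶ F) = 0 := by
    rw [← cancel_epi f, comp_zero, Preadditive.comp_nsmul, Category.comp_id]
    refine biproduct.hom_ext' _ _ fun j => ?_
    rw [comp_zero, Preadditive.comp_nsmul]
    refine ext_hom_ext ?_
    obtain ⟨d, hd⟩ := Finset.dvd_prod_of_mem N (Finset.mem_univ j)
    show (∏ i, N i) • ((biproduct.ι _ j ≫ f).hom.app (op (U j)) (gen (U j) (N j))) = 0
    rw [hd, mul_comm, mul_nsmul', ← map_nsmul, nsmul_gen, map_zero, nsmul_zero]
  intro V s
  exact ConcreteCategory.congr_hom (congr_app (congrArg (fun k => k.hom) h) (op V)) s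

theorem exists_generators_killed (F : EtCoh.Ab X) (hF : EtPBC.IsConstructible F) (n : ℕ) (hn : 0 < n)
    (hFn : EtCoh.KilledBy n F) :
    ∃ (b : ℕ) (U : Fin b → X.Etale) (_ : ∀ i, IsAffine (U i).left)
      (f : (⨁ fun i => EtPBC.extZeroConst (U i) (ZMod n)) ⟶ F), Epi f := by
  obtain ⟨b, U, hU, N, hN, f, hf⟩ := exists_generators F hF
  let t := fun i => (biproduct.ι (fun i => EtPBC.extZeroConst (U i) (ZMod (N i))) i ≫ f).hom.app (op (U i)) (gen (U i) (N i))
  let g : (⨁ fun i => EtPBC.extZeroConst (U i) (ZMod n)) ⟶ F :=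
    biproduct.desc fun i => extHom (U i) n (t i) (hFn _ _)
  refine ⟨b, U, hU, g, Preadditive.epi_of_cancel_zero _ fun {Z} h hh => ?_⟩
  rw [← cancel_epi f, comp_zero]
  refine biproduct.hom_ext' _ _ fun i => ?_
  rw [comp_zero, ← Category.assoc]
  refine ext_hom_ext ?_
  show h.hom.app (op (U i)) (t i) = 0
  have h2 : extHom (U i) n (t i) (hFn _ _) ≫ h = 0 := by
    rw [← biproduct.ι_desc (fun i => extHom (U i) n (t i) (hFn _ _)) i, Category.assoc, hh, comp_zero]
  have h3 := ConcreteCategory.congr_hom (congr_app (congrArg (fun k => k.hom) h2) (op (U i))) (gen (U i) n)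
  refine Eq.trans ?_ h3
  exact (congrArg (h.hom.app (op (U i))) (extHom_gen (U i) n (t i) (hFn _ _))).symm

end Groth.Agent.EtCons
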