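import Groth.Agent.EtCons.Cards
import Groth.Agent.EtShriekStalk.Basic
import Groth.Agent.EtPushStalk.OpenImm
import Mathlib

/-! Stalks of restrictions along etale morphisms and pushing specialisations. -/

universe u

open CategoryTheory CategoryTheory.Limits AlgebraicGeometry Opposite Topology

set_option backward.isDefEq.respectTransparency false
set_option backward.isDefEq.respectTransparency.types false

noncomputable section

namespace Groth.Agent.EtCons

/-- Restriction of sections. -/
local notation "rs" => Groth.Agent.EtFLC.res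

/-- a morphism of points moves germs -/
theorem sheafFiber_germ {Y : Scheme.{u}} {A B : Type u} [Field A] [IsSepClosed A] [Field B] [IsSepClosed B]
    {a : Spec (CommRingCat.of A) ⟶ Y} {b : Spec (CommRingCat.of B) ⟶ Y}
    (ψ : Scheme.pointSmallEtale b ⟶ Scheme.pointSmallEtale a) (G : EtCoh.Ab Y) (V : Y.Etale)
    (v : (Scheme.pointSmallEtale a).fiber.obj V) (t : EtCoh.sect G V) :
    (GrothendieckTopology.Point.Hom.sheafFiber (A := AddCommGrpCat.{u + 1}) ψ).app G
        ((Scheme.pointSmallEtale a).toPresheafFiber V v G.obj t) =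
      (Scheme.pointSmallEtale b).toPresheafFiber V (ψ.hom.app V v) G.obj t :=
  ConcreteCategory.congr_hom (GrothendieckTopology.Point.toPresheafFiber_presheafFiberDesc
    (Φ := Scheme.pointSmallEtale a) (φ := _) (hφ := _) V v) t

variable {U X : Scheme.{u}} {Ω Ω' : Type u} [Field Ω] [IsSepClosed Ω] [Field Ω'] [IsSepClosed Ω']

section
variable (f : U ⟶ X) (η : Spec (CommRingCat.of Ω) ⟶ U) (η' : Spec (CommRingCat.of Ω') ⟶ U)

/-- a lift of `η ≫ f` to `V` as a lift of `η` to the base change -/
def upPt (V : X.Etale) (x : (Scheme.pointSmallEtale (η ≫ f)).fiber.obj V) :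
    (Scheme.pointSmallEtale η).fiber.obj ((EtCoh.bc f).obj V) :=
  Over.homMk (pullback.lift (x : Over.mk (η ≫ f) ⟶ (Scheme.Etale.forget X).obj V).left η
    (Over.w (x : Over.mk (η ≫ f) ⟶ (Scheme.Etale.forget X).obj V))) (pullback.lift_snd _ _ _)

/-- a lift to the base change as a lift to `V` -/
def downPt (V : X.Etale) (x : (Scheme.pointSmallEtale η').fiber.obj ((EtCoh.bc f).obj V)) :
    (Scheme.pointSmallEtale (η' ≫ f)).fiber.obj V :=
  Over.homMk ((x : Over.mk η' ⟶ (Scheme.Etale.forget U).obj ((EtCoh.bc f).obj V)).left ≫ pullback.fst V.hom f) (by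
    let x' : Spec (CommRingCat.of Ω') ⟶ pullback V.hom f :=
      (x : Over.mk η' ⟶ (Scheme.Etale.forget U).obj ((EtCoh.bc f).obj V)).left
    have hx : x' ≫ pullback.snd V.hom f = η' :=
      Over.w (x : Over.mk η' ⟶ (Scheme.Etale.forget U).obj ((EtCoh.bc f).obj V))
    change (x' ≫ pullback.fst V.hom f) ≫ V.hom = η' ≫ f
    rw [Category.assoc, pullback.condition, reassoc_of% hx])

/-- image of a morphism of points -/
def pushSpec (φ : Scheme.pointSmallEtale η' ⟶ Scheme.pointSmallEtale η) :
    Scheme.pointSmallEtale (η' ≫ f) ⟶ Scheme.pointSmallEtale (η ≫ f) :=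
  ⟨{ app := fun V => TypeCat.ofHom fun x => downPt f η' V (φ.hom.app _ (upPt f η V x))
     naturality := fun V V' m => by
      ext x
      have h1 : upPt f η V' ((Scheme.pointSmallEtale (η ≫ f)).fiber.map m x) =
          (Scheme.pointSmallEtale η).fiber.map ((EtCoh.bc f).map m) (upPt f η V x) := by
        refine Over.OverMorphism.ext ?_
        let x₁ := (x : Over.mk (η ≫ f) ⟶ (Scheme.Etale.forget X).obj V)
        change pullback.lift (x₁.left ≫ m.left) η _ = pullback.lift x₁.left η _ ≫ ((EtCoh.bc f).map m).left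
        apply pullback.hom_ext
        · rw [pullback.lift_fst, Category.assoc]
          erw [(EtCoh.isPullback_bc_map f m).w, pullback.lift_fst_assoc]
        · rw [pullback.lift_snd, Category.assoc]
          have e2 : ((EtCoh.bc f).map m).left ≫ pullback.snd V'.hom f = pullback.snd V.hom f :=
            MorphismProperty.Over.w ((EtCoh.bc f).map m)
          erw [e2, pullback.lift_snd]
      show downPt f η' V' (φ.hom.app _ (upPt f η V' ((Scheme.pointSmallEtale (η ≫ f)).fiber.map m x))) =
        (Scheme.pointSmallEtale (η' ≫ f)).fiber.map m (downPt f η' V (φ.hom.app _ (upPt f η V x)))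
      rw [h1]
      erw [NatTrans.naturality_apply φ.hom ((EtCoh.bc f).map m)]
      refine Over.OverMorphism.ext ?_
      exact (Category.assoc _ _ _).trans
        ((congrArg _ (EtCoh.isPullback_bc_map f m).w).trans (Category.assoc _ _ _).symm) }⟩

variable [Etale f]

/-- lifts to `W` over `U` give lifts to `W` over `X` -/
def compPt {W : U.Etale} (w : (Scheme.pointSmallEtale η).fiber.obj W) :
    (Scheme.pointSmallEtale (η ≫ f)).fiber.obj ((EtShriek.compEtale f).obj W) :=
  EtShriekStalk.push (⟨η, rfl⟩ : EtShriekStalk.Lifts f (η ≫ f)) (w : Over.mk η ⟶ (Scheme.Etale.forget U).obj W)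

/-- the unit -/
def graphPt (W : U.Etale) : W ⟶ (EtCoh.bc f).obj ((EtShriek.compEtale f).obj W) :=
  MorphismProperty.Over.homMk
    (pullback.lift (𝟙 W.left) W.hom (Category.id_comp _) : W.left ⟶ pullback (W.hom ≫ f) f)
    (pullback.lift_snd _ _ _)

theorem pushSpec_compPt (φ : Scheme.pointSmallEtale η' ⟶ Scheme.pointSmallEtale η) {W : U.Etale}
    (w : (Scheme.pointSmallEtale η).fiber.obj W) :
    (pushSpec f η η' φ).hom.app _ (compPt f η w) = compPt f η' (φ.hom.app W w) := by
  let w₁ := (w : Over.mk η ⟶ (Scheme.Etale.forget U).obj W)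
  have h1 : upPt f η _ (compPt f η w) = (Scheme.pointSmallEtale η).fiber.map (graphPt f W) w := by
    refine Over.OverMorphism.ext ?_
    change pullback.lift w₁.left η _ = w₁.left ≫ pullback.lift (𝟙 W.left) W.hom (Category.id_comp _)
    apply pullback.hom_ext
    · rw [pullback.lift_fst, Category.assoc, pullback.lift_fst]
      exact (Category.comp_id _).symm
    · rw [pullback.lift_snd, Category.assoc, pullback.lift_snd]
      exact (Over.w w₁).symm
  show downPt f η' _ (φ.hom.app _ (upPt f η _ (compPt f η w))) = _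
  rw [h1]
  erw [NatTrans.naturality_apply φ.hom (graphPt f W)]
  refine Over.OverMorphism.ext ?_
  let w' := (φ.hom.app W w : Over.mk η' ⟶ (Scheme.Etale.forget U).obj W)
  change (w'.left ≫ pullback.lift (𝟙 W.left) W.hom (Category.id_comp _)) ≫ pullback.fst (W.hom ≫ f) f = w'.left
  rw [Category.assoc, pullback.lift_fst]
  exact Category.comp_id _

variable [EtShriek.JCont f] (F : EtCoh.Ab X)

/-- stalk of a restriction mapped to the stalk -/
def restrStalk : (EtCoh.stalk η).obj ((EtShriek.restrAlong f).obj F) ⟶ (EtCoh.stalk (η ≫ f)).obj F :=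
  (Scheme.pointSmallEtale η).presheafFiberDesc
    (fun W w => (Scheme.pointSmallEtale (η ≫ f)).toPresheafFiber ((EtShriek.compEtale f).obj W) (compPt f η w) F.obj)
    (fun {W W'} m w => GrothendieckTopology.Point.toPresheafFiber_w (Scheme.pointSmallEtale (η ≫ f))
      ((EtShriek.compEtale f).map m) (compPt f η w) F.obj)

theorem restrStalk_germ (W : U.Etale) (w : (Scheme.pointSmallEtale η).fiber.obj W)
    (s : EtCoh.sect ((EtShriek.restrAlong f).obj F) W) :
    restrStalk f η F ((Scheme.pointSmallEtale η).toPresheafFiber W w ((EtShriek.restrAlong f).obj F).obj s) =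
      (Scheme.pointSmallEtale (η ≫ f)).toPresheafFiber ((EtShriek.compEtale f).obj W) (compPt f η w) F.obj s :=
  ConcreteCategory.congr_hom (GrothendieckTopology.Point.toPresheafFiber_presheafFiberDesc
    (Φ := Scheme.pointSmallEtale η) (φ := _) (hφ := _) W w) s

theorem bijective_restrStalk : Function.Bijective (restrStalk f η F) := by
  refine ⟨(injective_iff_map_eq_zero _).2 fun p hp => ?_, fun p => ?_⟩
  · obtain ⟨W, w, s, rfl⟩ := (Scheme.pointSmallEtale η).toPresheafFiber_jointly_surjective
      (P := ((EtShriek.restrAlong f).obj F).obj) p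
    rw [restrStalk_germ] at hp
    refine (EtPushStalk.germ_eq_zero_iff _ η W w s).2 fun hmem => ?_
    refine (EtPushStalk.germ_eq_zero_iff F (η ≫ f) _ _ s).1 hp ?_
    intro Z g hz h0
    obtain ⟨z, hz⟩ := hz
    let a : (EtShriek.compEtaleLift f g).1 ⟶ W := MorphismProperty.Over.homMk g.left rfl
    refine hmem _ a ⟨z, hz⟩ ?_
    have e : (EtShriek.compEtale f).map a = (EtShriek.compEtaleLift f g).2.hom ≫ g := by
      apply MorphismProperty.Over.Hom.ext
      exact (Category.id_comp _).symm
    show rs F ((EtShriek.compEtale f).map a) s = 0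
    rw [e, ← EtFLC.res_res]
    erw [h0]
    exact map_zero _
  · obtain ⟨V, v, s, rfl⟩ := (Scheme.pointSmallEtale (η ≫ f)).toPresheafFiber_jointly_surjective (P := F.obj) p
    let c : (EtShriek.compEtale f).obj ((EtCoh.bc f).obj V) ⟶ V :=
      MorphismProperty.Over.homMk (pullback.fst V.hom f) (pullback.condition : pullback.fst V.hom f ≫ V.hom = _)
    refine ⟨(Scheme.pointSmallEtale η).toPresheafFiber ((EtCoh.bc f).obj V) (upPt f η V v)
      ((EtShriek.restrAlong f).obj F).obj (rs F c s), ?_⟩
    rw [restrStalk_germ]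
    erw [GrothendieckTopology.Point.toPresheafFiber_w_apply]
    congr 3
    refine Over.OverMorphism.ext ?_
    exact pullback.lift_fst _ _ _

theorem restrStalk_spec (φ : Scheme.pointSmallEtale η' ⟶ Scheme.pointSmallEtale η) :
    (GrothendieckTopology.Point.Hom.sheafFiber (A := AddCommGrpCat.{u + 1}) φ).app ((EtShriek.restrAlong f).obj F) ≫
        restrStalk f η' F =
      restrStalk f η F ≫ (GrothendieckTopology.Point.Hom.sheafFiber (A := AddCommGrpCat.{u + 1}) (pushSpec f η η' φ)).app F := by
  refine ConcreteCategory.hom_ext _ _ fun p => ?_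
  obtain ⟨W, w, s, rfl⟩ := (Scheme.pointSmallEtale η).toPresheafFiber_jointly_surjective
    (P := ((EtShriek.restrAlong f).obj F).obj) p
  refine (ConcreteCategory.comp_apply _ _ _).trans (((congrArg (restrStalk f η' F)
    (sheafFiber_germ φ ((EtShriek.restrAlong f).obj F) W w s)).trans
    (restrStalk_germ f η' F W (φ.hom.app W w) s)).trans ?_)
  refine Eq.trans ?_ ((ConcreteCategory.comp_apply _ _ _).trans (((congrArg _ (restrStalk_germ f η F W w s))).trans
    (sheafFiber_germ (pushSpec f η η' φ) F _ (compPt f η w) s))).symm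
  rw [pushSpec_compPt]

end

end Groth.Agent.EtCons
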