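import Groth.Agent.EtCons.IndCons
import Groth.Agent.ConsEngine.ClosureFibre
import Mathlib

/-! Generators with controlled support. -/

universe u

open CategoryTheory CategoryTheory.Limits AlgebraicGeometry Opposite Topology

set_option backward.isDefEq.respectTransparency false
set_option backward.isDefEq.respectTransparency.types false

noncomputable section

namespace Groth.Agent.EtCons

/-- Restriction of sections. -/
local notation "rs" => Groth.Agent.EtFLC.res

variable {X : Scheme.{u}}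

theorem isZero_stalk_quotient {G : EtCoh.Ab X} (W : X.Etale) (N : ℕ) (π : EtPBC.extZeroConst W (ZMod N) ⟶ G)
    [Epi π] {Ω : Type u} [Field Ω] [IsSepClosed Ω] (η : Spec (CommRingCat.of Ω) ⟶ X)
    (h : ∀ y : (Scheme.pointSmallEtale η).fiber.obj W,
      (Scheme.pointSmallEtale η).toPresheafFiber W y G.obj (π.hom.app (op W) (gen W N)) = 0) :
    IsZero ((EtCoh.stalk η).obj G) := by
  let Φ := Scheme.pointSmallEtale η
  let e : ((EtCoh.stalk η).obj G ⟶ (EtCoh.stalk η).obj G) ≃ (G ⟶ Φ.skyscraperSheaf ((EtCoh.stalk η).obj G)) :=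
    Φ.skyscraperSheafAdjunction.homEquiv G ((EtCoh.stalk η).obj G)
  rw [IsZero.iff_id_eq_zero]
  apply e.injective
  have h0 : π ≫ e (𝟙 _) = π ≫ e 0 := by
    refine ext_hom_ext ?_
    refine Concrete.limit_ext _ _ _ fun ⟨y⟩ => ?_
    have hπ : ∀ (f : (EtCoh.stalk η).obj G ⟶ (EtCoh.stalk η).obj G),
        Pi.π (fun _ : Φ.fiber.obj W => (EtCoh.stalk η).obj G) y
          ((e f).hom.app (op W) (π.hom.app (op W) (gen W N))) = 0 := by
      intro f
      have he : (e f).hom = Φ.skyscraperPresheafHomEquiv f := Φ.skyscraperSheafAdjunction_homEquiv_apply_hom f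
      rw [he]
      refine (ConcreteCategory.congr_hom (Φ.skyscraperPresheafHomEquiv_app_π (P := G.obj) f W y)
        (π.hom.app (op W) (gen W N))).trans ?_
      refine (congrArg f (h y)).trans (map_zero f.hom)
    exact (hπ (𝟙 _)).trans (hπ 0).symm
  exact (cancel_epi π).1 h0

theorem supp_subset_of_iso {A B : EtCoh.Ab X} (e : A ≅ B) : EtPBC.supp B ⊆ EtPBC.supp A := by
  rintro x ⟨Ω, _, _, η, hr, hn⟩
  exact ⟨Ω, inferInstance, inferInstance, η, hr, fun hz => hn (hz.of_iso ((EtCoh.stalk η).mapIso e).symm)⟩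

theorem supp_cokernel_subset {A B : EtCoh.Ab X} (φ : A ⟶ B) : EtPBC.supp (cokernel φ) ⊆ EtPBC.supp B := by
  rintro x ⟨Ω, _, _, η, hr, hn⟩
  haveI : PreservesColimitsOfSize.{u + 1, u + 1} (EtCoh.stalk η) :=
    ((Scheme.pointSmallEtale η).skyscraperSheafAdjunction (A := AddCommGrpCat.{u + 1})).leftAdjoint_preservesColimits
  exact ⟨Ω, inferInstance, inferInstance, η, hr, fun hz => hn (IsZero.of_epi ((EtCoh.stalk η).map (cokernel.π φ)) hz)⟩

theorem supp_biprod_subset (A B : EtCoh.Ab X) : EtPBC.supp (A ⊞ B) ⊆ EtPBC.supp A ∪ EtPBC.supp B := by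
  rintro x ⟨Ω, _, _, η, hr, hn⟩
  haveI : PreservesColimitsOfSize.{u + 1, u + 1} (EtCoh.stalk η) :=
    ((Scheme.pointSmallEtale η).skyscraperSheafAdjunction (A := AddCommGrpCat.{u + 1})).leftAdjoint_preservesColimits
  haveI : (EtCoh.stalk η).Additive := Functor.additive_of_preserves_binary_products _
  by_contra hx
  rw [Set.mem_union, not_or] at hx
  have hA : IsZero ((EtCoh.stalk η).obj A) := by_contra fun h => hx.1 ⟨Ω, inferInstance, inferInstance, η, hr, h⟩
  have hB : IsZero ((EtCoh.stalk η).obj B) := by_contra fun h => hx.2 ⟨Ω, inferInstance, inferInstance, η, hr, h⟩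
  refine hn ((IsZero.iff_id_eq_zero _).2 ?_)
  rw [← CategoryTheory.Functor.map_id, ← biprod.total (X := A) (Y := B), Functor.map_add, Functor.map_comp,
    Functor.map_comp, hA.eq_of_tgt ((EtCoh.stalk η).map biprod.fst) 0, hB.eq_of_tgt ((EtCoh.stalk η).map biprod.snd) 0,
    zero_comp, zero_comp, add_zero]

theorem supp_zero {A : EtCoh.Ab X} (h : IsZero A) : EtPBC.supp A = ∅ := by
  refine Set.eq_empty_of_forall_notMem ?_
  rintro x ⟨Ω, _, _, η, hr, hn⟩
  exact hn ((EtCoh.stalk η).map_isZero h)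

theorem image_sectSupp_subset {F : EtCoh.Ab X} (W : X.Etale) (s : EtCoh.sect F W) :
    W.hom '' EtShriek.sectSupp F W s ⊆ EtPBC.supp F := by
  rintro _ ⟨v, hv, rfl⟩
  obtain ⟨Ω, _, _, η, -, hη⟩ := EtStalk.covers_all (X := X) (W.hom v)
  obtain ⟨x, hx⟩ := Scheme.pointSmallEtaleFiberObjToPreimage_surjective η hη W ⟨v, rfl⟩
  let x₁ : Over.mk η ⟶ (Scheme.Etale.forget X).obj W := x
  have hxv : x₁.left (default : Spec (CommRingCat.of Ω)) = v := congrArg Subtype.val hx
  refine ⟨Ω, inferInstance, inferInstance, η, (range_point_eq η).trans (congrArg (fun z => ({z} : Set X)) hη), fun hz => ?_⟩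
  haveI := AddCommGrpCat.subsingleton_of_isZero hz
  refine (germ_zero_iff_notMem F η x s).1 (Subsingleton.elim (α := ((EtCoh.stalk η).obj F : Type (u + 1))) _ _) ?_
  rw [hxv]
  exact hv

variable [CompactSpace X] [QuasiSeparatedSpace X]

/-- a constructible sheaf with a section hitting a given killed one, supported over a given piece -/
theorem exists_gen_supp {F : EtCoh.Ab X} (W : X.Etale) [IsAffine W.left] (N : ℕ) (hN : 0 < N) (t : EtCoh.sect F W)
    (ht : N • t = 0) {m : ℕ} (O : Fin m → W.left.Opens) (hO : ∀ i, IsAffineOpen (O i))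
    (hOt : ∀ i, Disjoint (O i : Set W.left) (EtShriek.sectSupp F W t)) :
    ∃ (G : EtCoh.Ab X) (_ : EtPBC.IsConstructible G) (α : G ⟶ F) (s : EtCoh.sect G W),
      α.hom.app (op W) s = t ∧ EtPBC.supp G ⊆ W.hom '' (⋃ i, (O i : Set W.left))ᶜ := by
  let g : W.left ⟶ X := W.hom
  haveI : Etale g := W.prop
  let Wi : Fin m → X.Etale := fun i => Scheme.Etale.mk ((O i).ι ≫ g)
  let k : ∀ i, Wi i ⟶ W := fun i => MorphismProperty.Over.homMk (O i).ι rfl
  haveI : ∀ i, IsAffine (Wi i).left := fun i => hO i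
  let E := EtPBC.extZeroConst W (ZMod N)
  let φ : (⨁ fun i => EtPBC.extZeroConst (Wi i) (ZMod N)) ⟶ E :=
    biproduct.desc fun i => extHom (Wi i) N (rs E (k i) (gen W N)) (by rw [← map_nsmul, nsmul_gen, map_zero])
  let β : E ⟶ F := extHom W N t ht
  have hz : ∀ i, rs F (k i) t = 0 := fun i => (EtSect.map_eq_zero_iff F t (k i)).2 (by
    rintro _ ⟨z, rfl⟩ hmem
    exact Set.disjoint_left.1 (hOt i) z.2 hmem)
  have hφ : φ ≫ β = 0 := by
    refine biproduct.hom_ext' _ _ fun i => ?_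
    rw [biproduct.ι_desc_assoc, comp_zero]
    refine ext_hom_ext ?_
    show β.hom.app (op (Wi i)) ((extHom (Wi i) N _ _).hom.app (op (Wi i)) (gen (Wi i) N)) = 0
    rw [extHom_gen, ← hz i]
    refine (EtFLC.app_res β (k i) (gen W N)).trans ?_
    exact congrArg (rs F (k i)) (extHom_gen W N t ht)
  refine ⟨cokernel φ, (isConstructible_kernel_cokernel φ
    (isConstructible_biproduct _ fun i => isConstructible_extConst (Wi i) N hN) (isConstructible_extConst W N hN)).2,
    cokernel.desc φ β hφ, (cokernel.π φ).hom.app (op W) (gen W N), ?_, ?_⟩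
  · refine Eq.trans ?_ (extHom_gen W N t ht)
    exact ConcreteCategory.congr_hom (congr_app (congrArg (fun q => q.hom) (cokernel.π_desc φ β hφ)) (op W)) (gen W N)
  rintro x ⟨Ω, _, _, η, hr, hn⟩
  rw [range_point_eq, Set.singleton_eq_singleton_iff] at hr
  by_contra hx
  refine hn (isZero_stalk_quotient W N (cokernel.π φ) η fun y => ?_)
  let y₁ : Over.mk η ⟶ (Scheme.Etale.forget X).obj W := y
  refine (germ_zero_iff_notMem (cokernel φ) η y _).2 ?_
  have hy : W.hom (y₁.left (default : Spec (CommRingCat.of Ω))) = x :=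
    (congr($(Over.w y₁) (default : Spec (CommRingCat.of Ω)))).trans hr
  have hmem : y₁.left (default : Spec (CommRingCat.of Ω)) ∈ ⋃ i, (O i : Set W.left) :=
    by_contra fun h => hx ⟨_, h, hy⟩
  obtain ⟨i, hi⟩ := Set.mem_iUnion.1 hmem
  intro hsupp
  refine (EtSect.map_eq_zero_iff (cokernel φ) _ (k i)).1 ?_ ⟨(⟨_, hi⟩ : O i), rfl⟩ hsupp
  have h1 : biproduct.ι _ i ≫ φ ≫ cokernel.π φ = 0 := by rw [cokernel.condition, comp_zero]
  rw [biproduct.ι_desc_assoc] at h1
  have h2 := ConcreteCategory.congr_hom (congr_app (congrArg (fun q => q.hom) h1) (op (Wi i))) (gen (Wi i) N)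
  refine Eq.trans ?_ h2
  refine (EtFLC.app_res (cokernel.π φ) (k i) (gen W N)).symm.trans ?_
  exact congrArg ((cokernel.π φ).hom.app (op (Wi i))) (extHom_gen (Wi i) N _ _).symm

end Groth.Agent.EtCons

namespace Groth.Agent.EtCons

variable {X : Scheme.{u}} [CompactSpace X] [QuasiSeparatedSpace X]

/-- colimit presentation by constructible sheaves supported in admissible closed sets -/
theorem exists_colimit_supp (P : Set X → Prop) (hP0 : P ∅) (hPu : ∀ Z Z', P Z → P Z' → P (Z ∪ Z'))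
    (F : EtCoh.Ab X) (hF : EtCoh.IsTorsion F)
    (hgen : ∀ (W : X.Etale) [IsAffine W.left] (t : EtCoh.sect F W),
      ∃ (m : ℕ) (O : Fin m → W.left.Opens) (_ : ∀ i, IsAffineOpen (O i))
        (_ : ∀ i, Disjoint (O i : Set W.left) (EtShriek.sectSupp F W t)) (Z : Set X),
        IsClosed Z ∧ P Z ∧ W.hom '' (⋃ i, (O i : Set W.left))ᶜ ⊆ Z) :
    ∃ (J : Type (u + 1)) (_ : SmallCategory J) (_ : IsFiltered J) (D : J ⥤ EtCoh.Ab X) (c : Cocone D)
      (_ : IsColimit c), Nonempty (c.pt ≅ F) ∧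
        ∀ j, EtPBC.IsConstructible (D.obj j) ∧ ∃ Z : Set X, IsClosed Z ∧ P Z ∧ EtPBC.supp (D.obj j) ⊆ Z := by
  obtain ⟨hfil, ⟨hc⟩, hD⟩ := nonempty_isColimit_consCocone
    (fun G : EtCoh.Ab X => ∃ Z : Set X, IsClosed Z ∧ P Z ∧ EtPBC.supp G ⊆ Z) F
    (fun e ⟨Z, h1, h2, h3⟩ => ⟨Z, h1, h2, (supp_subset_of_iso e).trans h3⟩)
    (fun {A B} _ _ ⟨Z, h1, h2, h3⟩ ⟨Z', h1', h2', h3'⟩ => ⟨Z ∪ Z', h1.union h1', hPu Z Z' h2 h2',
      (supp_biprod_subset A B).trans (Set.union_subset_union h3 h3')⟩)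
    (fun φ _ _ ⟨Z, h1, h2, h3⟩ => ⟨Z, h1, h2, (supp_cokernel_subset φ).trans h3⟩)
    (exists_isConstructible.elim fun G hG => ⟨kernel (𝟙 G), (isConstructible_kernel_cokernel _ hG hG).1,
      ∅, isClosed_empty, hP0, by rw [supp_zero (isZero_kernel_of_mono (𝟙 G))]⟩)
    hF (fun U t x => by
      obtain ⟨W, g, w, n, hW, hw, hn, hns⟩ := exists_affine_killed_nhd hF U t x
      haveI := hW
      obtain ⟨m, O, hO, hOt, Z, hZc, hPZ, hZ⟩ := hgen W (F.obj.map g.op t)
      obtain ⟨G, hG, α, s, hs, hsupp⟩ := exists_gen_supp W n hn _ hns O hO hOt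
      exact ⟨W, g, ⟨w, hw⟩, G, hG, ⟨Z, hZc, hPZ, hsupp.trans hZ⟩, α, s, hs⟩)
  exact ⟨_, inferInstance, hfil, _, _, hc, ⟨Iso.refl _⟩, hD⟩

theorem closure_image_subset (W : X.Etale) [IsAffine W.left] {C : Set W.left} (hC : IsConstructible C) :
    closure (W.hom '' C) ⊆ {z | ∃ c ∈ C, W.hom c ⤳ z} := by
  intro z hz
  haveI : Etale W.hom := W.prop
  let g : W.left ⟶ X := W.hom
  haveI : Etale g := W.prop
  haveI : QuasiCompact g := inferInstance
  obtain ⟨y, ⟨c, hc, rfl⟩, hy⟩ := ConsEngine.exists_specializes_of_mem_closure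
    (Scheme.Hom.isLocallyConstructible_image g hC.isLocallyConstructible) hz
  exact ⟨c, hc, hy⟩

theorem exists_cover_compl_of_noetherian (W : X.Etale) [IsAffine W.left] [IsNoetherian X] {K : Set W.left}
    (hK : IsClosed K) : ∃ (m : ℕ) (O : Fin m → W.left.Opens), (∀ i, IsAffineOpen (O i)) ∧
      (⋃ i, (O i : Set W.left))ᶜ = K := by
  classical
  let g : W.left ⟶ X := W.hom
  haveI : Etale g := W.prop
  haveI : IsLocallyNoetherian W.left := LocallyOfFiniteType.isLocallyNoetherian g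
  haveI : IsNoetherian W.left := {}
  let U : W.left.Opens := ⟨Kᶜ, hK.isOpen_compl⟩
  have hloc : ∀ v : U, ∃ O : W.left.Opens, IsAffineOpen O ∧ (v : W.left) ∈ O ∧ O ≤ U := fun v => by
    obtain ⟨O, h1, h2, h3⟩ := exists_affine_le (V := U) (x := (v : W.left)) v.2
    exact ⟨O, h1, h2, h3⟩
  choose O hO hvO hOU using hloc
  obtain ⟨s, hs⟩ := (TopologicalSpace.NoetherianSpace.isCompact (U : Set W.left)).elim_finite_subcover (fun v => (O v : Set W.left))
    (fun v => (O v).isOpen) (fun v hv => Set.mem_iUnion.2 ⟨⟨v, hv⟩, hvO _⟩)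
  refine ⟨s.card, fun i => O (s.equivFin.symm i).1, fun i => hO _, ?_⟩
  rw [compl_eq_comm]
  refine Set.Subset.antisymm (fun v hv => ?_) (Set.iUnion_subset fun i => hOU _)
  obtain ⟨w, hw, hvw⟩ := Set.mem_iUnion₂.1 (hs hv)
  exact Set.mem_iUnion.2 ⟨s.equivFin ⟨w, hw⟩, by simp only [Equiv.symm_apply_apply]; exact hvw⟩

theorem exists_colimit_noetherian [IsNoetherian X] (E : Set X) (hE : StableUnderSpecialization E) (F : EtCoh.Ab X)
    (hF : EtCoh.IsTorsion F) (hsupp : EtPBC.supp F ⊆ E) :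
    ∃ (J : Type (u + 1)) (_ : SmallCategory J) (_ : IsFiltered J) (D : J ⥤ EtCoh.Ab X) (c : Cocone D)
      (_ : IsColimit c), Nonempty (c.pt ≅ F) ∧
        ∀ j, EtPBC.IsConstructible (D.obj j) ∧ ∃ Z : Set X, IsClosed Z ∧ Z ⊆ E ∧ EtPBC.supp (D.obj j) ⊆ Z := by
  refine exists_colimit_supp (fun Z => Z ⊆ E) (Set.empty_subset _) (fun _ _ => Set.union_subset) F hF
    fun W _ t => ?_
  let g : W.left ⟶ X := W.hom
  haveI : Etale g := W.prop
  haveI : IsLocallyNoetherian W.left := LocallyOfFiniteType.isLocallyNoetherian g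
  haveI : IsNoetherian W.left := {}
  have hK := EtSect.isClosed_sectSupp F t
  obtain ⟨m, O, hO, hcompl⟩ := exists_cover_compl_of_noetherian W hK
  refine ⟨m, O, hO, fun i => ?_, closure (W.hom '' EtShriek.sectSupp F W t), isClosed_closure, fun z hz => ?_,
    by rw [hcompl]; exact subset_closure⟩
  · rw [Set.disjoint_left]
    intro v hv hvK
    rw [← hcompl] at hvK
    exact hvK (Set.mem_iUnion.2 ⟨i, hv⟩)
  · have hC : IsConstructible (EtShriek.sectSupp F W t) :=
      (TopologicalSpace.NoetherianSpace.isCompact _).isConstructible hK.isOpen_compl |>.of_compl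
    obtain ⟨c, hc, hcz⟩ := closure_image_subset W hC hz
    exact hE hcz (hsupp (image_sectSupp_subset W t ⟨c, hc, rfl⟩))

theorem exists_colimit_generic [IrreducibleSpace X] (F : EtCoh.Ab X) (hF : EtCoh.IsTorsion F)
    (hη : genericPoint X ∉ EtPBC.supp F) :
    ∃ (J : Type (u + 1)) (_ : SmallCategory J) (_ : IsFiltered J) (D : J ⥤ EtCoh.Ab X) (c : Cocone D)
      (_ : IsColimit c), Nonempty (c.pt ≅ F) ∧
        ∀ j, EtPBC.IsConstructible (D.obj j) ∧
          ∃ Z : Set X, IsClosed Z ∧ genericPoint X ∉ Z ∧ EtPBC.supp (D.obj j) ⊆ Z := by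
  classical
  refine exists_colimit_supp (fun Z => genericPoint X ∉ Z) (Set.notMem_empty _)
    (fun _ _ h h' hm => hm.elim h h') F hF fun W _ t => ?_
  let g : W.left ⟶ X := W.hom
  haveI : Etale g := W.prop
  haveI := FpqcDescent.locallyQuasiFinite_of_etale g
  haveI : QuasiCompact g := inferInstance
  have hfin : (g ⁻¹' {genericPoint X}).Finite := g.finite_preimage_singleton _
  haveI := hfin.fintype
  let K : W.left.Opens := ⟨(EtShriek.sectSupp F W t)ᶜ, (EtSect.isClosed_sectSupp F t).isOpen_compl⟩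
  have hloc : ∀ v : g ⁻¹' {genericPoint X}, ∃ O : W.left.Opens, IsAffineOpen O ∧ (v : W.left) ∈ O ∧ O ≤ K := by
    intro v
    obtain ⟨O, h1, h2, h3⟩ := exists_affine_le (V := K) (x := (v : W.left)) fun hv =>
      hη (image_sectSupp_subset W t ⟨_, hv, v.2⟩)
    exact ⟨O, h1, h2, h3⟩
  choose O hO hvO hOK using hloc
  let e := Fintype.equivFin (g ⁻¹' {genericPoint X})
  let C : Set W.left := (⋃ i, (O (e.symm i) : Set W.left))ᶜ
  refine ⟨_, fun i => O (e.symm i), fun i => hO _, fun i => ?_, closure (W.hom '' C), isClosed_closure,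
    fun hz => ?_, subset_closure⟩
  · rw [Set.disjoint_left]
    exact fun v hv => hOK _ hv
  · have hC : IsConstructible C := ((isCompact_iUnion fun i => (hO (e.symm i)).isCompact).isConstructible
      (isOpen_iUnion fun i => (O (e.symm i)).isOpen)).compl
    obtain ⟨c, hc, hcz⟩ := closure_image_subset W hC hz
    have hgc : g c = genericPoint X := (hcz.antisymm (genericPoint_specializes (α := X) _)).eq
    exact hc (Set.mem_iUnion.2 ⟨e ⟨c, hgc⟩, by rw [Equiv.symm_apply_apply]; exact hvO _⟩)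

end Groth.Agent.EtCons
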